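import Cfsg.Agent.Lib.QuadPair.SL2Elem
import Cfsg.Agent.Lib.Transfer.DicksonFinite
import Mathlib.LinearAlgebra.Projectivization.PSL.PSL2

/-!
Over a finite field `k` the elements `up c`, `lo (c λ)` generate all elementary matrices over `k[λ]`: induction
on a minimal ideal, starting from Dickson's theorem.
-/

set_option autoImplicit false

namespace CfsgLib.SL2Ring

open Matrix

universe u

/-- Over a field a proper normal subgroup of `SL₂` is scalar. -/
theorem normal_eq_top_or_scalar {F : Type*} [Field F] (h4 : 4 ≤ Nat.card F)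
    (N : Subgroup (Matrix.SpecialLinearGroup (Fin 2) F)) [N.Normal] :
    N = ⊤ ∨ ∀ g ∈ N, g.1 0 1 = 0 ∧ g.1 1 0 = 0 ∧ g.1 0 0 = g.1 1 1 := by
  have hsimple : IsSimpleGroup (Matrix.ProjectiveSpecialLinearGroup (Fin 2) F) :=
    Matrix.ProjectiveSpecialLinearGroup.rank_two_simple h4
  set Z := Subgroup.center (Matrix.SpecialLinearGroup (Fin 2) F)
  set π : Matrix.SpecialLinearGroup (Fin 2) F →* Matrix.ProjectiveSpecialLinearGroup (Fin 2) F :=
    QuotientGroup.mk' Z
  have hπ : Function.Surjective π := QuotientGroup.mk'_surjective Z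
  haveI : (N.map π).Normal := Subgroup.Normal.map inferInstance π hπ
  rcases Subgroup.Normal.eq_bot_or_eq_top (H := N.map π) inferInstance with h | h
  · right
    intro g hg
    have hz : g ∈ Z := (QuotientGroup.eq_one_iff g).1 ((Subgroup.mem_bot).1 (h ▸ Subgroup.mem_map_of_mem π hg))
    have e1 := Subgroup.mem_center_iff.1 hz (up 1)
    have e2 := Subgroup.mem_center_iff.1 hz (lo 1)
    have a1 := congrFun (congrFun (congrArg Subtype.val e1) 0) 0
    have a2 := congrFun (congrFun (congrArg Subtype.val e1) 0) 1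
    have a3 := congrFun (congrFun (congrArg Subtype.val e2) 0) 0
    simp [Matrix.mul_apply, Fin.sum_univ_two] at a1 a2 a3
    refine ⟨?_, ?_, ?_⟩ <;> grind
  · left
    obtain ⟨a, ha, ha2⟩ : ∃ a : F, a ≠ 0 ∧ a ^ 2 ≠ 1 := by
      classical
      by_contra hc
      push Not at hc
      have hsub : (Set.univ : Set F) ⊆ {0, 1, -1} := fun y _ => by
        by_cases hy : y = 0
        · exact Or.inl hy
        · exact Or.inr (sq_eq_one_iff.1 (hc y hy))
      have hle := Set.ncard_le_ncard hsub (Set.toFinite _)
      rw [Set.ncard_univ] at hle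
      have h3 : ({0, 1, -1} : Set F).ncard ≤ 3 := by
        refine (Set.ncard_insert_le _ _).trans (Nat.succ_le_succ ?_)
        refine (Set.ncard_insert_le _ _).trans ?_
        rw [Set.ncard_singleton]
      omega
    have hperf := Matrix.SL2.commutator_eq_top ha ha2
    rw [eq_top_iff, ← hperf, _root_.commutator_def, Subgroup.commutator_le]
    intro x _ y _
    rw [← QuotientGroup.ker_mk' N, MonoidHom.mem_ker, map_commutatorElement,
      commutatorElement_eq_one_iff_mul_comm]
    have hz : ∀ x : Matrix.SpecialLinearGroup (Fin 2) F, ∃ z ∈ Z, QuotientGroup.mk' N x = QuotientGroup.mk' N z := by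
      intro x
      obtain ⟨n, hn, he⟩ : π x ∈ N.map π := h ▸ Subgroup.mem_top _
      refine ⟨n⁻¹ * x, (QuotientGroup.eq).1 he, ?_⟩
      rw [map_mul, map_inv, show QuotientGroup.mk' N n = 1 from (QuotientGroup.eq_one_iff n).2 hn, inv_one, one_mul]
    obtain ⟨z, hz1, hxz⟩ := hz x
    rw [hxz, ← map_mul, ← map_mul, Subgroup.mem_center_iff.1 hz1 y]

/-- `up x` and `lo x` generate `SL₂` of a field. -/
theorem eq_top_of_up_lo {F : Type*} [Field F] {H : Subgroup (Matrix.SpecialLinearGroup (Fin 2) F)}
    (hu : ∀ x, up x ∈ H) (hl : ∀ x, lo x ∈ H) : H = ⊤ := by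
  rw [eq_top_iff]
  intro A _
  refine Matrix.SL2.transvection_induction (fun A => A ∈ H) ?_ (fun A B => H.mul_mem) A
  intro i j h c
  fin_cases i <;> fin_cases j
  · exact absurd rfl h
  · convert hu c using 1
    apply ext_entries <;> simp [Matrix.SpecialLinearGroup.transvection_coe]
  · convert hl c using 1
    apply ext_entries <;> simp [Matrix.SpecialLinearGroup.transvection_coe]
  · exact absurd rfl h

variable {k : Type*} [Field k]

theorem map_pairGp {R S : Type*} [CommRing R] [CommRing S] [Algebra k R] [Algebra k S] (f : R →ₐ[k] S) (lam : R) :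
    (pairGp k lam).map (Matrix.SpecialLinearGroup.map (n := Fin 2) (f : R →+* S)) = pairGp k (f lam) := by
  rw [pairGp, MonoidHom.map_closure, pairGp]
  congr 1
  rw [Set.image_union]
  congr 1 <;> ext g <;> constructor
  · rintro ⟨_, ⟨c, rfl⟩, rfl⟩
    exact ⟨c, by rw [map_up]; simp⟩
  · rintro ⟨c, rfl⟩
    exact ⟨_, ⟨c, rfl⟩, by rw [map_up]; simp⟩
  · rintro ⟨_, ⟨c, rfl⟩, rfl⟩
    exact ⟨c, by rw [map_lo]; simp⟩
  · rintro ⟨c, rfl⟩
    exact ⟨_, ⟨c, rfl⟩, by rw [map_lo]; simp⟩

theorem adjoin_map_top {R S : Type*} [CommRing R] [CommRing S] [Algebra k R] [Algebra k S] (f : R →ₐ[k] S)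
    (hf : Function.Surjective f) {lam : R} (hgen : Algebra.adjoin k ({lam} : Set R) = ⊤) :
    Algebra.adjoin k ({f lam} : Set S) = ⊤ := by
  rw [← Set.image_singleton, ← AlgHom.map_adjoin, hgen, Algebra.map_top, AlgHom.range_eq_top]
  exact hf

/-- The field case. -/
theorem inv_mem_of_field {R : Type*} [Field R] [Finite R] [Algebra k R] (h2 : (2 : k) ≠ 0)
    (h3 : Nat.card k ≠ 3) (l : Rˣ) : (↑l⁻¹ : R) ∈ upEntries k (l : R) := by
  classical
  have hinj := (algebraMap k R).injective
  haveI : Finite k := Finite.of_injective _ hinj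
  have h2R : (2 : R) ≠ 0 := by
    rw [← map_ofNat (algebraMap k R) 2]
    exact (map_ne_zero _).2 h2
  obtain ⟨c0, hc0, hc0'⟩ : ∃ c : k, c ≠ 0 ∧ c ^ 2 ≠ 1 := by
    by_contra hc
    push Not at hc
    have hsub : (Set.univ : Set k) ⊆ {0, 1, -1} := fun y _ => by
      by_cases hy : y = 0
      · exact Or.inl hy
      · exact Or.inr (sq_eq_one_iff.1 (hc y hy))
    have hle := Set.ncard_le_ncard hsub (Set.toFinite _)
    rw [Set.ncard_univ] at hle
    have hne : (1 : k) ≠ -1 := fun e => h2 (by linear_combination e)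
    have h33 : ({0, 1, -1} : Set k).ncard = 3 := by
      rw [Set.ncard_insert_of_notMem (by simp [eq_comm]) (Set.toFinite _), Set.ncard_pair hne]
    have hge : 3 ≤ Nat.card k := by
      have := Set.ncard_le_ncard (Set.subset_univ ({0, 1, -1} : Set k)) (Set.toFinite _)
      rwa [Set.ncard_univ, h33] at this
    omega
  obtain ⟨c, hc, hsq⟩ : ∃ c : k, c ≠ 0 ∧ (algebraMap k R c * (l : R)) ^ 2 ≠ -1 := by
    by_cases h : (l : R) ^ 2 = -1
    · refine ⟨c0, hc0, fun e => hc0' (hinj ?_)⟩
      rw [mul_pow, h, mul_neg, mul_one, neg_inj] at e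
      rwa [map_pow, map_one]
    · exact ⟨1, one_ne_zero, by simpa using h⟩
  set μ := algebraMap k R c * (l : R) with hμ
  have hμ0 : μ ≠ 0 := mul_ne_zero ((map_ne_zero _).2 hc) l.ne_zero
  set K0 := Subfield.closure ({μ} : Set R) with hK0
  have hμm : μ ∈ K0 := Subfield.subset_closure rfl
  have hgen : Subfield.closure ({⟨μ, hμm⟩} : Set K0) = ⊤ := by
    apply SetLike.coe_injective
    apply Set.image_injective.2 (Subtype.val_injective)
    rw [← Subfield.coe_subtype, ← Subfield.coe_map, ← Subfield.coe_map, RingHom.map_field_closure]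
    simp only [Set.image_singleton]
    rw [← RingHom.fieldRange_eq_map, Subfield.fieldRange_subtype]
    rfl
  obtain ⟨p, hp⟩ := CharP.exists K0
  haveI : Fact p.Prime := ⟨CharP.char_is_prime K0 p⟩
  have hp2 : p ≠ 2 := fun e => h2R (by
    have h := CharP.cast_eq_zero K0 p
    rw [e] at h
    have h' := congrArg K0.subtype h
    rw [map_natCast, map_zero] at h'
    simpa using h')
  rcases CfsgLib.Transfer.dickson_finite (p := p) hp2 (⟨μ, hμm⟩ : K0) (fun e => hμ0 (congrArg Subtype.val e)) hgen with
    h | h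
  swap
  · exact absurd (by simpa using congrArg Subtype.val h.2.1) hsq
  set H1 := (pairGp k (l : R)).map (diagConj l)
  have hle : (Subgroup.closure ({CfsgLib.Transfer.lowerU 1, CfsgLib.Transfer.upperU ⟨μ, hμm⟩} :
      Set (Matrix.SpecialLinearGroup (Fin 2) K0))) ≤ H1.comap (Matrix.SpecialLinearGroup.map (n := Fin 2) K0.subtype) := by
    rw [Subgroup.closure_le]
    rintro g (rfl | rfl) <;> rw [SetLike.mem_coe, Subgroup.mem_comap]
    · refine ⟨lo (l : R), lo_lam_mem, ?_⟩
      rw [diagConj_lo, Units.inv_mul]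
      exact (map_lo K0.subtype 1).trans (by simp) |>.symm
    · refine ⟨up (algebraMap k R c), up_mem_pairGp c, ?_⟩
      rw [diagConj_up, mul_comm]
      exact (map_up K0.subtype ⟨μ, hμm⟩).symm
  obtain ⟨g, hg, hge⟩ := hle (h.1 ▸ Subgroup.mem_top (up (1 : K0)))
  rw [map_up, map_one] at hge
  have hgu : g = up (↑l⁻¹ : R) := by
    have e00 := congrFun (congrFun (congrArg Subtype.val hge) 0) 0
    have e01 := congrFun (congrFun (congrArg Subtype.val hge) 0) 1
    have e10 := congrFun (congrFun (congrArg Subtype.val hge) 1) 0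
    have e11 := congrFun (congrFun (congrArg Subtype.val hge) 1) 1
    simp [diagConj] at e00 e01 e10 e11
    have := l.mul_inv
    apply ext_entries <;> simp <;> grind
  exact mem_upEntries.2 (hgu ▸ hg)

variable {R : Type*} [CommRing R] [Algebra k R] {lam : R}

local notation "SL2" => Matrix.SpecialLinearGroup (Fin 2) R

/-- The step from a quotient: if the kernel part is scalar, every upper matrix is generated. -/
theorem upEntries_eq_top_of_scalar_kernel (h2 : (2 : k) ≠ 0) (hlam : IsUnit lam)
    (hgen : Algebra.adjoin k ({lam} : Set R) = ⊤) (I : Ideal R)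
    (hq : upEntries k (Ideal.Quotient.mkₐ k I lam) = ⊤)
    (hP : ∀ κ ∈ pairGp k lam, Matrix.SpecialLinearGroup.map (Ideal.Quotient.mk I) κ = 1 →
      κ.1 0 1 = 0 ∧ κ.1 1 0 = 0 ∧ κ.1 0 0 = κ.1 1 1) : upEntries k lam = ⊤ := by
  have h2R : IsUnit (2 : R) := by
    rw [← map_ofNat (algebraMap k R) 2]
    exact (IsUnit.mk0 _ h2).map _
  set π := Ideal.Quotient.mk I
  set Φ := Matrix.SpecialLinearGroup.map (n := Fin 2) π
  have hlift : ∀ r : R, ∃ g ∈ pairGp k lam, Φ g = up (π r) := by
    intro r
    have h := mem_upEntries.1 (hq ▸ Submodule.mem_top : π r ∈ upEntries k (Ideal.Quotient.mkₐ k I lam))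
    rw [← map_pairGp] at h
    exact h
  have hy : ∀ r : R, ∃ y ∈ upEntries k lam, π y = π r := by
    intro r
    obtain ⟨g, hg, hge⟩ := hlift r
    have hk : g * up 1 * g⁻¹ * up (-1) ∈ pairGp k lam :=
      mul_mem (mul_mem (mul_mem hg up_one_mem) (inv_mem hg)) (up_inv (1 : R) ▸ inv_mem up_one_mem)
    have hk1 : Φ (g * up 1 * g⁻¹ * up (-1)) = 1 := by
      rw [map_mul, map_mul, map_mul, map_inv, hge, map_up, map_up, up_inv, up_mul, up_mul, up_mul, map_one, map_neg,
        map_one, ← up_zero]
      congr 1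
      ring
    obtain ⟨s1, s2, s3⟩ := hP _ hk hk1
    have hdg := g.2
    rw [Matrix.det_fin_two] at hdg
    simp [entries_mul, Matrix.SpecialLinearGroup.coe_inv, Matrix.adjugate_fin_two] at s1 s2 s3
    have hgge := congrArg (fun A : Matrix.SpecialLinearGroup (Fin 2) (R ⧸ I) => A.1) hge
    have g01 : π (g.1 0 1) = π r := congrFun (congrFun hgge 0) 1
    have g00 : π (g.1 0 0) = 1 := congrFun (congrFun hgge 0) 0
    have c0 : g.1 1 0 = 0 := by
      have hc2 : g.1 1 0 * g.1 1 0 = 0 := by grind
      have hc1 : (2 : R) * (g.1 1 0 * g.1 1 1) = 0 := by grind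
      have hc3 : g.1 1 0 * g.1 1 1 = 0 := by simpa using h2R.mul_left_cancel (hc1.trans (mul_zero _).symm)
      grind
    have ad : g.1 0 0 = g.1 1 1 := by grind
    have hgg : g * g = up (2 * (g.1 0 0 * g.1 0 1)) := by
      apply ext_entries <;> simp [entries_mul, c0, ← ad] <;> grind
    refine ⟨g.1 0 0 * g.1 0 1, ?_, by rw [map_mul, g00, g01, one_mul]⟩
    have h := (upEntries k lam).smul_mem (2⁻¹ : k) (mem_upEntries.2 (hgg ▸ mul_mem hg hg))
    rwa [Algebra.smul_def, ← mul_assoc, ← map_ofNat (algebraMap k R) 2, ← map_mul, inv_mul_cancel₀ h2, map_one,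
      one_mul] at h
  obtain ⟨l, rfl⟩ := hlam
  obtain ⟨r, hr, hre⟩ := hy (↑l⁻¹ : R)
  obtain ⟨y, hym, hye⟩ := hy (-(l : R))
  refine upEntries_eq_top_of_inv_mem hgen l.isUnit ?_ hr
  set w := up r * lo (-(l : R)) * up r with hw
  have hwm : w ∈ pairGp k (l : R) := mul_mem (mul_mem hr (lo_inv (l : R) ▸ inv_mem lo_lam_mem)) hr
  have hl : lo (-((l : R) * y)) ∈ pairGp k (l : R) := by
    rw [← lo_inv]; exact inv_mem ((lo_mul_mem_iff l.isUnit).2 hym)
  have hk : w * up 1 * w⁻¹ * lo (-((l : R) * y)) ∈ pairGp k (l : R) :=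
    mul_mem (mul_mem (mul_mem hwm up_one_mem) (inv_mem hwm)) hl
  have hll : π (l : R) * π (↑l⁻¹ : R) = 1 := by rw [← map_mul, Units.mul_inv, map_one]
  have hk1 : Φ (w * up 1 * w⁻¹ * lo (-((l : R) * y))) = 1 := by
    simp only [hw, map_mul, map_inv, Φ, map_up, map_lo, map_neg, map_one, hre, hye]
    apply ext_entries <;>
      simp [entries_mul, Matrix.SpecialLinearGroup.coe_inv, Matrix.adjugate_fin_two] <;> grind
  obtain ⟨s1, s2, s3⟩ := hP _ hk hk1
  simp [hw, entries_mul, Matrix.SpecialLinearGroup.coe_inv, Matrix.adjugate_fin_two] at s1 s2 s3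
  have hlu := l.mul_inv
  have e1 : ((1 : R) - (l : R) * r) * ((1 : R) - (l : R) * r) = 0 := by grind
  have e2 : (2 : R) * (l : R) * (1 - (l : R) * r) = 0 := by grind
  have e3 : 1 - (l : R) * r = 0 := by
    refine (h2R.mul l.isUnit).mul_left_cancel ?_
    rw [e2, mul_zero]
  linear_combination -e3

variable (k) in
/-- Over a finite field all upper elementary matrices are generated. -/
theorem upEntries_eq_top_of_finite (h2 : (2 : k) ≠ 0) (h3 : Nat.card k ≠ 3) :
    ∀ (n : ℕ) (R : Type u) [CommRing R] [Algebra k R] [Finite R] (lam : R), Nat.card R = n → IsUnit lam →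
      Algebra.adjoin k ({lam} : Set R) = ⊤ → upEntries k lam = ⊤ := by
  intro n
  induction n using Nat.strong_induction_on with
  | _ n ih =>
    intro R _ _ _ lam hn hlam hgen
    rcases subsingleton_or_nontrivial R with hs | hnt
    · exact eq_top_iff.2 fun x _ => by rw [Subsingleton.elim x 0]; exact zero_mem _
    by_cases hF : IsField R
    · letI := hF.toField
      obtain ⟨l, rfl⟩ := hlam
      exact upEntries_eq_top_of_inv_mem hgen l.isUnit l.inv_mul (inv_mem_of_field h2 h3 l)
    obtain ⟨J0, hJ0, hJ0'⟩ := Ring.not_isField_iff_exists_ideal_bot_lt_and_lt_top.1 hF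
    haveI : Finite (Ideal R) := Finite.of_injective _ SetLike.coe_injective
    obtain ⟨I, hImin⟩ := exists_minimal_of_wellFoundedLT (fun I : Ideal R => I ≠ ⊥) ⟨J0, hJ0.ne'⟩
    have hItop : I ≠ ⊤ := fun e => hJ0'.ne (top_le_iff.1 (e ▸ hImin.le_of_le hJ0.ne' (e ▸ le_top)))
    have hquot : ∀ J : Ideal R, J ≠ ⊥ → upEntries k (Ideal.Quotient.mkₐ k J lam) = ⊤ ∧
        IsUnit (Ideal.Quotient.mkₐ k J lam) := by
      intro J hJ
      have hu : IsUnit (Ideal.Quotient.mkₐ k J lam) := hlam.map _
      haveI : Finite (R ⧸ J) := Finite.of_surjective _ Ideal.Quotient.mk_surjective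
      refine ⟨ih _ ?_ (R ⧸ J) _ rfl hu (adjoin_map_top _ (Ideal.Quotient.mkₐ_surjective k J) hgen), hu⟩
      rw [← hn]
      haveI : Finite (R ⧸ J) := Finite.of_surjective _ Ideal.Quotient.mk_surjective
      cases nonempty_fintype R
      haveI := Fintype.ofFinite (R ⧸ J)
      rw [Nat.card_eq_fintype_card, Nat.card_eq_fintype_card]
      refine Fintype.card_lt_of_surjective_not_injective _ (Ideal.Quotient.mk_surjective (I := J)) fun hi => hJ ?_
      rw [← Ideal.mk_ker (I := J), (RingHom.injective_iff_ker_eq_bot _).1 hi]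
    by_cases htop : upEntries k lam = ⊤
    · exact htop
    refine upEntries_eq_top_of_scalar_kernel h2 hlam hgen I (hquot I hImin.1).1 fun κ hκ hκ1 => ?_
    set π := Ideal.Quotient.mk I
    have hmemI : ∀ i j : Fin 2, κ.1 i j - (1 : Matrix (Fin 2) (Fin 2) R) i j ∈ I := by
      intro i j
      rw [← Ideal.Quotient.eq]
      have h := congrFun (congrFun (congrArg Subtype.val hκ1) i) j
      fin_cases i <;> fin_cases j <;> simpa using h
    by_cases hsq : ∀ x ∈ I, ∀ y ∈ I, x * y = 0
    · -- a nilpotent minimal ideal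
      have hJ : ∀ i ∈ I, up i ∈ pairGp k lam → i = 0 := by
        intro i hi hm
        by_contra hi0
        apply htop
        let J : Submodule k R := (I.restrictScalars k) ⊓ upEntries k lam
        have hJmul : ∀ z ∈ J, lam * z ∈ J := by
          rintro z ⟨hz, hzm⟩
          refine ⟨I.mul_mem_left lam hz, ?_⟩
          obtain ⟨l, rfl⟩ := hlam
          have hh : up z * lo (l : R) * up (-z) * lo (-(l : R)) ∈ pairGp k (l : R) :=
            mul_mem (mul_mem (mul_mem hzm lo_lam_mem) ((upEntries k (l : R)).neg_mem hzm)) (lo_inv (l : R) ▸ inv_mem lo_lam_mem)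
          have hf := flipConj_mem l rfl hh
          have hc := mul_mem (mul_mem (mul_mem hf up_one_mem) (inv_mem hf)) (up_inv (1 : R) ▸ inv_mem up_one_mem)
          have hz2 : z * z = 0 := hsq z hz z hz
          have e : flipConj l (up z * lo (l : R) * up (-z) * lo (-(l : R))) * up 1 *
              (flipConj l (up z * lo (l : R) * up (-z) * lo (-(l : R))))⁻¹ * up (-1) =
              up (-2 * ((l : R) * z)) := by
            have := l.mul_inv
            apply ext_entries <;>
              simp [flipConj, entries_mul, Matrix.SpecialLinearGroup.coe_inv, Matrix.adjugate_fin_two] <;> grind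
          rw [e] at hc
          have h := (upEntries k (l : R)).smul_mem ((-2 : k)⁻¹) (mem_upEntries.2 hc)
          rwa [Algebra.smul_def, ← mul_assoc, show (-2 : R) = algebraMap k R (-2) by simp [map_ofNat], ← map_mul,
            inv_mul_cancel₀ (neg_ne_zero.2 h2), map_one, one_mul] at h
        have hideal : ∀ x : R, ∀ z ∈ J, x * z ∈ J := by
          intro x
          have hx : x ∈ Algebra.adjoin k ({lam} : Set R) := hgen ▸ Algebra.mem_top
          induction hx using Algebra.adjoin_induction with
          | mem z hz => rw [Set.mem_singleton_iff.1 hz]; exact hJmul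
          | algebraMap c => intro y hy; rw [← Algebra.smul_def]; exact J.smul_mem c hy
          | add a b _ _ iha ihb => intro y hy; rw [add_mul]; exact J.add_mem (iha y hy) (ihb y hy)
          | mul a b _ _ iha ihb => intro y hy; rw [mul_assoc]; exact iha _ (ihb y hy)
        let J' : Ideal R := { carrier := J, add_mem' := J.add_mem, zero_mem' := J.zero_mem,
                              smul_mem' := hideal }
        have hle : I ≤ J' := hImin.le_of_le (fun e => hi0 ((Submodule.mem_bot R).1 (e ▸ (⟨hi, hm⟩ : i ∈ J'))))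
          (fun z hz => hz.1)
        have hup : ∀ z ∈ I, up z ∈ pairGp k lam := fun z hz => (hle hz).2
        have hlo : ∀ z ∈ I, lo z ∈ pairGp k lam := by
          intro z hz
          obtain ⟨l, rfl⟩ := hlam
          have := (lo_mul_mem_iff (k := k) l.isUnit).2 (hup _ (I.mul_mem_left (↑l⁻¹ : R) hz))
          rwa [← mul_assoc, Units.mul_inv, one_mul] at this
        rw [eq_top_iff]
        intro x hxtop
        clear hxtop
        have h := mem_upEntries.1 ((hquot I hImin.1).1 ▸ Submodule.mem_top :
          π x ∈ upEntries k (Ideal.Quotient.mkₐ k I lam))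
        rw [← map_pairGp] at h
        obtain ⟨g, hg, hge⟩ := h
        have hk1 : Matrix.SpecialLinearGroup.map π (g⁻¹ * up x) = 1 := by
          rw [map_mul, map_inv, map_up]
          exact inv_mul_eq_one.2 hge
        set δ := g⁻¹ * up x with hδ
        have hmem : ∀ i j : Fin 2, δ.1 i j - (1 : Matrix (Fin 2) (Fin 2) R) i j ∈ I := by
          intro i j
          rw [← Ideal.Quotient.eq]
          have h := congrFun (congrFun (congrArg Subtype.val hk1) i) j
          fin_cases i <;> fin_cases j <;> simpa using h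
        obtain ⟨l, rfl⟩ := hlam
        have ha := hmem 0 0
        have hb := hmem 0 1
        have hc := hmem 1 0
        have hd := hmem 1 1
        simp at ha hb hc hd
        have hi' : (↑l⁻¹ : R) * (δ.1 0 0 - 1) ∈ I := I.mul_mem_left _ ha
        set i' := (↑l⁻¹ : R) * (δ.1 0 0 - 1) with hi'def
        have hy' : δ.1 1 0 - i' * ((l : R) * (l : R)) ∈ I := I.sub_mem hc (I.mul_mem_right _ hi')
        have hdec : δ = up i' * lo (l : R) * up (-i') * lo (-(l : R)) *
            lo (δ.1 1 0 - i' * ((l : R) * (l : R))) * up (δ.1 0 1) := by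
          have hdet := δ.2
          rw [Matrix.det_fin_two] at hdet
          have := l.mul_inv
          have z1 := hsq _ ha _ ha
          have z2 := hsq _ hb _ hc
          have z3 := hsq _ ha _ hd
          have z4 := hsq _ ha _ hb
          have z5 := hsq _ ha _ hc
          apply ext_entries <;> simp [entries_mul, hi'def] <;> grind
        have hδm : δ ∈ pairGp k (l : R) := by
          rw [hdec]
          exact mul_mem (mul_mem (mul_mem (mul_mem (mul_mem (hup _ hi') lo_lam_mem) ((upEntries k (l : R)).neg_mem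
            (mem_upEntries.2 (hup _ hi')))) (lo_inv (l : R) ▸ inv_mem lo_lam_mem)) (hlo _ hy')) (hup _ hb)
        have := mul_mem hg hδm
        rwa [hδ, mul_inv_cancel_left] at this
      have ha := hmemI 0 0
      have hb := hmemI 0 1
      have hc := hmemI 1 0
      have hd := hmemI 1 1
      simp at ha hb hc hd
      have hdet := κ.2
      rw [Matrix.det_fin_two] at hdet
      have z1 := hsq _ ha _ ha
      have z2 := hsq _ hb _ hc
      have z3 := hsq _ ha _ hd
      have z4 := hsq _ ha _ hb
      have z5 := hsq _ ha _ hc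
      have z6 := hsq _ hc _ hd
      have z7 := hsq _ hc _ hc
      have z8 := hsq _ hb _ hd
      have h2R : IsUnit (2 : R) := by
        rw [← map_ofNat (algebraMap k R) 2]
        exact (IsUnit.mk0 _ h2).map _
      have hu : up (1 : R) ∈ pairGp k lam := up_one_mem
      have hc0 : κ.1 1 0 = 0 := by
        have hm := mul_mem (mul_mem (mul_mem (mul_mem hu hκ) (inv_mem hu))
          (mul_mem (mul_mem (inv_mem hu) hκ) hu)) (inv_mem (mul_mem hκ hκ))
        have e : up 1 * κ * (up 1)⁻¹ * ((up 1)⁻¹ * κ * up 1) * (κ * κ)⁻¹ = up (-2 * κ.1 1 0) := by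
          apply ext_entries <;>
            simp [entries_mul, Matrix.SpecialLinearGroup.coe_inv, Matrix.adjugate_fin_two] <;> grind
        rw [e] at hm
        have := hJ _ (I.mul_mem_left _ hc) hm
        rw [neg_mul, neg_eq_zero] at this
        simpa using h2R.mul_left_cancel (this.trans (mul_zero _).symm)
      have ha1 : κ.1 0 0 = κ.1 1 1 := by
        have hm := mul_mem (mul_mem (mul_mem hu hκ) (inv_mem hu)) (inv_mem hκ)
        have e : up 1 * κ * (up 1)⁻¹ * κ⁻¹ = up (κ.1 1 1 - κ.1 0 0) := by
          apply ext_entries <;>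
            simp [entries_mul, Matrix.SpecialLinearGroup.coe_inv, Matrix.adjugate_fin_two] <;> grind
        rw [e] at hm
        have := hJ _ (by simpa using I.sub_mem hd ha) hm
        exact (sub_eq_zero.1 this).symm
      have hb0 : κ.1 0 1 = 0 := by
        have e : κ = up (κ.1 0 1) := by
          have : (2 : R) * (κ.1 0 0 - 1) = 0 := by grind
          have ha' : κ.1 0 0 - 1 = 0 := by simpa using h2R.mul_left_cancel (this.trans (mul_zero _).symm)
          apply ext_entries <;> simp <;> grind
        exact hJ _ hb (e ▸ hκ)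
      exact ⟨hb0, hc0, ha1⟩
    · -- an idempotent minimal ideal
      push Not at hsq
      obtain ⟨x, hx, y, hy, hxy⟩ := hsq
      have hann : ∀ i ∈ I, x * i = 0 → i = 0 := by
        intro i hi h0
        by_contra hi0
        let A : Ideal R :=
          { carrier := {i | i ∈ I ∧ x * i = 0}
            add_mem' := fun {a b} ha hb => ⟨I.add_mem ha.1 hb.1, by rw [mul_add, ha.2, hb.2, add_zero]⟩
            zero_mem' := ⟨I.zero_mem, mul_zero x⟩
            smul_mem' := fun c a ha => ⟨I.mul_mem_left c ha.1, by rw [smul_eq_mul, mul_left_comm, ha.2, mul_zero]⟩ }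
        have hle := hImin.le_of_le (y := A) (fun e => hi0 ((Submodule.mem_bot R).1 (e ▸ (⟨hi, h0⟩ : i ∈ A))))
          (fun a ha => ha.1)
        exact hxy (hle hy).2
      obtain ⟨e, he, hxe⟩ : ∃ e ∈ I, x * e = x := by
        have hle := hImin.le_of_le (y := Ideal.span {x} * I) (fun h0 => hxy ((Submodule.mem_bot R).1
          (h0 ▸ Ideal.mul_mem_mul (Ideal.subset_span rfl) hy))) Ideal.mul_le_right
        exact Ideal.mem_span_singleton_mul.1 (hle hx)
      have hei : ∀ i ∈ I, e * i = i := fun i hi =>
        sub_eq_zero.1 (hann _ (I.sub_mem (I.mul_mem_left e hi) hi) (by rw [mul_sub, ← mul_assoc, hxe, sub_self]))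
      have hee : e * e = e := hei e he
      set J : Ideal R := Ideal.span {1 - e} with hJdef
      have heJ : ∀ z ∈ J, z * e = 0 := by
        intro z hz
        obtain ⟨w, rfl⟩ := Ideal.mem_span_singleton'.1 hz
        rw [mul_assoc, sub_mul, one_mul, hee, sub_self, mul_zero]
      have hJne : J ≠ ⊥ := by
        intro h0
        apply hItop
        rw [Ideal.eq_top_iff_one]
        have h1e : (1 - e) ∈ J := Ideal.mem_span_singleton_self _
        rw [h0] at h1e
        have := (Submodule.mem_bot R).1 h1e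
        rwa [sub_eq_zero.1 this]
      have hJmax : J.IsMaximal := by
        refine Ideal.isMaximal_iff.2 ⟨fun h1 => hxy ?_, fun K z hJK hzJ hzK => ?_⟩
        · have := heJ 1 h1
          rw [one_mul] at this
          rw [← hxe, this, mul_zero, zero_mul]
        · have hne : Ideal.span {z * e} ≠ ⊥ := by
            intro h0
            apply hzJ
            have h0' : z * e = 0 := (Submodule.mem_bot R).1 (h0 ▸ Ideal.mem_span_singleton_self (z * e))
            exact Ideal.mem_span_singleton'.2 ⟨z, by rw [mul_sub, mul_one, h0', sub_zero]⟩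
          have hle := hImin.le_of_le hne (Ideal.span_le.2 (by simp [I.mul_mem_left z he]))
          obtain ⟨w, hw⟩ := Ideal.mem_span_singleton'.1 (hle he)
          have h1 : (1 : R) = (w * e) * z + (1 - e) := by linear_combination -hw
          rw [h1]
          exact K.add_mem (K.mul_mem_left _ hzK) (hJK (Ideal.mem_span_singleton_self _))
      letI := Ideal.Quotient.field J
      haveI : Finite (R ⧸ J) := Finite.of_surjective _ Ideal.Quotient.mk_surjective
      have hdisj : ∀ z ∈ I, z ∈ J → z = 0 := fun z hzI hzJ => by rw [← hei z hzI, mul_comm]; exact heJ z hzJ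
      set ρ := Matrix.SpecialLinearGroup.map (n := Fin 2) (Ideal.Quotient.mk J)
      set πS := Matrix.SpecialLinearGroup.map (n := Fin 2) π
      have hfull : (pairGp k lam).map ρ = ⊤ := by
        obtain ⟨hqJ, hu⟩ := hquot J hJne
        have := map_pairGp (Ideal.Quotient.mkₐ k J) lam
        rw [show ρ = Matrix.SpecialLinearGroup.map ((Ideal.Quotient.mkₐ k J : R →ₐ[k] R ⧸ J) : R →+* R ⧸ J) from rfl,
          this]
        exact eq_top_of_up_lo (fun x => mem_upEntries.1 (hqJ ▸ Submodule.mem_top))
          (fun x => lo_mem_of_upEntries_top hu hqJ x)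
      set N := (pairGp k lam ⊓ πS.ker).map ρ with hN
      haveI : N.Normal := by
        refine ⟨fun z hz q => ?_⟩
        obtain ⟨m, hm, rfl⟩ := hz
        obtain ⟨g, hg, rfl⟩ : q ∈ (pairGp k lam).map ρ := hfull ▸ Subgroup.mem_top q
        refine ⟨g * m * g⁻¹, ⟨(pairGp k lam).mul_mem ((pairGp k lam).mul_mem hg hm.1) ((pairGp k lam).inv_mem hg), ?_⟩, by simp⟩
        exact (MonoidHom.normal_ker πS).conj_mem m hm.2 g
      have hcard : 4 ≤ Nat.card (R ⧸ J) := by
        have hinj := (algebraMap k (R ⧸ J)).injective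
        haveI : Finite k := Finite.of_injective _ hinj
        have hk : 4 ≤ Nat.card k := by
          have h1 : 1 < Nat.card k := Finite.one_lt_card
          by_contra hlt
          have hk2 : Nat.card k = 2 := by omega
          haveI := Fintype.ofFinite k
          refine h2 ?_
          have := FiniteField.cast_card_eq_zero k
          rw [← Nat.card_eq_fintype_card, hk2] at this
          simpa using this
        exact hk.trans (Nat.card_le_card_of_injective _ hinj)
      have hsep : ∀ g g' : Matrix.SpecialLinearGroup (Fin 2) R, πS g = πS g' → ρ g = ρ g' → g = g' := by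
        intro g g' h1 h2
        refine Subtype.ext (Matrix.ext fun i j => sub_eq_zero.1 (hdisj _ ?_ ?_))
        · exact Ideal.Quotient.eq.1 (congrFun (congrFun (congrArg Subtype.val h1) i) j)
        · exact Ideal.Quotient.eq.1 (congrFun (congrFun (congrArg Subtype.val h2) i) j)
      rcases normal_eq_top_or_scalar hcard N with hNt | hNs
      · exfalso
        apply htop
        rw [eq_top_iff]
        intro z hztop
        clear hztop
        have h := mem_upEntries.1 ((hquot I hImin.1).1 ▸ Submodule.mem_top :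
          π z ∈ upEntries k (Ideal.Quotient.mkₐ k I lam))
        rw [← map_pairGp] at h
        obtain ⟨g, hg, hge⟩ := h
        obtain ⟨m, hm, hme⟩ : (ρ g)⁻¹ * ρ (up z) ∈ N := hNt ▸ Subgroup.mem_top _
        have : g * m = up z := by
          refine hsep _ _ ?_ (by rw [map_mul, hme, mul_inv_cancel_left])
          rw [map_mul, show πS m = 1 from hm.2, mul_one, map_up]
          exact hge
        exact mem_upEntries.2 (this ▸ mul_mem hg hm.1)
      · obtain ⟨a1, a2, a3⟩ := hNs _ (Subgroup.mem_map_of_mem ρ (show κ ∈ pairGp k lam ⊓ πS.ker from ⟨hκ, hκ1⟩))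
        have hb := hmemI 0 1
        have hc := hmemI 1 0
        have hd := I.sub_mem (hmemI 0 0) (hmemI 1 1)
        simp at hb hc hd
        refine ⟨hdisj _ hb (Ideal.Quotient.eq_zero_iff_mem.1 a1), hdisj _ hc (Ideal.Quotient.eq_zero_iff_mem.1 a2),
          sub_eq_zero.1 (hdisj _ hd (Ideal.Quotient.eq.1 a3))⟩

end CfsgLib.SL2Ring
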