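import Cfsg.Agent.Lib.QuadPair.Nilpotent

/-!
A family of square zero operators which is stable under conjugation by its members and in which any two members
span a nilpotent algebra spans a nilpotent algebra; every minimal operator has a non-nilpotent partner.
-/

set_option autoImplicit false

namespace CfsgLib.QuadPair

open Cfsg LinearMap

universe u v

variable {k : Type u} [Field k] {M : Type v} [AddCommGroup M] [Module k M]

theorem pow_le_degGE_of_le {P R : Submodule k (Module.End k M)} (h : R ≤ degGE P 1) :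
    ∀ n, R ^ n ≤ degGE P n
  | 0 => pow_le_degGE (m := 0) le_rfl |>.trans' (by rw [pow_zero, pow_zero])
  | n + 1 => by
    rw [pow_succ]
    exact (mul_le_mul' (pow_le_degGE_of_le h n) h).trans (degGE_mul_le n 1)

theorem degGE_mono {P R : Submodule k (Module.End k M)} (h : P ≤ R) (n : ℕ) : degGE P n ≤ degGE R n :=
  degGE_le_iff.2 fun m =>
    (pow_le_degGE_of_le (h.trans le_degGE_one) (n + m)).trans (degGE_anti (Nat.le_add_right n m))

/-- `L I ⊆ I L + I`, `L³ = 0` and `I` nilpotent give a nilpotent sum. -/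
theorem exists_sup_pow_eq_bot {I L : Submodule k (Module.End k M)} {N : ℕ} (h : L * I ≤ I * L ⊔ I)
    (hL : L ^ 3 = ⊥) (hI : I ^ N = ⊥) : ∃ m, (I ⊔ L) ^ m = ⊥ := by
  let W : ℕ → Submodule k (Module.End k M) := fun m => ⨆ i, ⨆ j, ⨆ (_ : j ≤ 2 ∧ m ≤ 3 * i + j), I ^ i * L ^ j
  have hmem : ∀ {m : ℕ} (i j : ℕ), j ≤ 2 → m ≤ 3 * i + j → I ^ i * L ^ j ≤ W m := fun i j h1 h2 =>
    le_iSup_of_le i (le_iSup_of_le j (le_iSup_of_le ⟨h1, h2⟩ le_rfl))
  have hW : ∀ m, (I ⊔ L) ^ m ≤ W m := by
    intro m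
    induction m with
    | zero => exact le_of_eq_of_le (by rw [pow_zero, pow_zero, pow_zero, one_mul]) (hmem 0 0 (by omega) (by omega))
    | succ m ih =>
      rw [pow_succ]
      refine (mul_le_mul' ih le_rfl).trans ?_
      simp only [W, Submodule.iSup_mul]
      refine iSup_le fun i => iSup_le fun j => iSup_le fun hij => ?_
      obtain ⟨hj, hm⟩ := hij
      rw [Submodule.mul_sup, mul_assoc, mul_assoc, ← pow_succ L j]
      refine sup_le ?_ ?_
      · interval_cases j
        · rw [pow_zero, one_mul, ← pow_succ, ← mul_one (I ^ (i + 1)), ← pow_zero L]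
          exact hmem _ _ (by omega) (by omega)
        · rw [pow_one]
          refine (mul_le_mul' le_rfl h).trans ?_
          rw [Submodule.mul_sup, ← mul_assoc, ← pow_succ]
          refine sup_le ?_ ?_
          · refine le_of_eq_of_le ?_ (hmem (i + 1) 1 (by omega) (by omega)); rw [pow_one]
          · refine le_of_eq_of_le ?_ (hmem (i + 1) 0 (by omega) (by omega)); rw [pow_zero, mul_one]
        · have h2 : L ^ 2 * I ≤ I * L ^ 2 ⊔ (I * L ⊔ I) := by
            rw [pow_two, mul_assoc]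
            refine (mul_le_mul' le_rfl h).trans ?_
            rw [Submodule.mul_sup, ← mul_assoc L I L]
            refine sup_le ((mul_le_mul' h le_rfl).trans ?_) (h.trans le_sup_right)
            rw [Submodule.sup_mul, mul_assoc]
            exact sup_le_sup_left le_sup_left _
          refine (mul_le_mul' le_rfl h2).trans ?_
          rw [Submodule.mul_sup, Submodule.mul_sup, ← mul_assoc, ← mul_assoc, ← pow_succ]
          refine sup_le (hmem _ _ (by omega) (by omega)) (sup_le ?_ ?_)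
          · refine le_of_eq_of_le ?_ (hmem (i + 1) 1 (by omega) (by omega)); rw [pow_one]
          · refine le_of_eq_of_le ?_ (hmem (i + 1) 0 (by omega) (by omega)); rw [pow_zero, mul_one]
      · rcases Nat.lt_or_ge j 2 with hj2 | hj2
        · exact hmem _ _ (by omega) (by omega)
        · rw [show j + 1 = 3 by omega, hL, Submodule.mul_bot]
          exact bot_le
  refine ⟨3 * N + 3, le_bot_iff.1 ((hW _).trans ?_)⟩
  simp only [W, iSup_le_iff]
  intro i j hij
  obtain ⟨a, rfl⟩ := Nat.exists_eq_add_of_le (show N ≤ i by omega)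
  rw [pow_add, hI, Submodule.bot_mul, Submodule.bot_mul]

/-- `P` is nilpotent and spanned by its intersection with `S`. -/
def IsGoodSpan (S : Set (Module.End k M)) (P : Submodule k (Module.End k M)) : Prop :=
  P = Submodule.span k (S ∩ (P : Set (Module.End k M))) ∧ ∃ N, P ^ N = ⊥

theorem span_inter_eq {S : Set (Module.End k M)} {T : Set (Module.End k M)} (hT : T ⊆ S) :
    Submodule.span k T = Submodule.span k (S ∩ (Submodule.span k T : Set (Module.End k M))) :=
  le_antisymm (Submodule.span_mono fun _ hx => ⟨hT hx, Submodule.subset_span hx⟩)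
    (Submodule.span_le.2 fun _ hx => hx.2)

variable [FiniteDimensional k M]

theorem exists_maximal_good {S : Set (Module.End k M)} {P : Submodule k (Module.End k M)} (hP : IsGoodSpan S P) :
    ∃ Q, P ≤ Q ∧ IsGoodSpan S Q ∧ ∀ R, IsGoodSpan S R → Q ≤ R → R = Q := by
  obtain ⟨Q, ⟨hQ, hPQ⟩, hmax⟩ := wellFounded_gt.has_min {R | IsGoodSpan S R ∧ P ≤ R} ⟨P, hP, le_rfl⟩
  exact ⟨Q, hPQ, hQ, fun R hR hQR => (eq_of_le_of_not_lt hQR (hmax R ⟨hR, hPQ.trans hQR⟩)).symm⟩

theorem saturated {S : Set (Module.End k M)} {P : Submodule k (Module.End k M)} (hP : IsGoodSpan S P)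
    (hmax : ∀ R, IsGoodSpan S R → P ≤ R → R = P) {X : Module.End k M} (hX : X ∈ S) (hX' : X ∈ degGE P 1) :
    X ∈ P := by
  obtain ⟨hspan, N, hN⟩ := hP
  have hle : P ≤ Submodule.span k (S ∩ (degGE P 1 : Set (Module.End k M))) :=
    hspan.le.trans (Submodule.span_mono fun _ hx => ⟨hx.1, le_degGE_one hx.2⟩)
  have hgood : IsGoodSpan S (Submodule.span k (S ∩ (degGE P 1 : Set (Module.End k M)))) := by
    refine ⟨span_inter_eq Set.inter_subset_left, N, le_bot_iff.1 ?_⟩
    refine (pow_le_degGE_of_le (Submodule.span_le.2 fun _ hx => hx.2) N).trans ?_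
    rw [degGE_eq_bot hN le_rfl]
  have := Submodule.subset_span (R := k) (show X ∈ S ∩ (degGE P 1 : Set (Module.End k M)) from ⟨hX, hX'⟩)
  rwa [hmax _ hgood hle] at this

/-- A member of `P` outside `I` normalising `I`. -/
theorem exists_normalising {S : Set (Module.End k M)} (hconj : ∀ x ∈ S, ∀ X ∈ S, X + (x * X - X * x) ∈ S)
    {P I : Submodule k (Module.End k M)} (hP : IsGoodSpan S P) (hmax : ∀ R, IsGoodSpan S R → P ≤ R → R = P)
    (hIP : I ≤ P) (hne : I ≠ P) (hJ : ∀ X ∈ S, X ∈ degGE I 1 → X ∈ I) :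
    ∃ x ∈ S, x ∈ P ∧ x ∉ I ∧ ∀ X ∈ S, X ∈ I → x * X - X * x ∈ I := by
  set J := degGE I 1
  obtain ⟨N, hN⟩ := hP.2
  let p : ℕ → Prop := fun i => ∃ x ∈ S, x ∈ P ∧ x ∉ J ∧ x ∈ J ⊔ degGE P i
  have hp1 : p 1 := by
    by_contra hc
    apply hne
    refine le_antisymm hIP (hP.1.le.trans (Submodule.span_le.2 fun x hx => hJ x hx.1 ?_))
    by_contra hxJ
    exact hc ⟨x, hx.1, hx.2, hxJ, Submodule.mem_sup_right (le_degGE_one hx.2)⟩
  have hpN : ¬ p (N + 1) := by
    rintro ⟨x, -, -, hxJ, hx⟩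
    rw [degGE_eq_bot hN (Nat.le_succ N), sup_bot_eq] at hx
    exact hxJ hx
  obtain ⟨i, hi1, hpi, hpi'⟩ : ∃ i, 1 ≤ i ∧ p i ∧ ¬ p (i + 1) := by
    by_contra hc
    push Not at hc
    have : ∀ n, p (n + 1) := by
      intro n
      induction n with
      | zero => exact hp1
      | succ n ih => exact hc (n + 1) (by omega) ih
    exact hpN (this N)
  obtain ⟨x, hxS, hxP, hxJ, hx⟩ := hpi
  refine ⟨x, hxS, hxP, fun h => hxJ (le_degGE_one h), fun X hXS hXI => ?_⟩
  obtain ⟨j, hj, r, hr, hjr⟩ := Submodule.mem_sup.1 hx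
  have hXJ : X ∈ J := le_degGE_one hXI
  have hXP : X ∈ degGE P 1 := le_degGE_one (hIP hXI)
  have hxP1 : x ∈ degGE P 1 := le_degGE_one hxP
  have hin : X + (x * X - X * x) ∈ P :=
    saturated hP hmax (hconj x hxS X hXS) (add_mem hXP (sub_mem (mul_mem_degGE (by omega) hxP1 hXP)
      (mul_mem_degGE (by omega) hXP hxP1)))
  have hV : X + (x * X - X * x) ∈ J ⊔ degGE P (i + 1) := by
    have e : X + (x * X - X * x) = (X + (j * X - X * j)) + (r * X - X * r) := by
      rw [← hjr, add_mul, mul_add]; abel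
    rw [e]
    exact add_mem
      (Submodule.mem_sup_left (add_mem hXJ (sub_mem (mul_mem_degGE (by omega) hj hXJ) (mul_mem_degGE (by omega) hXJ hj))))
      (Submodule.mem_sup_right (sub_mem (mul_mem_degGE le_rfl hr hXP) (mul_mem_degGE (by omega) hXP hr)))
  have hres : X + (x * X - X * x) ∈ J := by
    by_contra hc
    exact hpi' ⟨_, hconj x hxS X hXS, hin, hc, hV⟩
  have := sub_mem (hJ _ (hconj x hxS X hXS) hres) hXI
  rwa [add_sub_cancel_left] at this

/-- Baer's theorem for square zero operators. -/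
theorem exists_span_pow_eq_bot {S : Set (Module.End k M)}
    (hconj : ∀ x ∈ S, ∀ X ∈ S, X + (x * X - X * x) ∈ S)
    (hpair : ∀ x ∈ S, ∀ y ∈ S, pairSpan x y ^ 3 = ⊥) : ∃ N, Submodule.span k S ^ N = ⊥ := by
  let Mx : Submodule k (Module.End k M) → Prop := fun P => IsGoodSpan S P ∧ ∀ R, IsGoodSpan S R → P ≤ R → R = P
  have hgood2 : ∀ x ∈ S, ∀ y ∈ S, IsGoodSpan S (pairSpan x y) := fun x hx y hy =>
    ⟨span_inter_eq (by rintro z (rfl | rfl) <;> assumption), 3, hpair x hx y hy⟩
  have huniq : ∀ P1 P2, Mx P1 → Mx P2 → P1 = P2 := by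
    by_contra hc
    push Not at hc
    obtain ⟨A1, A2, hA1, hA2, hA12⟩ := hc
    let ℐ : Set (Submodule k (Module.End k M)) := {I | ∃ P1 P2, Mx P1 ∧ Mx P2 ∧ P1 ≠ P2 ∧
      I = Submodule.span k (S ∩ ((P1 ⊓ P2 : Submodule k (Module.End k M)) : Set (Module.End k M)))}
    obtain ⟨I, ⟨P1, P2, h1, h2, h12, hI⟩, hImax⟩ := wellFounded_gt.has_min ℐ ⟨_, A1, A2, hA1, hA2, hA12, rfl⟩
    have hle : I ≤ P1 ⊓ P2 := hI.le.trans (Submodule.span_le.2 fun _ hx => hx.2)
    have hJ : ∀ X ∈ S, X ∈ degGE I 1 → X ∈ I := fun X hX hX' => hI ▸ Submodule.subset_span ⟨hX,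
      saturated h1.1 h1.2 hX (degGE_mono (hle.trans inf_le_left) 1 hX'),
      saturated h2.1 h2.2 hX (degGE_mono (hle.trans inf_le_right) 1 hX')⟩
    have hne1 : I ≠ P1 := fun e => h12 (h1.2 P2 h2.1 (e ▸ hle.trans inf_le_right)).symm
    have hne2 : I ≠ P2 := fun e => h12 (h2.2 P1 h1.1 (e ▸ hle.trans inf_le_left))
    obtain ⟨x, hxS, hxP, hxI, hxn⟩ := exists_normalising hconj h1.1 h1.2 (hle.trans inf_le_left) hne1 hJ
    obtain ⟨y, hyS, hyP, hyI, hyn⟩ := exists_normalising hconj h2.1 h2.2 (hle.trans inf_le_right) hne2 hJ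
    obtain ⟨N, hN⟩ := h1.1.2
    have hIN : I ^ N = ⊥ := le_bot_iff.1 (((pow_le_pow_left' (hle.trans inf_le_left) N)).trans hN.le)
    have hIspan : I = Submodule.span k (S ∩ (I : Set (Module.End k M))) := by
      rw [hI]; exact span_inter_eq Set.inter_subset_left
    have hcomm : pairSpan x y * I ≤ I * pairSpan x y ⊔ I := by
      conv_lhs => rw [hIspan, pairSpan, Submodule.span_mul_span]
      rw [Submodule.span_le]
      rintro _ ⟨z, hz, X, ⟨hXS, hXI⟩, rfl⟩
      have key : z * X = X * z + (z * X - X * z) := by abel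
      show z * X ∈ _
      rw [key]
      rcases hz with rfl | rfl
      · exact Submodule.add_mem_sup (Submodule.mul_mem_mul hXI left_mem_pairSpan) (hxn X hXS hXI)
      · exact Submodule.add_mem_sup (Submodule.mul_mem_mul hXI right_mem_pairSpan) (hyn X hXS hXI)
    obtain ⟨m, hm⟩ := exists_sup_pow_eq_bot hcomm (hpair x hxS y hyS) hIN
    have hQ : IsGoodSpan S (I ⊔ pairSpan x y) := by
      refine ⟨?_, m, hm⟩
      have e : I ⊔ pairSpan x y = Submodule.span k ((S ∩ (I : Set (Module.End k M))) ∪ {x, y}) := by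
        rw [Submodule.span_union, ← hIspan, pairSpan]
      rw [e]
      exact span_inter_eq (Set.union_subset Set.inter_subset_left (by rintro z (rfl | rfl) <;> assumption))
    obtain ⟨P3, hle3, hP3⟩ := exists_maximal_good hQ
    have key : ∀ (P : Submodule k (Module.End k M)) (z : Module.End k M), Mx P → I ≤ P → z ∈ S → z ∈ P →
        z ∉ I → z ∈ pairSpan x y → P3 = P := by
      intro P z hP hIP hzS hzP hzI hz
      by_contra hne
      refine hImax _ ⟨P3, P, hP3, hP, hne, rfl⟩ (lt_of_le_of_ne ?_ fun e => hzI ?_)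
      · conv_lhs => rw [hIspan]
        exact Submodule.span_mono fun X hX =>
          ⟨hX.1, hle3 (Submodule.mem_sup_left hX.2), hIP hX.2⟩
      · rw [e]
        exact Submodule.subset_span ⟨hzS, hle3 (Submodule.mem_sup_right hz), hzP⟩
    exact h12 ((key P1 x h1 (hle.trans inf_le_left) hxS hxP hxI left_mem_pairSpan).symm.trans
      (key P2 y h2 (hle.trans inf_le_right) hyS hyP hyI right_mem_pairSpan))
  obtain ⟨P, -, hP, hPmax⟩ := exists_maximal_good (S := S) (P := ⊥) ⟨(by
    refine le_antisymm bot_le (Submodule.span_le.2 fun x hx => hx.2)), 1, by rw [pow_one]⟩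
  obtain ⟨N, hN⟩ := hP.2
  refine ⟨N, le_bot_iff.1 ((pow_le_pow_left' (Submodule.span_le.2 fun x hx => ?_) N).trans hN.le)⟩
  obtain ⟨Q, hQ, hQ'⟩ := exists_maximal_good (hgood2 x hx x hx)
  rw [SetLike.mem_coe, huniq P Q ⟨hP, hPmax⟩ hQ']
  exact hQ left_mem_pairSpan

theorem pairSpan_cube_eq_bot {X Y : Module.End k M} (hX : X * X = 0) (hY : Y * Y = 0) (h1 : X * Y * X = 0)
    (h2 : Y * X * Y = 0) : pairSpan X Y ^ 3 = ⊥ := by
  refine le_bot_iff.1 ((pow_le_degGE (le_refl 3)).trans (degGE_bot_of_pow (j := 1) hX hY ?_ ?_).le)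
  · rw [pow_one, pairSum_mul hX, h1]
  · rw [pow_one, pairSum_comm, pairSum_mul hY, h2]

theorem conjOp_pairSum (g : LinearMap.GeneralLinearGroup k M) (X Y : Module.End k M) :
    conjOp g (pairSum X Y) = pairSum (conjOp g X) (conjOp g Y) := by
  rw [pairSum, pairSum, map_add, conjOp_mul, conjOp_mul]

theorem conjOp_pow (g : LinearMap.GeneralLinearGroup k M) (X : Module.End k M) (n : ℕ) :
    conjOp g (X ^ n) = conjOp g X ^ n := by
  induction n with
  | zero => rw [pow_zero, pow_zero, conjOp_one]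
  | succ n ih => rw [pow_succ, pow_succ, conjOp_mul, ih]

theorem isNilpotent_conjOp (g : LinearMap.GeneralLinearGroup k M) {X : Module.End k M} (h : IsNilpotent X) :
    IsNilpotent (conjOp g X) := by
  obtain ⟨n, hn⟩ := h
  exact ⟨n, by rw [← conjOp_pow, hn, map_zero]⟩

variable {G : Subgroup (LinearMap.GeneralLinearGroup k M)} {A : Module.End k M}

/-- In an irreducible group every minimal operator has a non-nilpotent partner. -/
theorem exists_not_nilpotent (hirr : IsIrreducibleFor G) (h2 : (2 : k) ≠ 0) (hA : IsMinOp G A) :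
    ∃ R, IsMinOp G R ∧ ¬ IsNilpotent (pairSum A R) := by
  by_contra hc
  push Not at hc
  let S : Set (Module.End k M) := {X | ∃ g ∈ G, X = conjOp g A}
  have hSm : ∀ X ∈ S, IsMinOp G X := by rintro X ⟨g, hg, rfl⟩; exact hA.conj hg
  have hSn : ∀ X ∈ S, ∀ Y ∈ S, X * Y * X = 0 ∧ Y * X * Y = 0 := by
    rintro X ⟨g, hg, rfl⟩ Y ⟨h, hh, rfl⟩
    refine triple_zero (hA.conj hg) (hA.conj hh) h2 ?_
    have := isNilpotent_conjOp g (hc _ (hA.conj (mul_mem (inv_mem hg) hh)))
    rwa [conjOp_pairSum, ← conjOp_comp, mul_inv_cancel_left] at this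
  have hconj : ∀ x ∈ S, ∀ X ∈ S, X + (x * X - X * x) ∈ S := by
    intro x hx X hX
    have h0 := (hSn x hx X hX).1
    obtain ⟨g, hg, rfl⟩ := hX
    refine ⟨unip x * g, mul_mem (unip_mem (hSm x hx).1) hg, ?_⟩
    rw [conjOp_comp]
    generalize conjOp g A = X at h0 ⊢
    rw [conjOp_apply, unip_val (hSm x hx).1.1, unip_inv_val (hSm x hx).1.1]
    simp only [add_mul, mul_sub, one_mul, mul_one, h0]
    abel
  obtain ⟨N, hN⟩ := exists_span_pow_eq_bot hconj fun x hx y hy =>
    pairSpan_cube_eq_bot (hSm x hx).1.1 (hSm y hy).1.1 (hSn x hx y hy).1 (hSn x hx y hy).2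
  let K : Submodule k M := ⨅ X ∈ S, ker X
  have hK : ∀ v, v ∈ K ↔ ∀ X ∈ S, X v = 0 := fun v => by simp [K]
  have hinv : ∀ h ∈ G, ∀ v ∈ K, (h : M →ₗ[k] M) v ∈ K := by
    intro h hh v hv
    rw [hK] at hv ⊢
    rintro _ ⟨g, hg, rfl⟩
    have h0 := hv _ ⟨h⁻¹ * g, mul_mem (inv_mem hh) hg, rfl⟩
    rw [conjOp_comp, conjOp_apply h⁻¹, inv_inv, Module.End.mul_apply, Module.End.mul_apply] at h0
    have := congrArg (h : Module.End k M) h0
    rwa [map_zero, ← Module.End.mul_apply (h : Module.End k M), Units.mul_inv, Module.End.one_apply] at this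
  rcases hirr.2 K hinv with h0 | htop
  · obtain ⟨m0, hm0⟩ := hirr.1
    have key : ∀ n, Submodule.span k S ^ n ≠ ⊥ := by
      intro n
      induction n with
      | zero =>
        intro e
        rw [pow_zero, Submodule.one_eq_span, Submodule.span_singleton_eq_bot] at e
        exact hm0 (by simpa using LinearMap.congr_fun e m0)
      | succ n ih =>
        intro e
        apply ih
        rw [eq_bot_iff]
        intro T hT
        rw [Submodule.mem_bot]
        refine LinearMap.ext fun w => ?_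
        have : T w ∈ K := (hK _).2 fun X hX => by
          have hmem : X * T ∈ Submodule.span k S ^ (n + 1) := by
            rw [pow_succ']; exact Submodule.mul_mem_mul (Submodule.subset_span hX) hT
          rw [e, Submodule.mem_bot] at hmem
          exact LinearMap.congr_fun hmem w
        rw [h0, Submodule.mem_bot] at this
        rw [this, LinearMap.zero_apply]
    exact key N hN
  · refine hA.2.1 (LinearMap.ext fun w => ?_)
    have := (hK w).1 (htop ▸ Submodule.mem_top) A ⟨1, one_mem G, by simp [conjOp_apply]⟩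
    rw [this, LinearMap.zero_apply]

end CfsgLib.QuadPair
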