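import Cfsg.Agent.Lib.QuadPair.Geometry
import Cfsg.Agent.Lib.QuadPair.Baer

/-!
Nilpotent pairs of minimal operators: either everything commutes or the commutators fill the space of a third
minimal operator.
-/

set_option autoImplicit false

namespace CfsgLib.QuadPair

open Cfsg LinearMap

universe u v

variable {k : Type u} [Field k] {M : Type v} [AddCommGroup M] [Module k M]
variable {G : Subgroup (LinearMap.GeneralLinearGroup k M)} {A B C R X Y X' Y' D : Module.End k M}

/-- `XY - YX`. -/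
def bracket (X Y : Module.End k M) : Module.End k M := X * Y - Y * X

theorem bracket_swap (X Y : Module.End k M) : bracket X Y = -bracket Y X := (neg_sub _ _).symm

theorem bracket_sq (hX : X * X = 0) (hY : Y * Y = 0) (h1 : X * Y * X = 0) (h2 : Y * X * Y = 0) :
    bracket X Y * bracket X Y = 0 := by
  simp only [bracket, sub_mul, mul_sub, ← mul_assoc, h1, h2, zero_mul]
  rw [mul_assoc X Y Y, hY, mul_assoc Y X X, hX]
  simp

theorem commutator_unip (hX : X * X = 0) (hY : Y * Y = 0) (h1 : X * Y * X = 0) (h2 : Y * X * Y = 0) :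
    unip X * unip Y * (unip X)⁻¹ * (unip Y)⁻¹ = unip (bracket X Y) := by
  refine Units.ext ?_
  rw [commutator_formula hX hY, unip_val (bracket_sq hX hY h1 h2), h1, h2, zero_mul, sub_zero, add_zero, add_zero]
  rfl

theorem bracket_mem_opSet (hX : X ∈ opSet G) (hY : Y ∈ opSet G) (h1 : X * Y * X = 0) (h2 : Y * X * Y = 0) :
    bracket X Y ∈ opSet G := by
  refine ⟨bracket_sq hX.1 hY.1 h1 h2, fun c => ?_⟩
  have e : c • bracket X Y = bracket (c • X) Y := by
    simp only [bracket, smul_sub, smul_mul_assoc, mul_smul_comm]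
  have e1 : (c • X) * Y * (c • X) = 0 := by
    simp only [smul_mul_assoc, mul_smul_comm, h1, smul_zero]
  have e2 : Y * (c • X) * Y = 0 := by
    simp only [smul_mul_assoc, mul_smul_comm, h2, smul_zero]
  rw [e, ← commutator_unip (smul_sq hX.1 c) hY.1 e1 e2]
  exact mul_mem (mul_mem (mul_mem (hX.2 c) (unip_mem hY)) (inv_mem (hX.2 c))) (inv_mem (unip_mem hY))

theorem finrank_map_add {V W : Type v} [AddCommGroup V] [Module k V] [FiniteDimensional k V] [AddCommGroup W]
    [Module k W] (f : V →ₗ[k] W) (P : Submodule k V) :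
    Module.finrank k (P.map f) + Module.finrank k (P ⊓ ker f : Submodule k V) = Module.finrank k P := by
  have h := (f.domRestrict P).finrank_range_add_finrank_ker
  rw [range_domRestrict, ker_domRestrict] at h
  rw [← Submodule.map_comap_subtype,
    ← (Submodule.equivMapOfInjective P.subtype P.injective_subtype ((ker f).comap P.subtype)).finrank_eq]
  exact h

variable [FiniteDimensional k M]

/-- The rank count for a non-commuting nilpotent pair. -/
theorem rank_split (hX : IsMinOp G X) (hY : IsMinOp G Y) (h1 : X * Y * X = 0) (h2 : Y * X * Y = 0)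
    (hne : bracket X Y ≠ 0) :
    IsMinOp G (bracket X Y) ∧ range (X * Y) = range X ⊓ ker Y ∧ range (Y * X) = range Y ⊓ ker X ∧
      range (X * Y) ⊓ range (Y * X) = ⊥ ∧ range (bracket X Y) = range (X * Y) ⊔ range (Y * X) ∧
      ker (bracket X Y) = (ker Y ⊔ range X) ⊓ (ker X ⊔ range Y) := by
  have hC := bracket_mem_opSet hX.1 hY.1 h1 h2
  have hd : Module.finrank k (range X) = Module.finrank k (range Y) :=
    le_antisymm (hX.2.2 Y hY.1 hY.2.1) (hY.2.2 X hX.1 hX.2.1)
  have s1 : range (X * Y) ≤ range X ⊓ ker Y :=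
    le_inf (range_comp_le_range _ _) (range_le_ker_iff.2 (by rw [← Module.End.mul_eq_comp, ← mul_assoc]; exact h2))
  have s2 : range (Y * X) ≤ range Y ⊓ ker X :=
    le_inf (range_comp_le_range _ _) (range_le_ker_iff.2 (by rw [← Module.End.mul_eq_comp, ← mul_assoc]; exact h1))
  have e1 := finrank_map_add X (range Y)
  have e2 := finrank_map_add Y (range X)
  rw [← range_comp, ← Module.End.mul_eq_comp] at e1 e2
  have l1 := Submodule.finrank_mono s1
  have l2 := Submodule.finrank_mono s2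
  have hsup : range (bracket X Y) ≤ range (X * Y) ⊔ range (Y * X) := by
    rintro _ ⟨v, rfl⟩
    rw [bracket, LinearMap.sub_apply]
    exact sub_mem (Submodule.mem_sup_left ⟨v, rfl⟩) (Submodule.mem_sup_right ⟨v, rfl⟩)
  have l3 := Submodule.finrank_mono hsup
  have l4 := Submodule.finrank_sup_add_finrank_inf_eq (range (X * Y)) (range (Y * X))
  have l5 := hX.2.2 _ hC hne
  have hdis : range (X * Y) ⊓ range (Y * X) = ⊥ := Submodule.finrank_eq_zero.1 (by omega)
  have r1 : range (X * Y) = range X ⊓ ker Y := Submodule.eq_of_le_of_finrank_le s1 (by omega)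
  have r2 : range (Y * X) = range Y ⊓ ker X := Submodule.eq_of_le_of_finrank_le s2 (by omega)
  have r3 : range (bracket X Y) = range (X * Y) ⊔ range (Y * X) :=
    Submodule.eq_of_le_of_finrank_le hsup (by omega)
  refine ⟨⟨hC, hne, fun Z hZ hZ0 => le_trans (by omega) (hX.2.2 Z hZ hZ0)⟩, r1, r2, hdis, r3, ?_⟩
  have hker : ∀ (U V : Module.End k M), U * V * U = 0 → range (U * V) = range U ⊓ ker V →
      Module.finrank k (range U) = Module.finrank k (range V) → ker (U * V) = ker V ⊔ range U := by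
    intro U V hUVU hr hrank
    refine (Submodule.eq_of_le_of_finrank_le (sup_le (ker_le_ker_comp V U)
      (range_le_ker_iff.2 (by rw [← Module.End.mul_eq_comp]; exact hUVU))) ?_).symm
    have n1 := (U * V).finrank_range_add_finrank_ker
    have n2 := V.finrank_range_add_finrank_ker
    have n3 := Submodule.finrank_sup_add_finrank_inf_eq (ker V) (range U)
    rw [hr, Module.End.mul_eq_comp] at n1
    rw [inf_comm] at n3
    omega
  rw [← hker X Y h1 r1 hd, ← hker Y X h2 r2 hd.symm]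
  ext v
  simp only [bracket, mem_ker, LinearMap.sub_apply, Submodule.mem_inf, sub_eq_zero]
  refine ⟨fun h => ?_, fun h => h.1.trans h.2.symm⟩
  have : (X * Y) v = 0 :=
    (Submodule.mem_bot k).1 (hdis ▸ ⟨⟨v, rfl⟩, h ▸ ⟨v, rfl⟩⟩)
  exact ⟨this, h ▸ this⟩

section Pair

variable (h2 : (2 : k) ≠ 0) (h3 : Nat.card k ≠ 3) (hA : IsMinOp G A) (hB : IsMinOp G B)
  (hn : IsNilpotent (pairSum A B))

include h2 h3 hA hB hn

theorem triple_mem (hX : X ∈ opSpace hA.1) (hY : Y ∈ opSpace hB.1) : X * Y * X = 0 ∧ Y * X * Y = 0 := by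
  by_cases hX0 : X = 0
  · simp [hX0]
  by_cases hY0 : Y = 0
  · simp [hY0]
  exact triple_zero (geometry_of_mem hA hX hX0).2.2 (geometry_of_mem hB hY hY0).2.2 h2
    (nilpotent_of_mem h2 h3 hA hB hn hX hY)

/-- One non-zero commutator forces all of them, in the same space. -/
theorem bracket_geometry (hX : X ∈ opSpace hA.1) (hY : Y ∈ opSpace hB.1) (hne : bracket X Y ≠ 0)
    (hX' : X' ∈ opSpace hA.1) (hX'0 : X' ≠ 0) (hY' : Y' ∈ opSpace hB.1) (hY'0 : Y' ≠ 0) :
    bracket X' Y' ≠ 0 ∧ ∃ hC : IsMinOp G (bracket X Y), bracket X' Y' ∈ opSpace hC.1 := by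
  have hX0 : X ≠ 0 := fun e => hne (by simp [e, bracket])
  have hY0 : Y ≠ 0 := fun e => hne (by simp [e, bracket])
  obtain ⟨rX, kX, mX⟩ := geometry_of_mem hA hX hX0
  obtain ⟨rY, kY, mY⟩ := geometry_of_mem hB hY hY0
  obtain ⟨rX', kX', mX'⟩ := geometry_of_mem hA hX' hX'0
  obtain ⟨rY', kY', mY'⟩ := geometry_of_mem hB hY' hY'0
  obtain ⟨t1, t2⟩ := triple_mem h2 h3 hA hB hn hX hY
  obtain ⟨t1', t2'⟩ := triple_mem h2 h3 hA hB hn hX' hY'
  obtain ⟨hC, r1, r2, hdis, r3, r4⟩ := rank_split mX mY t1 t2 hne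
  have hne' : bracket X' Y' ≠ 0 := by
    intro h0
    apply hne
    have hUW : range A ⊓ range B = ⊥ := by
      rw [r1, r2, rX, rY, kX, kY] at hdis
      rw [eq_bot_iff, ← hdis]
      exact le_inf (le_inf inf_le_left (inf_le_right.trans (range_le_ker_iff.2 hB.1.1)))
        (le_inf inf_le_right (inf_le_left.trans (range_le_ker_iff.2 hA.1.1)))
    have e : X' * Y' = Y' * X' := sub_eq_zero.1 h0
    have hz : X' * Y' = 0 := range_eq_bot.1 (le_bot_iff.1 (hUW ▸ le_inf
      ((range_comp_le_range _ _).trans hX'.2.1) (e ▸ (range_comp_le_range _ _).trans hY'.2.1)))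
    have hz' : Y' * X' = 0 := e ▸ hz
    have a1 : range B ≤ ker A := by rw [← rY', ← kX']; exact range_le_ker_iff.2 hz
    have a2 : range A ≤ ker B := by rw [← rX', ← kY']; exact range_le_ker_iff.2 hz'
    have b1 : X * Y = 0 := range_le_ker_iff.1 (rY.le.trans (a1.trans kX.ge))
    have b2 : Y * X = 0 := range_le_ker_iff.1 (rX.le.trans (a2.trans kY.ge))
    rw [bracket, b1, b2, sub_zero]
  obtain ⟨hC', r1', r2', -, r3', r4'⟩ := rank_split mX' mY' t1' t2' hne'
  refine ⟨hne', hC, hC'.1, ?_, ?_⟩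
  · rw [r3', r3, r1', r2', r1, r2, rX, rY, rX', rY', kX, kY, kX', kY']
  · rw [r4', r4, rX, rY, rX', rY', kX, kY, kX', kY']

theorem all_commute (h0 : bracket A B = 0) (hX : X ∈ opSpace hA.1) (hY : Y ∈ opSpace hB.1) :
    X * Y = Y * X := by
  by_contra hne
  exact (bracket_geometry h2 h3 hA hB hn hX hY (sub_ne_zero.2 hne) (self_mem_opSpace hA.1) hA.2.1
    (self_mem_opSpace hB.1) hB.2.1).1 h0

theorem bracket_mem (hne : bracket A B ≠ 0) (hC : IsMinOp G (bracket A B)) (hX : X ∈ opSpace hA.1)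
    (hY : Y ∈ opSpace hB.1) :
    bracket X Y ∈ opSpace hC.1 ∧ (bracket X Y = 0 → X = 0 ∨ Y = 0) := by
  by_cases hX0 : X = 0
  · exact ⟨by simp [hX0, bracket], fun _ => Or.inl hX0⟩
  by_cases hY0 : Y = 0
  · exact ⟨by simp [hY0, bracket], fun _ => Or.inr hY0⟩
  obtain ⟨h1, _, h⟩ := bracket_geometry h2 h3 hA hB hn (self_mem_opSpace hA.1) (self_mem_opSpace hB.1) hne hX hX0 hY hY0
  exact ⟨h, fun e => absurd e h1⟩

theorem triple_left (hX : X ∈ opSpace hA.1) (hY : Y ∈ opSpace hB.1) (hX' : X' ∈ opSpace hA.1) :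
    X * Y * X' = 0 := by
  by_cases h0 : bracket A B = 0
  · rw [all_commute h2 h3 hA hB hn h0 hX hY, mul_assoc, mul_eq_zero_of_mem hA.1 hX hX', mul_zero]
  by_cases hX'0 : X' = 0
  · rw [hX'0, mul_zero]
  by_cases hY0 : Y = 0
  · rw [hY0, mul_zero, zero_mul]
  obtain ⟨t1, t2⟩ := triple_mem h2 h3 hA hB hn hX' hY
  have hne := (bracket_geometry h2 h3 hA hB hn (self_mem_opSpace hA.1) (self_mem_opSpace hB.1) h0 hX' hX'0 hY hY0).1
  obtain ⟨-, -, r2, -, -, -⟩ := rank_split (geometry_of_mem hA hX' hX'0).2.2 (geometry_of_mem hB hY hY0).2.2 t1 t2 hne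
  rw [mul_assoc]
  refine range_le_ker_iff.1 (r2.le.trans (inf_le_right.trans ?_))
  rw [(geometry_of_mem hA hX' hX'0).2.1]
  exact hX.2.2

theorem triple_right (hY : Y ∈ opSpace hB.1) (hX : X ∈ opSpace hA.1) (hY' : Y' ∈ opSpace hB.1) :
    Y * X * Y' = 0 :=
  triple_left h2 h3 hB hA (pairSum_comm A B ▸ hn) hY hX hY'

theorem sup_cube_eq_bot : (opSpace hA.1 ⊔ opSpace hB.1) ^ 3 = ⊥ := by
  have zA : opSpace hA.1 * opSpace hA.1 = ⊥ :=
    le_bot_iff.1 (Submodule.mul_le.2 fun X hX X' hX' => (Submodule.mem_bot k).2 (mul_eq_zero_of_mem hA.1 hX hX'))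
  have zB : opSpace hB.1 * opSpace hB.1 = ⊥ :=
    le_bot_iff.1 (Submodule.mul_le.2 fun X hX X' hX' => (Submodule.mem_bot k).2 (mul_eq_zero_of_mem hB.1 hX hX'))
  have zABA : opSpace hA.1 * opSpace hB.1 * opSpace hA.1 = ⊥ := by
    rw [eq_bot_iff, mul_assoc, Submodule.mul_le]
    intro X hX T hT
    rw [Submodule.mem_bot]
    refine Submodule.mul_induction_on hT (fun Y hY X' hX' => ?_) (fun U V hU hV => ?_)
    · rw [← mul_assoc]; exact triple_left h2 h3 hA hB hn hX hY hX'
    · rw [mul_add, hU, hV, add_zero]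
  have zBAB : opSpace hB.1 * opSpace hA.1 * opSpace hB.1 = ⊥ := by
    rw [eq_bot_iff, mul_assoc, Submodule.mul_le]
    intro Y hY T hT
    rw [Submodule.mem_bot]
    refine Submodule.mul_induction_on hT (fun X hX Y' hY' => ?_) (fun U V hU hV => ?_)
    · rw [← mul_assoc]; exact triple_right h2 h3 hA hB hn hY hX hY'
    · rw [mul_add, hU, hV, add_zero]
  rw [pow_succ, pow_two]
  simp only [Submodule.sup_mul, Submodule.mul_sup, zA, zB, zABA, zBAB, Submodule.bot_mul, sup_bot_eq, bot_sup_eq]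
  rw [mul_assoc, mul_assoc, zA, zB, Submodule.mul_bot, Submodule.mul_bot, sup_bot_eq]

theorem isUnipotentOn_sup : IsUnipotentOn (opGroup hA.1 ⊔ opGroup hB.1) := by
  refine isUnipotentOn_of_le (sup_cube_eq_bot h2 h3 hA hB hn) (sup_le ?_ ?_) <;> intro g hg <;>
    obtain ⟨X, hX, rfl⟩ := mem_opGroup.1 hg
  · exact unip_mem_congrSub (Submodule.mem_sup_left hX) hX.1.1
  · exact unip_mem_congrSub (Submodule.mem_sup_right hX) hX.1.1

theorem annihilate (hne : bracket A B ≠ 0) (hC : IsMinOp G (bracket A B)) (hD : D ∈ opSpace hC.1)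
    (hX : X ∈ opSpace hA.1 ∨ X ∈ opSpace hB.1) : X * D = 0 ∧ D * X = 0 := by
  have zA := self_mem_opSpace hA.1
  have zB := self_mem_opSpace hB.1
  have h : X * bracket A B = 0 ∧ bracket A B * X = 0 := by
    rcases hX with hX | hX
    · constructor
      · rw [bracket, mul_sub, ← mul_assoc, mul_eq_zero_of_mem hA.1 hX zA, zero_mul, ← mul_assoc,
          triple_left h2 h3 hA hB hn hX zB zA, sub_zero]
      · rw [bracket, sub_mul, triple_left h2 h3 hA hB hn zA zB hX, mul_assoc,
          mul_eq_zero_of_mem hA.1 zA hX, mul_zero, sub_zero]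
    · constructor
      · rw [bracket, mul_sub, ← mul_assoc X B, mul_eq_zero_of_mem hB.1 hX zB, zero_mul, ← mul_assoc,
          triple_right h2 h3 hA hB hn hX zA zB, sub_zero]
      · rw [bracket, sub_mul, triple_right h2 h3 hA hB hn zB zA hX, mul_assoc,
          mul_eq_zero_of_mem hB.1 zB hX, mul_zero, sub_zero]
  exact ⟨range_le_ker_iff.1 (hD.2.1.trans (range_le_ker_iff.2 h.1)),
    range_le_ker_iff.1 ((range_le_ker_iff.2 h.2).trans hD.2.2)⟩

theorem finrank_le_bracket (hne : bracket A B ≠ 0) (hC : IsMinOp G (bracket A B)) :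
    Module.finrank k (opSpace hB.1) ≤ Module.finrank k (opSpace hC.1) := by
  let f : Module.End k M →ₗ[k] Module.End k M := mulLeft k A - mulRight k A
  have hf : ∀ Y, f Y = bracket A Y := fun Y => rfl
  have h := finrank_map_add f (opSpace hB.1)
  have h0 : (opSpace hB.1 ⊓ ker f : Submodule k (Module.End k M)) = ⊥ := by
    rw [eq_bot_iff]
    rintro Y ⟨hY, hY0⟩
    rw [SetLike.mem_coe, mem_ker, hf] at hY0
    rcases (bracket_mem h2 h3 hA hB hn hne hC (self_mem_opSpace hA.1) hY).2 hY0 with h | h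
    · exact absurd h hA.2.1
    · rw [h]; exact zero_mem _
  rw [h0, finrank_bot, add_zero] at h
  rw [← h]
  refine Submodule.finrank_mono ?_
  rintro _ ⟨Y, hY, rfl⟩
  rw [hf]
  exact (bracket_mem h2 h3 hA hB hn hne hC (self_mem_opSpace hA.1) hY).1

end Pair

/-- The operator `R` opposite to `C = [A, B]` bounds the space of `C` by that of `A`. -/
theorem finrank_bracket_le (hirr : IsIrreducibleFor G) (h2 : (2 : k) ≠ 0) (h3 : Nat.card k ≠ 3) (hA : IsMinOp G A)
    (hB : IsMinOp G B) (hn : IsNilpotent (pairSum A B)) (hne : bracket A B ≠ 0) (hC : IsMinOp G (bracket A B)) :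
    Module.finrank k (opSpace hC.1) ≤ Module.finrank k (opSpace hA.1) := by
  obtain ⟨R0, hR0, hn0⟩ := exists_not_nilpotent hirr h2 hC
  obtain ⟨R, -, -, hR, hinv⟩ := exists_inverse h2 h3 hC hR0 hn0
  rw [finrank_opSpace_eq_of_inv hC hR hinv]
  by_cases hn' : IsNilpotent (pairSum A R)
  swap
  · obtain ⟨R', hR', hR'0, hR'm, hinv'⟩ := exists_inverse h2 h3 hA hR hn'
    rw [← opSpace_eq hR hR' hR'0, finrank_opSpace_eq_of_inv hA hR'm hinv']
  obtain ⟨hARA, hRAR⟩ := triple_zero hA hR h2 hn'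
  obtain ⟨tA, tB⟩ := triple_mem h2 h3 hA hB hn (self_mem_opSpace hA.1) (self_mem_opSpace hB.1)
  obtain ⟨-, -, -, -, r3, -⟩ := rank_split hA hB tA tB hne
  obtain ⟨zAC, zCA⟩ := annihilate h2 h3 hA hB hn hne hC (self_mem_opSpace hC.1) (Or.inl (self_mem_opSpace hA.1))
  have hC0 : bracket A B ≠ 0 := hne
  set C := bracket A B with hCdef
  have hAA := hA.1.1
  have hRR := hR.1.1
  have hCC := hC.1.1
  have a1 : ∀ x : Module.End k M, A * (C * x) = 0 := fun x => by rw [← mul_assoc, zAC, zero_mul]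
  have a2 : ∀ x : Module.End k M, C * (A * x) = 0 := fun x => by rw [← mul_assoc, zCA, zero_mul]
  have a3 : ∀ x : Module.End k M, A * (A * x) = 0 := fun x => by rw [← mul_assoc, hAA, zero_mul]
  have a4 : ∀ x : Module.End k M, C * (C * x) = 0 := fun x => by rw [← mul_assoc, hCC, zero_mul]
  have a5 : ∀ x : Module.End k M, R * (R * x) = 0 := fun x => by rw [← mul_assoc, hRR, zero_mul]
  have a6 : ∀ x : Module.End k M, C * (R * (C * x)) = C * x := fun x => by rw [← mul_assoc, ← mul_assoc, hinv.1]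
  have a7 : ∀ x : Module.End k M, R * (C * (R * x)) = R * x := fun x => by rw [← mul_assoc, ← mul_assoc, hinv.2]
  have a8 : ∀ x : Module.End k M, A * (R * (A * x)) = 0 := fun x => by rw [← mul_assoc, ← mul_assoc, hARA, zero_mul]
  have a9 : ∀ x : Module.End k M, R * (A * (R * x)) = 0 := fun x => by rw [← mul_assoc, ← mul_assoc, hRAR, zero_mul]
  have b6 : C * (R * C) = C := by rw [← mul_assoc, hinv.1]
  have b7 : R * (C * R) = R := by rw [← mul_assoc, hinv.2]
  have b8 : A * (R * A) = 0 := by rw [← mul_assoc, hARA]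
  have b9 : R * (A * R) = 0 := by rw [← mul_assoc, hRAR]
  obtain ⟨t, ht, ht2⟩ := exists_scalar h2 h3
  have ht1 : t - 1 ≠ 0 := sub_ne_zero.2 fun e => ht2 (by rw [e, one_pow])
  have hinvt : IsInvPair (t • C) (t⁻¹ • R) := by
    constructor <;> simp only [smul_mul_assoc, mul_smul_comm, smul_smul]
    · rw [hinv.1]; congr 1; field_simp
    · rw [hinv.2]; congr 1; field_simp
  set w := weyl C R with hw
  set T := weyl (t • C) (t⁻¹ • R) * w⁻¹ with hT
  have hwG : w ∈ G := weyl_mem hC.1 hR.1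
  have hTG : T ∈ G := mul_mem (weyl_mem (smul_mem_opSet hC.1 t) (smul_mem_opSet hR.1 t⁻¹)) (inv_mem hwG)
  have hTv : (T : Module.End k M) = 1 - C * R - R * C + t • (C * R) + t⁻¹ • (R * C) := by
    rw [hT, Units.val_mul, Units.mul_inv_eq_iff_eq_mul, weyl_val hinvt (smul_sq hCC t) (smul_sq hRR t⁻¹), hw,
      weyl_val hinv hCC hRR]
    simp only [smul_mul_assoc, mul_smul_comm, smul_smul, mul_inv_cancel₀ ht, inv_mul_cancel₀ ht, one_smul,
      sub_mul, add_mul, mul_sub, mul_add, one_mul, mul_one, mul_assoc, a4, a5, a6, a7, b6, b7, hCC, hRR,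
      mul_zero, smul_zero, smul_add, smul_sub]
    abel
  set A' := A + (t - 1) • (C * R * A + A * R * C) with hA'
  have hTA : conjOp T A = A' := by
    rw [conjOp_apply, Units.mul_inv_eq_iff_eq_mul, hTv, hA']
    simp only [smul_mul_assoc, mul_smul_comm, smul_smul, sub_mul, add_mul, mul_sub, mul_add, one_mul, mul_one,
      smul_add, smul_sub, mul_assoc, a1, a2, a3, a4, a5, a6, a7, a8, a9, b6, b7, b8, b9, zAC, zCA, hAA, hCC, hRR,
      mul_zero, smul_zero, sub_zero, add_zero, zero_add]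
    match_scalars <;> field_simp <;> ring
  have hA'm : A' ∈ opSet G := hTA ▸ conjOp_mem_opSet hTG hA.1
  have hAz : A * (C * R * A + A * R * C) = 0 ∧ (C * R * A + A * R * C) * A = 0 := by
    constructor <;>
      simp only [mul_add, add_mul, mul_assoc, a1, a3, zCA, hAA, mul_zero, add_zero]
  set X1 := C * R * A + A * R * C with hX1
  have hX1m : X1 ∈ opSet G := by
    have h : A' + (-1 : k) • A ∈ opSet G := by
      refine add_mem_opSet hA'm (smul_mem_opSet hA.1 _) ?_ ?_
      · rw [hA', mul_smul_comm, add_mul, smul_mul_assoc, hAA, hAz.2, smul_zero, add_zero, smul_zero]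
      · rw [hA', smul_mul_assoc, mul_add, mul_smul_comm, hAA, hAz.1, smul_zero, add_zero, smul_zero]
    have := smul_mem_opSet h (t - 1)⁻¹
    rwa [hA', neg_one_smul, ← sub_eq_add_neg, add_sub_cancel_left, smul_smul, inv_mul_cancel₀ ht1, one_smul] at this
  set ε := A - X1 with hεdef
  have hεm : ε ∈ opSet G := by
    rw [hεdef, sub_eq_add_neg, ← neg_one_smul k X1]
    refine add_mem_opSet hA.1 (smul_mem_opSet hX1m _) ?_ ?_
    · rw [mul_smul_comm, hAz.1, smul_zero]
    · rw [smul_mul_assoc, hAz.2, smul_zero]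
  have hAX1 : A = X1 := by
    by_contra hne'
    have hε0 : ε ≠ 0 := sub_ne_zero.2 hne'
    set E0 := 1 - C * R - R * C with hE0
    have he : ε = E0 * (A * E0) := by
      rw [hεdef, hX1, hE0]
      simp only [sub_mul, mul_sub, one_mul, mul_one, mul_assoc, a1, a2, a9, zCA, mul_zero, sub_zero]
      abel
    have hle : range ε ≤ (range (A * E0)).map E0 := by
      rw [he, Module.End.mul_eq_comp, range_comp]
    have hAE : range (A * E0) ≤ range A := range_comp_le_range _ _
    have hrk := hA.2.2 ε hεm hε0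
    have l1 := Submodule.finrank_mono hle
    have l2 := finrank_map_add E0 (range (A * E0))
    have l3 := Submodule.finrank_mono hAE
    have eAE : range (A * E0) = range A := Submodule.eq_of_le_of_finrank_le hAE (by omega)
    rw [eAE] at l1 l2
    have hinf : range A ⊓ ker E0 = ⊥ := Submodule.finrank_eq_zero.1 (by omega)
    have hEC : E0 * C = 0 := by
      rw [hE0, sub_mul, sub_mul, one_mul, hinv.1, sub_self, mul_assoc, hCC, mul_zero, sub_zero]
    have hCE : C * E0 = 0 := by
      rw [hE0, mul_sub, mul_sub, mul_one, ← mul_assoc, hCC, zero_mul, sub_zero, ← mul_assoc, hinv.1, sub_self]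
    have hAB : A * B = 0 := range_eq_bot.1 (le_bot_iff.1 (hinf ▸ le_inf (range_comp_le_range _ _)
      ((le_sup_left.trans r3.ge).trans (range_le_ker_iff.2 hEC))))
    apply hC0
    have hBA : range (B * A) = ⊥ := by
      rw [Module.End.mul_eq_comp, range_comp, ← eAE, ← range_comp, ← Module.End.mul_eq_comp, ← mul_assoc,
        show B * A * E0 = 0 by
          have h' : B * A = -C := by rw [hCdef, bracket, hAB, zero_sub, neg_neg]
          rw [h', neg_mul, hCE, neg_zero]]
      exact range_zero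
    rw [hCdef, bracket, hAB, range_eq_bot.1 hBA, sub_zero]
  set P := bracket A R with hP
  have hPne : P ≠ 0 := by
    intro h0
    have e : A * R = R * A := sub_eq_zero.1 h0
    apply hA.2.1
    rw [hAX1, hX1, e, mul_assoc R A C, zAC, mul_assoc C R A, ← e, a2]
    simp
  have hwA : conjOp w A = P := by
    rw [conjOp_apply, Units.mul_inv_eq_iff_eq_mul, hw, weyl_val hinv hCC hRR, hP, bracket]
    simp only [sub_mul, add_mul, mul_sub, mul_add, one_mul, mul_one, mul_assoc, a1, a2, a5, a7, a9, b7, b9, zAC, zCA,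
      hRR, mul_zero, sub_zero, add_zero, zero_add]
    have hsum : A = C * (R * A) + A * (R * C) := by simp only [← mul_assoc]; exact hAX1
    nth_rw 1 [hsum]
    abel
  have hPm : IsMinOp G P := hwA ▸ hA.conj hwG
  have hfin : Module.finrank k (opSpace hPm.1) = Module.finrank k (opSpace hA.1) := by
    have key : ∀ (S : Module.End k M) (hS : S ∈ opSet G), S = P → opSpace hS = opSpace hPm.1 := by
      rintro S hS rfl
      rfl
    rw [← finrank_opSpace_conj hA.1 hwG, key _ _ hwA]
  rw [← hfin]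
  exact finrank_le_bracket h2 h3 hA hR hn' hPne hPm

theorem exists_bracket_eq (hirr : IsIrreducibleFor G) (h2 : (2 : k) ≠ 0) (h3 : Nat.card k ≠ 3) (hA : IsMinOp G A)
    (hB : IsMinOp G B) (hn : IsNilpotent (pairSum A B)) (hne : bracket A B ≠ 0) (hC : IsMinOp G (bracket A B))
    (hX : X ∈ opSpace hA.1) (hX0 : X ≠ 0) (hD : D ∈ opSpace hC.1) :
    ∃ Y ∈ opSpace hB.1, bracket X Y = D := by
  have hne' : bracket B A ≠ 0 := fun e => hne (by rw [bracket_swap, e, neg_zero])
  have hn' : IsNilpotent (pairSum B A) := pairSum_comm A B ▸ hn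
  obtain ⟨t1, t2⟩ := triple_mem h2 h3 hA hB hn (self_mem_opSpace hA.1) (self_mem_opSpace hB.1)
  have hC' : IsMinOp G (bracket B A) := (rank_split hB hA t2 t1 hne').1
  have e : opSpace hC'.1 = opSpace hC.1 :=
    opSpace_eq hC (bracket_swap B A ▸ neg_mem (self_mem_opSpace hC.1)) hne'
  have hle := finrank_bracket_le hirr h2 h3 hB hA hn' hne' hC'
  rw [e] at hle
  let f : Module.End k M →ₗ[k] Module.End k M := mulLeft k X - mulRight k X
  have hf : ∀ Y, f Y = bracket X Y := fun Y => rfl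
  have h := finrank_map_add f (opSpace hB.1)
  have h0 : (opSpace hB.1 ⊓ ker f : Submodule k (Module.End k M)) = ⊥ := by
    rw [eq_bot_iff]
    rintro Y ⟨hY, hY0⟩
    rw [SetLike.mem_coe, mem_ker, hf] at hY0
    rcases (bracket_mem h2 h3 hA hB hn hne hC hX hY).2 hY0 with h | h
    · exact absurd h hX0
    · rw [h]; exact zero_mem _
  rw [h0, finrank_bot, add_zero] at h
  have hmap : (opSpace hB.1).map f = opSpace hC.1 := by
    refine Submodule.eq_of_le_of_finrank_le ?_ (h ▸ hle)
    rintro _ ⟨Y, hY, rfl⟩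
    rw [hf]
    exact (bracket_mem h2 h3 hA hB hn hne hC hX hY).1
  obtain ⟨Y, hY, hYD⟩ := hmap.ge hD
  exact ⟨Y, hY, hYD⟩

end CfsgLib.QuadPair
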