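import Cfsg.Agent.Lib.QuadPair.Pairs

/-!
Criteria telling the three cases apart.
-/

set_option autoImplicit false

namespace CfsgLib.QuadPair

open Cfsg LinearMap
open scoped commutatorElement

universe u v

variable {k : Type u} [Field k] {M : Type v} [AddCommGroup M] [Module k M] [FiniteDimensional k M]
variable {G : Subgroup (LinearMap.GeneralLinearGroup k M)} {A B X Y : Module.End k M}

theorem nilpotent_of_unipotent (hA : IsMinOp G A) (hB : IsMinOp G B)
    (hu : IsUnipotentOn (opGroup hA.1 ⊔ opGroup hB.1)) : IsNilpotent (pairSum A B) := by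
  obtain ⟨n, hn⟩ := hu
  rw [isNilpotent_pairSum_iff hA.1.1 hB.1.1]
  refine ⟨n, ?_⟩
  let f : LinearMap.GeneralLinearGroup k M → Module.End k M := fun g => (g : Module.End k M) - 1
  let l : ℕ → List (LinearMap.GeneralLinearGroup k M) := fun m => (List.replicate m [unip A, unip B]).flatten
  have hlen : ∀ m, (l m).length = m * 2 := fun m => by simp [l, List.length_flatten]
  have hmem : ∀ m, ∀ g ∈ l m, g ∈ opGroup hA.1 ⊔ opGroup hB.1 := by
    intro m g hg
    simp only [l, List.mem_flatten, List.mem_replicate] at hg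
    obtain ⟨t, ⟨-, rfl⟩, hg⟩ := hg
    simp only [List.mem_cons, List.not_mem_nil, or_false] at hg
    rcases hg with rfl | rfl
    · exact Subgroup.mem_sup_left (unip_mem_opGroup (self_mem_opSpace hA.1))
    · exact Subgroup.mem_sup_right (unip_mem_opGroup (self_mem_opSpace hB.1))
  have hprod : ∀ m, ((l m).map f).prod = (A * B) ^ m := by
    intro m
    induction m with
    | zero => simp [l]
    | succ m ih =>
      simp only [l, List.replicate_succ, List.flatten_cons, List.map_append, List.prod_append] at ih ⊢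
      rw [ih, pow_succ']
      simp [f, unip_val hA.1.1, unip_val hB.1.1]
  have h0 := hn ((l n).take n) (fun g hg => hmem n g (List.mem_of_mem_take hg))
    (by rw [List.length_take, hlen]; omega)
  have h0' : (((l n).take n).map f).prod = 0 := by
    simpa [f, List.map_map, Function.comp_def, List.flatMap_singleton', ← List.map_eq_flatMap] using h0
  rw [← hprod n, ← List.take_append_drop n (l n), List.map_append, List.prod_append, h0', zero_mul]

theorem nilpotent_of_class_two (h2 : (2 : k) ≠ 0) (h3 : Nat.card k ≠ 3) (hA : IsMinOp G A) (hB : IsMinOp G B)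
    (h : ⁅⁅opGroup hA.1 ⊔ opGroup hB.1, opGroup hA.1 ⊔ opGroup hB.1⁆, opGroup hA.1 ⊔ opGroup hB.1⁆ = ⊥) :
    IsNilpotent (pairSum A B) := by
  by_contra hn
  exact rankOne_not_nilpotent_sup (exists_special h2 h3 hA hB hn).1
    ((Subgroup.isNilpotent_iff_lowerCentralSeries _).2 ⟨2, h⟩)

theorem bracket_eq_zero_of_class_two_fails (h2 : (2 : k) ≠ 0) (h3 : Nat.card k ≠ 3) (hA : IsMinOp G A)
    (hB : IsMinOp G B) (h : ⁅opGroup hA.1, opGroup hB.1⁆ = ⊥) (hn : IsNilpotent (pairSum A B)) :
    bracket A B = 0 := by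
  have hz := Subgroup.commutator_mem_commutator (unip_mem_opGroup (self_mem_opSpace hA.1))
    (unip_mem_opGroup (self_mem_opSpace hB.1))
  rw [h, Subgroup.mem_bot, commutatorElement_def] at hz
  obtain ⟨t1, t2⟩ := triple_zero hA hB h2 hn
  rw [commutator_unip hA.1.1 hB.1.1 t1 t2] at hz
  exact (unip_eq_one_iff (bracket_sq hA.1.1 hB.1.1 t1 t2)).1 hz

theorem nilpotent_congr (h2 : (2 : k) ≠ 0) (h3 : Nat.card k ≠ 3) (hA : IsMinOp G A) (hB : IsMinOp G B)
    (hX : X ∈ opSpace hA.1) (hX0 : X ≠ 0) (hY : Y ∈ opSpace hB.1) (hY0 : Y ≠ 0) :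
    IsNilpotent (pairSum X Y) ↔ IsNilpotent (pairSum A B) := by
  refine ⟨fun h => ?_, fun h => nilpotent_of_mem h2 h3 hA hB h hX hY⟩
  refine nilpotent_of_mem h2 h3 (geometry_of_mem hA hX hX0).2.2 (geometry_of_mem hB hY hY0).2.2 h ?_ ?_
  · rw [opSpace_eq hA hX hX0]; exact self_mem_opSpace hA.1
  · rw [opSpace_eq hB hY hY0]; exact self_mem_opSpace hB.1

end CfsgLib.QuadPair
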