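import Cfsg.Agent.Lib.RootSubgroups.RootSet

/-!
Common fixed vectors of families of mutually normalising groups of unipotent maps, and the normal subgroup measuring
how far a normal subgroup moves root subgroups inside their classes of equal sets of commuting members.
-/

set_option autoImplicit false

namespace CfsgLib.QuadPair

open Cfsg CfsgLib.RankOne
open scoped commutatorElement

universe u v

variable {k : Type u} [Field k] {M : Type v} [AddCommGroup M] [Module k M]

local notation "GLM" => LinearMap.GeneralLinearGroup k M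

/-- Every non-zero invariant subspace contains a non-zero fixed vector. -/
def HasFixed (Q : Subgroup (LinearMap.GeneralLinearGroup k M)) : Prop :=
  ∀ W : Submodule k M, W ≠ ⊥ → (∀ g ∈ Q, ∀ w ∈ W, (g : Module.End k M) w ∈ W) →
    ∃ v ∈ W, v ≠ 0 ∧ ∀ g ∈ Q, (g : Module.End k M) v = v

theorem hasFixed_zpowers {g : LinearMap.GeneralLinearGroup k M} (h : IsNilpotent ((g : Module.End k M) - 1)) :
    HasFixed (Subgroup.zpowers g) := by
  intro W hW hinv
  obtain ⟨w, hw, hw0⟩ := W.ne_bot_iff.1 hW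
  obtain ⟨N, hN⟩ := h
  have hmem : ∀ j : ℕ, (((g : Module.End k M) - 1) ^ j) w ∈ W := by
    intro j
    induction j with
    | zero => simpa using hw
    | succ j ih =>
      rw [pow_succ', Module.End.mul_apply, LinearMap.sub_apply, Module.End.one_apply]
      exact sub_mem (hinv g (Subgroup.mem_zpowers g) _ ih) ih
  obtain ⟨j, hj, hj'⟩ : ∃ j : ℕ, (((g : Module.End k M) - 1) ^ j : Module.End k M) w ≠ 0 ∧
      (((g : Module.End k M) - 1) ^ (j + 1) : Module.End k M) w = 0 := by
    by_contra hc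
    push Not at hc
    have hall : ∀ j : ℕ, (((g : Module.End k M) - 1) ^ j : Module.End k M) w ≠ 0 := by
      intro j
      induction j with
      | zero => simpa using hw0
      | succ j ih => exact hc j ih
    exact hall N (by rw [hN, LinearMap.zero_apply])
  refine ⟨_, hmem j, hj, fun x hx => ?_⟩
  rw [pow_succ', Module.End.mul_apply, LinearMap.sub_apply, Module.End.one_apply, sub_eq_zero] at hj'
  generalize (((g : Module.End k M) - 1) ^ j) w = v at hj'
  let F : Subgroup GLM :=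
    { carrier := {x | (x : Module.End k M) v = v}
      one_mem' := by simp
      mul_mem' := fun {a b} ha hb => by
        simp only [Set.mem_ofPred_eq, Units.val_mul, Module.End.mul_apply] at ha hb ⊢
        rw [hb, ha]
      inv_mem' := fun {a} ha => by
        simp only [Set.mem_ofPred_eq] at ha ⊢
        conv_lhs => rw [← ha]
        rw [← Module.End.mul_apply, Units.inv_mul, Module.End.one_apply] }
  exact (Subgroup.zpowers_le.2 hj' : Subgroup.zpowers g ≤ F) hx

variable [FiniteDimensional k M]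

/-- Mutually normalising subgroups with fixed vectors generate a subgroup with fixed vectors. -/
theorem hasFixed_iSup {ι : Sort*} (Q : ι → Subgroup (LinearMap.GeneralLinearGroup k M)) (hQ : ∀ i, HasFixed (Q i))
    (hnorm : ∀ i j, ∀ g ∈ Q j, ∀ x ∈ Q i, g⁻¹ * x * g ∈ Q i) : HasFixed (⨆ i, Q i) := by
  intro W hW hinv
  obtain ⟨W₁, ⟨hW₁, hle, hinv₁⟩, hmin⟩ := wellFounded_lt.has_min
    {W₁ : Submodule k M | W₁ ≠ ⊥ ∧ W₁ ≤ W ∧ ∀ i, ∀ g ∈ Q i, ∀ w ∈ W₁, (g : Module.End k M) w ∈ W₁}
    ⟨W, hW, le_rfl, fun i g hg => hinv g (Subgroup.mem_iSup_of_mem i hg)⟩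
  obtain ⟨v, hv, hv0⟩ := W₁.ne_bot_iff.1 hW₁
  refine ⟨v, hle hv, hv0, fun g hg => ?_⟩
  induction hg using Subgroup.iSup_induction' with
  | hp i x hx =>
    let F : Submodule k M :=
      { carrier := {w | w ∈ W₁ ∧ ∀ x ∈ Q i, (x : Module.End k M) w = w}
        zero_mem' := ⟨zero_mem _, fun x _ => map_zero _⟩
        add_mem' := fun {a b} ha hb => ⟨add_mem ha.1 hb.1, fun x hx => by rw [map_add, ha.2 x hx, hb.2 x hx]⟩
        smul_mem' := fun c {a} ha => ⟨Submodule.smul_mem _ c ha.1, fun x hx => by rw [map_smul, ha.2 x hx]⟩ }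
    have hF : F ≠ ⊥ := by
      obtain ⟨u, hu, hu0, hufix⟩ := hQ i W₁ hW₁ (hinv₁ i)
      exact F.ne_bot_iff.2 ⟨u, ⟨hu, hufix⟩, hu0⟩
    have hFinv : ∀ j, ∀ g ∈ Q j, ∀ w ∈ F, (g : Module.End k M) w ∈ F := by
      intro j g hg w hw
      refine ⟨hinv₁ j g hg w hw.1, fun x hx => ?_⟩
      have h := hw.2 _ (hnorm i j g hg x hx)
      rw [Units.val_mul, Units.val_mul, Module.End.mul_apply, Module.End.mul_apply] at h
      have := congrArg (g : Module.End k M) h
      rwa [← Module.End.mul_apply (g : Module.End k M), Units.mul_inv, Module.End.one_apply] at this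
    have hFle : F ≤ W₁ := fun w hw => hw.1
    have hFeq : F = W₁ := eq_of_le_of_not_lt hFle (hmin F ⟨hF, hFle.trans hle, hFinv⟩)
    exact (hFeq.ge hv).2 x hx
  | h1 => simp
  | hmul a b _ _ iha ihb => rw [Units.val_mul, Module.End.mul_apply, ihb, iha]

theorem hasFixed_of_comm {P : Subgroup (LinearMap.GeneralLinearGroup k M)}
    (hc : ∀ x ∈ P, ∀ y ∈ P, x * y = y * x) (hu : ∀ x ∈ P, IsNilpotent ((x : Module.End k M) - 1)) : HasFixed P := by
  have e : P = ⨆ g : P, Subgroup.zpowers (g : LinearMap.GeneralLinearGroup k M) :=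
    le_antisymm (fun g hg => Subgroup.mem_iSup_of_mem (⟨g, hg⟩ : P) (Subgroup.mem_zpowers g))
      (iSup_le fun g => Subgroup.zpowers_le.2 g.2)
  rw [e]
  refine hasFixed_iSup _ (fun g => hasFixed_zpowers (hu g g.2)) ?_
  intro i j g hg x hx
  have h := hc g (Subgroup.zpowers_le.2 j.2 hg) x (Subgroup.zpowers_le.2 i.2 hx)
  rwa [mul_assoc, ← h, inv_mul_cancel_left]

theorem hasFixed_conjBy {Q : Subgroup (LinearMap.GeneralLinearGroup k M)} (hQ : HasFixed Q)
    (g : LinearMap.GeneralLinearGroup k M) : HasFixed (conjBy Q g) := by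
  intro W hW hinv
  let W' := W.comap (g : Module.End k M)
  have hW' : W' ≠ ⊥ := by
    obtain ⟨w, hw, hw0⟩ := W.ne_bot_iff.1 hW
    refine W'.ne_bot_iff.2 ⟨((g⁻¹ : GLM) : Module.End k M) w, ?_, fun h => hw0 ?_⟩
    · show (g : Module.End k M) _ ∈ W
      rwa [← Module.End.mul_apply, Units.mul_inv, Module.End.one_apply]
    · have := congrArg (g : Module.End k M) h
      rwa [map_zero, ← Module.End.mul_apply (g : Module.End k M), Units.mul_inv, Module.End.one_apply] at this
  have e : ∀ (x : GLM) (v : M), ((g * x * g⁻¹ : GLM) : Module.End k M) ((g : Module.End k M) v) =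
      (g : Module.End k M) ((x : Module.End k M) v) := by
    intro x v
    rw [Units.val_mul, Units.val_mul, Module.End.mul_apply, ← Module.End.mul_apply ((g⁻¹ : GLM) : Module.End k M),
      Units.inv_mul, Module.End.one_apply, Module.End.mul_apply]
  obtain ⟨v, hv, hv0, hfix⟩ := hQ W' hW' fun x hx w hw => by
    show (g : Module.End k M) _ ∈ W
    rw [← e]
    exact hinv _ ⟨x, hx, rfl⟩ _ hw
  refine ⟨(g : Module.End k M) v, hv, fun h => hv0 ?_, ?_⟩
  · have := congrArg ((g⁻¹ : GLM) : Module.End k M) h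
    rwa [map_zero, ← Module.End.mul_apply ((g⁻¹ : GLM) : Module.End k M), Units.inv_mul,
      Module.End.one_apply] at this
  · rintro _ ⟨x, hx, rfl⟩
    exact (e x v).trans (by rw [hfix x hx])

variable {Γ : Type*} [Group Γ] {S : Set (Subgroup Γ)}

theorem centralizingMembers_conj (hconj : ∀ A ∈ S, ∀ g : Γ, conjBy A g ∈ S) {X Y : Subgroup Γ}
    (h : centralizingMembers S X = centralizingMembers S Y) (g : Γ) :
    centralizingMembers S (conjBy X g) = centralizingMembers S (conjBy Y g) := by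
  have key : ∀ Z C : Subgroup Γ, C ∈ centralizingMembers S (conjBy Z g) ↔
      conjBy C g⁻¹ ∈ centralizingMembers S Z := by
    intro Z C
    constructor
    · rintro ⟨hC, hle⟩
      refine ⟨hconj C hC _, ?_⟩
      rintro _ ⟨c, hc, rfl⟩
      rw [Subgroup.mem_centralizer_iff]
      intro z hz
      have h1 := Subgroup.mem_centralizer_iff.1 (hle hc) (g * z * g⁻¹) ⟨z, hz, rfl⟩
      show z * (g⁻¹ * c * g⁻¹⁻¹) = g⁻¹ * c * g⁻¹⁻¹ * z
      calc z * (g⁻¹ * c * g⁻¹⁻¹) = g⁻¹ * (g * z * g⁻¹ * c) * g := by group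
        _ = g⁻¹ * (c * (g * z * g⁻¹)) * g := by rw [h1]
        _ = g⁻¹ * c * g⁻¹⁻¹ * z := by group
    · rintro ⟨hC, hle⟩
      refine ⟨?_, ?_⟩
      · have := hconj _ hC g
        rwa [conjBy_conjBy_inv] at this
      · intro c hc
        rw [Subgroup.mem_centralizer_iff]
        rintro _ ⟨z, hz, rfl⟩
        have h1 := Subgroup.mem_centralizer_iff.1 (hle ⟨c, hc, rfl⟩) z hz
        show g * z * g⁻¹ * c = c * (g * z * g⁻¹)
        calc g * z * g⁻¹ * c = g * (z * (g⁻¹ * c * g⁻¹⁻¹)) * g⁻¹ := by group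
          _ = g * ((g⁻¹ * c * g⁻¹⁻¹) * z) * g⁻¹ := by
            congr 2
          _ = c * (g * z * g⁻¹) := by group
  ext C
  rw [key, key, h]

/-- The subgroup generated by the `E_T ⊓ N`, `E_T` generated by a class of members with equal commuting sets. -/
theorem exists_radical (ρ : Γ →* LinearMap.GeneralLinearGroup k M)
    (hcomm : ∀ A ∈ S, ∀ a ∈ A, ∀ b ∈ A, a * b = b * a)
    (hunip : ∀ A ∈ S, ∀ a ∈ A, IsNilpotent ((ρ a : Module.End k M) - 1))
    (hconj : ∀ A ∈ S, ∀ g : Γ, conjBy A g ∈ S) (N : Subgroup Γ) [hN : N.Normal]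
    (hsame : ∀ A ∈ S, ∀ n ∈ N, centralizingMembers S (conjBy A n) = centralizingMembers S A) :
    ∃ P : Subgroup Γ, P.Normal ∧ HasFixed (P.map ρ) ∧ ∀ A ∈ S, ∀ a ∈ A, ∀ n ∈ N, a * n * a⁻¹ * n⁻¹ ∈ P := by
  let T : Subgroup Γ → Set (Subgroup Γ) := fun A => {C | C ∈ S ∧ centralizingMembers S C = centralizingMembers S A}
  let E : Subgroup Γ → Subgroup Γ := fun A => Subgroup.closure (⋃ C ∈ T A, (C : Set Γ))
  let Q : S → Subgroup Γ := fun A => E A ⊓ N
  have hEcomm : ∀ A, ∀ x ∈ E A, ∀ y ∈ E A, x * y = y * x := by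
    intro A
    have hgen : ∀ x ∈ ⋃ C ∈ T A, (C : Set Γ), ∀ y ∈ ⋃ C ∈ T A, (C : Set Γ), x * y = y * x := by
      intro x hx y hy
      obtain ⟨C, hC, hxC⟩ := Set.mem_iUnion₂.1 hx
      obtain ⟨D, hD, hyD⟩ := Set.mem_iUnion₂.1 hy
      have hDD : D ∈ centralizingMembers S D :=
        ⟨hD.1, fun d hd => Subgroup.mem_centralizer_iff.2 fun e he => hcomm D hD.1 e he d hd⟩
      rw [hD.2, ← hC.2] at hDD
      exact Subgroup.mem_centralizer_iff.1 (hDD.2 hyD) x hxC
    intro x hx y hy
    have h1 : E A ≤ Subgroup.centralizer (⋃ C ∈ T A, (C : Set Γ)) := by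
      rw [Subgroup.closure_le]
      exact fun a ha => Subgroup.mem_centralizer_iff.2 fun b hb => hgen b hb a ha
    have h2 : E A ≤ Subgroup.centralizer {x} := by
      rw [Subgroup.closure_le]
      exact fun b hb => Subgroup.mem_centralizer_singleton_iff.2 (Subgroup.mem_centralizer_iff.1 (h1 hx) b hb)
    exact (Subgroup.mem_centralizer_singleton_iff.1 (h2 hy)).symm
  have hEunip : ∀ A, ∀ x ∈ E A, IsNilpotent ((ρ x : Module.End k M) - 1) := by
    intro A x hx
    have hc : ∀ a ∈ E A, ∀ b ∈ E A, Commute (ρ a : Module.End k M) (ρ b : Module.End k M) := fun a ha b hb => by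
      rw [commute_iff_eq, ← Units.val_mul, ← Units.val_mul, ← map_mul, ← map_mul, hEcomm A a ha b hb]
    induction hx using Subgroup.closure_induction with
    | mem z hz =>
      obtain ⟨C, hC, hzC⟩ := Set.mem_iUnion₂.1 hz
      exact hunip C hC.1 z hzC
    | one => simp
    | mul a b ha hb iha ihb =>
      rw [map_mul, Units.val_mul, show (ρ a : Module.End k M) * (ρ b : Module.End k M) - 1 =
        ((ρ a : Module.End k M) - 1) * (ρ b : Module.End k M) + ((ρ b : Module.End k M) - 1) by noncomm_ring]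
      have h := hc a ha b hb
      have h1 : Commute ((ρ a : Module.End k M) - 1) (ρ b : Module.End k M) := h.sub_left (Commute.one_left _)
      exact Commute.isNilpotent_add
        ((h1.sub_right (Commute.one_right _)).mul_left ((Commute.refl _).sub_right (Commute.one_right _)))
        (h1.isNilpotent_mul_right iha) ihb
    | inv a _ iha =>
      rw [map_inv, show (((ρ a)⁻¹ : GLM) : Module.End k M) - 1 =
        -((((ρ a)⁻¹ : GLM) : Module.End k M) * ((ρ a : Module.End k M) - 1)) by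
          rw [mul_sub, Units.inv_mul, mul_one, neg_sub]]
      have h1 : Commute (((ρ a)⁻¹ : GLM) : Module.End k M) ((ρ a : Module.End k M) - 1) :=
        (Commute.units_inv_left (Commute.refl _)).sub_right (Commute.one_right _)
      exact (h1.isNilpotent_mul_left iha).neg
  have hQmap : ∀ (A : S) (g x : Γ), x ∈ Q A → g * x * g⁻¹ ∈ Q ⟨conjBy A g, hconj A A.2 g⟩ := by
    intro A g x hx
    refine ⟨?_, hN.conj_mem x hx.2 g⟩
    have hle : E A ≤ (E (conjBy A g)).comap (MulAut.conj g).toMonoidHom := by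
      rw [Subgroup.closure_le]
      intro y hy
      obtain ⟨C, hC, hyC⟩ := Set.mem_iUnion₂.1 hy
      exact Subgroup.subset_closure (Set.mem_biUnion (x := conjBy C g)
        ⟨hconj C hC.1 g, centralizingMembers_conj hconj hC.2 g⟩ ⟨y, hyC, rfl⟩)
    exact hle hx.1
  have hQN : ∀ (A : S) (n x : Γ), n ∈ N → x ∈ Q A → n * x * n⁻¹ ∈ Q A := by
    intro A n x hn hx
    have hT : T (conjBy A n) = T A := by
      show {C | C ∈ S ∧ _ = centralizingMembers S (conjBy A n)} = _
      rw [hsame A A.2 n hn]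
    have h := hQmap A n x hx
    rw [Subgroup.mem_inf] at h
    have e' : E (conjBy A n) = E A := by simp only [E, hT]
    exact ⟨e'.le h.1, h.2⟩
  refine ⟨⨆ A : S, Q A, ⟨?_⟩, ?_, ?_⟩
  · intro x hx g
    induction hx using Subgroup.iSup_induction' with
    | hp A y hy => exact Subgroup.mem_iSup_of_mem _ (hQmap A g y hy)
    | h1 => simp
    | hmul a b _ _ iha ihb =>
      rw [show g * (a * b) * g⁻¹ = g * a * g⁻¹ * (g * b * g⁻¹) by group]
      exact mul_mem iha ihb
  · rw [Subgroup.map_iSup]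
    refine hasFixed_iSup _ (fun A => hasFixed_of_comm ?_ ?_) ?_
    · rintro _ ⟨x, hx, rfl⟩ _ ⟨y, hy, rfl⟩
      rw [← map_mul, ← map_mul, hEcomm A x hx.1 y hy.1]
    · rintro _ ⟨x, hx, rfl⟩
      exact hEunip A x hx.1
    · rintro A B _ ⟨g, hg, rfl⟩ _ ⟨x, hx, rfl⟩
      refine ⟨g⁻¹ * x * g, ?_, by simp⟩
      have := hQN A g⁻¹ x (inv_mem hg.2) hx
      rwa [inv_inv] at this
  · intro A hA a ha n hn
    refine Subgroup.mem_iSup_of_mem (⟨A, hA⟩ : S) ⟨?_, N.mul_mem (hN.conj_mem n hn a) (N.inv_mem hn)⟩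
    rw [show a * n * a⁻¹ * n⁻¹ = a * (n * a⁻¹ * n⁻¹) by group]
    refine mul_mem (Subgroup.subset_closure (Set.mem_biUnion (x := A) ⟨hA, rfl⟩ ha))
      (Subgroup.subset_closure (Set.mem_biUnion (x := conjBy A n) ⟨hconj A hA n, hsame A hA n hn⟩ ?_))
    exact ⟨a⁻¹, A.inv_mem ha, rfl⟩

end CfsgLib.QuadPair
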