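import Cfsg.Agent.Lib.QuadPair.RootFamily
import Cfsg.Agent.Lib.QuadPair.Radical
import Cfsg.Agent.Lib.RootSubgroups.Quasisimple
import Cfsg.Agent.Lib.RootSubgroups.SL2Pair
import Cfsg.Agent.S5029
import Cfsg.Agent.S5031

/-!
The connected components of `Σ` under rank one pairs: finitely many, mutually commuting, each generating a
quasisimple group.
-/

set_option autoImplicit false

namespace CfsgLib.RankOne

open Cfsg

variable {Γ : Type*} [Group Γ] {S : Set (Subgroup Γ)}

/-- The commutator of a pair lies in the component of each of the two. -/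
theorem reach_commutator (hS : IsRootSubgroupSet S) {A B : Subgroup Γ} (hA : A ∈ S)
    (hp : ∀ C ∈ S, ¬ IsIsolatedIn (FAdj S) S C) (hB : B ∈ S) (h : RootCommutatorCase S A B) :
    Relation.ReflTransGen (FAdj S) A ⁅A, B⁆ := by
  have hline := (Cfsg.Agent.S5029.result hS (hp A hA) hA hB h.1).2.2.1
  by_contra hne
  have hcomp : componentOf (FAdj S) S ⁅A, B⁆ ≠ componentOf (FAdj S) S A := by
    intro e
    have : A ∈ componentOf (FAdj S) S ⁅A, B⁆ := e ▸ ⟨hA, .refl⟩
    exact hne (fAdj_rsymm this.2)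
  have hex : ∀ C ∈ S, ∃ C' ∈ componentOf (FAdj S) S C, C' ≠ C := fun C hC => by
    obtain ⟨D, hD, hCD⟩ := exists_partner_of_not_isolated hC (hp C hC)
    exact ⟨D, ⟨hD, .single ⟨hC, hD, hCD⟩⟩, fun e => hCD.ne e.symm⟩
  exact Cfsg.Agent.S5031.result hS h.1 hA hcomp (hex _ h.1) (hex _ hA) hline

theorem commute_of_not_reach (hS : IsRootSubgroupSet S) {A B : Subgroup Γ} (hA : A ∈ S)
    (hp : ∀ C ∈ S, ¬ IsIsolatedIn (FAdj S) S C) (hB : B ∈ S) (hne : ¬ Relation.ReflTransGen (FAdj S) A B) :
    ⁅A, B⁆ = ⊥ := by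
  rcases hS.pair A hA B hB with h | h | h
  · exact h
  · exact absurd (Relation.ReflTransGen.single ⟨hA, hB, h⟩) hne
  · have h2 := reach_commutator hS hB hp hA (CfsgLib.RootSubgroups.SL2Pair.commutatorCase_symm h)
    rw [Subgroup.commutator_comm] at h2
    exact absurd ((reach_commutator hS hA hp hB h).trans (fAdj_rsymm h2)) hne

end CfsgLib.RankOne

namespace CfsgLib.QuadPair

open Cfsg LinearMap
open scoped commutatorElement

universe u v

variable {k : Type u} [Field k] {M : Type v} [AddCommGroup M] [Module k M] [FiniteDimensional k M]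

local notation "GLM" => LinearMap.GeneralLinearGroup k M

variable {G : Subgroup (LinearMap.GeneralLinearGroup k M)}

/-- The subgroup generated by `Σ`. -/
noncomputable def rootGroup (G : Subgroup (LinearMap.GeneralLinearGroup k M)) : Subgroup GLM :=
  ⨆ E ∈ quadraticRootSubgroups G, E

/-- Being joined by a chain of rank one pairs. -/
def Reach (G : Subgroup (LinearMap.GeneralLinearGroup k M)) (E F : Subgroup GLM) : Prop :=
  Relation.ReflTransGen (FAdj (quadraticRootSubgroups G)) E F

/-- The component of `E`. -/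
def compSet (G : Subgroup (LinearMap.GeneralLinearGroup k M)) (E : Subgroup GLM) : Set (Subgroup GLM) :=
  componentOf (FAdj (quadraticRootSubgroups G)) (quadraticRootSubgroups G) E

variable (hirr : IsIrreducibleFor G) (h2 : (2 : k) ≠ 0) (h3 : Nat.card k ≠ 3)
variable {E F : Subgroup (LinearMap.GeneralLinearGroup k M)}

theorem le_rootGroup (hE : E ∈ quadraticRootSubgroups G) : E ≤ rootGroup G := RootEmbed.le_iSup_mem hE

theorem rootGroup_le : rootGroup G ≤ G := iSup_root_le

theorem conjBy_rootGroup {g : LinearMap.GeneralLinearGroup k M} (hg : g ∈ G) :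
    conjBy (rootGroup G) g = rootGroup G := by
  have hle : ∀ h ∈ G, conjBy (rootGroup G) h ≤ rootGroup G := by
    intro h hh
    rw [rootGroup, conjBy, Subgroup.map_iSup]
    refine iSup_le fun E => ?_
    rw [Subgroup.map_iSup]
    exact iSup_le fun hE => le_rootGroup (root_conj_mem hE hh)
  refine le_antisymm (hle g hg) ?_
  calc rootGroup G = conjBy (conjBy (rootGroup G) g⁻¹) g := (RankOne.conjBy_conjBy_inv _ _).symm
    _ ≤ conjBy (rootGroup G) g := Subgroup.map_mono (hle g⁻¹ (inv_mem hg))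

theorem compSet_subset {E : Subgroup GLM} : compSet G E ⊆ quadraticRootSubgroups G := fun _ h => h.1

theorem fAdj_root_symm {E F : Subgroup GLM} (h : Reach G E F) : Reach G F E := RankOne.fAdj_rsymm h

theorem compSet_eq_of_mem (h : F ∈ compSet G E) : compSet G F = compSet G E := by
  ext X
  exact ⟨fun hX => ⟨hX.1, h.2.trans hX.2⟩, fun hX => ⟨hX.1, (fAdj_root_symm h.2).trans hX.2⟩⟩

include hirr h2 h3

theorem isolated_sub {X : Subgroup (rootGroup G)}
    (hX : X ∈ (fun E : Subgroup GLM => E.subgroupOf (rootGroup G)) '' quadraticRootSubgroups G) :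
    ¬ IsIsolatedIn (FAdj ((fun E : Subgroup GLM => E.subgroupOf (rootGroup G)) '' quadraticRootSubgroups G))
      ((fun E : Subgroup GLM => E.subgroupOf (rootGroup G)) '' quadraticRootSubgroups G) X := by
  obtain ⟨E, hE, rfl⟩ := hX
  rintro ⟨-, hiso⟩
  obtain ⟨F, hF, hEF⟩ := exists_rankOne_partner hirr h2 h3 hE
  exact (hiso _).1 ⟨⟨E, hE, rfl⟩, ⟨F, hF, rfl⟩,
    RankOneRestrict.pair_subgroupOf hEF.1 (le_rootGroup hE) (le_rootGroup hF)⟩

omit hirr h2 h3 in
theorem reach_of_sub {X Y : Subgroup (rootGroup G)}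
    (h : Relation.ReflTransGen
      (FAdj ((fun E : Subgroup GLM => E.subgroupOf (rootGroup G)) '' quadraticRootSubgroups G)) X Y) :
    Reach G (X.map (rootGroup G).subtype) (Y.map (rootGroup G).subtype) := by
  induction h with
  | refl => exact .refl
  | tail _ hyz ih =>
    obtain ⟨⟨P, hP, rfl⟩, ⟨Q, hQ, rfl⟩, hPQ⟩ := hyz
    refine ih.tail ⟨?_, ?_, RootSubgroups.SL2Pair.isRankOnePair_map _ (rootGroup G).subtype_injective hPQ⟩
    · rw [Subgroup.map_subgroupOf_eq_of_le (le_rootGroup hP)]; exact hP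
    · rw [Subgroup.map_subgroupOf_eq_of_le (le_rootGroup hQ)]; exact hQ

omit hirr h2 h3 in
theorem sub_of_reach (h : Reach G E F) :
    Relation.ReflTransGen (FAdj ((fun E : Subgroup GLM => E.subgroupOf (rootGroup G)) '' quadraticRootSubgroups G))
      (E.subgroupOf (rootGroup G)) (F.subgroupOf (rootGroup G)) := by
  induction h with
  | refl => exact .refl
  | tail _ hyz ih =>
    exact ih.tail ⟨⟨_, hyz.1, rfl⟩, ⟨_, hyz.2.1, rfl⟩,
      RankOneRestrict.pair_subgroupOf hyz.2.2 (le_rootGroup hyz.1) (le_rootGroup hyz.2.1)⟩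

theorem reach_conj_member (hE : E ∈ quadraticRootSubgroups G) (hF : F ∈ quadraticRootSubgroups G)
    {b : LinearMap.GeneralLinearGroup k M} (hb : b ∈ F) : Reach G E (conjBy E b) := by
  obtain ⟨C, hC, hEC⟩ := exists_rankOne_partner hirr h2 h3 hE
  have h := RankOne.reachable_conj (isRootSet hirr h2 h3) (A := E.subgroupOf (rootGroup G)) ⟨E, hE, rfl⟩
    (C := C.subgroupOf (rootGroup G)) ⟨C, hC, rfl⟩
    (RankOneRestrict.pair_subgroupOf hEC.1 (le_rootGroup hE) (le_rootGroup hC))
    (B := F.subgroupOf (rootGroup G)) ⟨F, hF, rfl⟩ (b := ⟨b, le_rootGroup hF hb⟩) hb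
  have := reach_of_sub h
  rwa [RankOneRestrict.map_conjBy_subtype, Subgroup.map_subgroupOf_eq_of_le (le_rootGroup hE)] at this

theorem reach_conj_rootGroup (hE : E ∈ quadraticRootSubgroups G) {g : LinearMap.GeneralLinearGroup k M}
    (hg : g ∈ rootGroup G) : Reach G E (conjBy E g) := by
  have key : ∀ g ∈ rootGroup G, ∀ E ∈ quadraticRootSubgroups G, Reach G E (conjBy E g) := by
    intro g hg
    have hle : rootGroup G = Subgroup.closure (⋃ A ∈ quadraticRootSubgroups G, (A : Set GLM)) := by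
      simp only [rootGroup, Subgroup.closure_iUnion, Subgroup.closure_eq]
    have hmem : ∀ x ∈ Subgroup.closure (⋃ A ∈ quadraticRootSubgroups G, (A : Set GLM)), x ∈ G :=
      fun x hx => rootGroup_le (hle ▸ hx)
    rw [hle] at hg
    induction hg using Subgroup.closure_induction with
    | mem x hx =>
      intro E hE
      obtain ⟨F, hF, hxF⟩ := Set.mem_iUnion₂.1 hx
      exact reach_conj_member hirr h2 h3 hE hF hxF
    | one => intro E _; rw [RankOne.conjBy_one]; exact .refl
    | mul x y hx hy ihx ihy =>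
      intro E hE
      rw [RankOne.conjBy_mul]
      exact (ihy E hE).trans (ihx _ (root_conj_mem hE (hmem y hy)))
    | inv x hx ih =>
      intro E hE
      have := ih _ (root_conj_mem hE (inv_mem (hmem x hx)))
      rw [RankOne.conjBy_conjBy_inv] at this
      exact fAdj_root_symm this
  exact key g hg E hE

theorem commute_of_not_reach_root (hE : E ∈ quadraticRootSubgroups G) (hF : F ∈ quadraticRootSubgroups G)
    (h : ¬ Reach G E F) : ⁅E, F⁆ = ⊥ := by
  have hn : ¬ Relation.ReflTransGen (FAdj ((fun E : Subgroup GLM => E.subgroupOf (rootGroup G)) ''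
      quadraticRootSubgroups G)) (E.subgroupOf (rootGroup G)) (F.subgroupOf (rootGroup G)) := by
    intro hr
    have := reach_of_sub hr
    rw [Subgroup.map_subgroupOf_eq_of_le (le_rootGroup hE), Subgroup.map_subgroupOf_eq_of_le (le_rootGroup hF)] at this
    exact h this
  have h0 := RankOne.commute_of_not_reach (isRootSet hirr h2 h3) ⟨E, hE, rfl⟩
    (fun C hC => isolated_sub hirr h2 h3 hC) ⟨F, hF, rfl⟩ hn
  rw [← RootEmbed.map_image_comm (rootGroup G) (le_rootGroup hE) (le_rootGroup hF)]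
  exact (congrArg (Subgroup.map (rootGroup G).subtype) h0).trans (Subgroup.map_bot _)

theorem reach_bracket (hE : E ∈ quadraticRootSubgroups G) (hF : F ∈ quadraticRootSubgroups G)
    (h : RootCommutatorCase (quadraticRootSubgroups G) E F) : Reach G E ⁅E, F⁆ := by
  have h0 := RankOne.reach_commutator (isRootSet hirr h2 h3) ⟨E, hE, rfl⟩
    (fun C hC => isolated_sub hirr h2 h3 hC) ⟨F, hF, rfl⟩
    (RootEmbed.commutatorCase_subgroupOf (rootGroup G) (fun _ hA => le_rootGroup hA) hE hF h)
  have : Reach G ((E.subgroupOf (rootGroup G)).map (rootGroup G).subtype)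
      (⁅E.subgroupOf (rootGroup G), F.subgroupOf (rootGroup G)⁆.map (rootGroup G).subtype) := reach_of_sub h0
  rwa [RootEmbed.map_image_comm (rootGroup G) (le_rootGroup hE) (le_rootGroup hF),
    Subgroup.map_subgroupOf_eq_of_le (le_rootGroup hE)] at this

/-- A finite set of components covering `Σ`. -/
theorem exists_parts : ∃ (r : ℕ) (rep : Fin r → Subgroup (LinearMap.GeneralLinearGroup k M)),
    (∀ i, rep i ∈ quadraticRootSubgroups G) ∧ (∀ i j, Reach G (rep i) (rep j) → i = j) ∧
      ∀ E ∈ quadraticRootSubgroups G, ∃ i, Reach G (rep i) E := by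
  classical
  let C : Set (Set (Subgroup GLM)) := {c | ∃ E ∈ quadraticRootSubgroups G, c = compSet G E}
  have hC : ∀ c : C, ∃ A, ∃ hA : IsMinOp G A, c.1 = compSet G (opGroup hA.1) := by
    rintro ⟨_, E, hE, rfl⟩
    obtain ⟨A, hA, rfl⟩ := exists_of_mem_root hE
    exact ⟨A, hA, rfl⟩
  choose op hop hceq using hC
  have hli : LinearIndependent k op := by
    rw [linearIndependent_iff_notMem_span]
    intro c hc
    obtain ⟨R, hR, hn⟩ := exists_not_nilpotent hirr h2 (hop c)
    apply hn
    have hcom : Commute (op c) R := by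
      have hmem : Submodule.span k (op '' (Set.univ \ {c})) ≤
          LinearMap.ker (mulLeft k R - mulRight k R : Module.End k M →ₗ[k] Module.End k M) := by
        rw [Submodule.span_le]
        rintro _ ⟨d, ⟨-, hd⟩, rfl⟩
        have hbot : ⁅opGroup (hop d).1, opGroup hR.1⁆ = ⊥ := by
          refine commute_of_not_reach_root hirr h2 h3 (opGroup_mem_root (hop d)) (opGroup_mem_root hR) ?_
          intro hr
          apply hd
          refine Subtype.ext ?_
          rw [hceq d, hceq c]
          have h1 : Reach G (opGroup (hop c).1) (opGroup hR.1) :=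
            .single ⟨opGroup_mem_root (hop c), opGroup_mem_root hR, (exists_special h2 h3 (hop c) hR hn).1⟩
          exact compSet_eq_of_mem ⟨opGroup_mem_root (hop d), h1.trans (fAdj_root_symm hr)⟩
        have hz := Subgroup.commutator_mem_commutator (unip_mem_opGroup (self_mem_opSpace (hop d).1))
          (unip_mem_opGroup (self_mem_opSpace hR.1))
        rw [hbot, Subgroup.mem_bot, commutatorElement_eq_one_iff_mul_comm] at hz
        have := congrArg Units.val hz
        rw [Units.val_mul, Units.val_mul, unip_val (hop d).1.1, unip_val hR.1.1] at this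
        simp only [add_mul, mul_add, one_mul, mul_one, add_assoc, add_right_inj] at this
        rw [add_left_comm] at this
        rw [SetLike.mem_coe, LinearMap.mem_ker, LinearMap.sub_apply, mulLeft_apply, mulRight_apply, sub_eq_zero]
        exact (add_left_cancel (add_left_cancel this)).symm
      have := hmem hc
      rw [LinearMap.mem_ker, LinearMap.sub_apply, mulLeft_apply, mulRight_apply, sub_eq_zero] at this
      exact this.symm
    rw [isNilpotent_pairSum_iff (hop c).1.1 hR.1.1]
    exact ⟨2, by rw [hcom.mul_pow, pow_two, (hop c).1.1, zero_mul]⟩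
  haveI : Finite C := hli.finite
  refine ⟨Nat.card C, fun i => opGroup (hop ((Finite.equivFin C).symm i)).1,
    fun i => opGroup_mem_root (hop _), fun i j h => ?_, fun E hE => ?_⟩
  · apply (Finite.equivFin C).symm.injective
    refine Subtype.ext ?_
    rw [hceq, hceq]
    exact (compSet_eq_of_mem ⟨opGroup_mem_root (hop _), h⟩).symm
  · refine ⟨Finite.equivFin C ⟨compSet G E, E, hE, rfl⟩, ?_⟩
    simp only [Equiv.symm_apply_apply]
    have h := hceq ⟨compSet G E, E, hE, rfl⟩
    have : E ∈ compSet G (opGroup (hop ⟨compSet G E, E, hE, rfl⟩).1) := h ▸ ⟨hE, .refl⟩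
    exact this.2

theorem commute_of_outside {X : Subgroup GLM} (hX : X ∈ quadraticRootSubgroups G)
    (hE : E ∈ quadraticRootSubgroups G) (hne : X ∉ compSet G E) :
    X ≤ Subgroup.centralizer ((⨆ B ∈ compSet G E, B : Subgroup GLM) : Set GLM) := by
  rw [Subgroup.le_centralizer_iff]
  refine iSup₂_le fun B hB => ?_
  have h := commute_of_not_reach_root hirr h2 h3 hB.1 hX fun hr => hne ⟨hX, hB.2.trans hr⟩
  exact Subgroup.commutator_eq_bot_iff_le_centralizer.1 h

theorem conjBy_compSet {g : LinearMap.GeneralLinearGroup k M} (hg : g ∈ rootGroup G) (hF : F ∈ compSet G E) :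
    conjBy F g ∈ compSet G E :=
  ⟨root_conj_mem hF.1 (rootGroup_le hg), hF.2.trans (reach_conj_rootGroup hirr h2 h3 hF.1 hg)⟩

omit h2 h3 in
/-- A normal subgroup of `G₀` with fixed vectors is trivial. -/
theorem eq_bot_of_hasFixed {Q : Subgroup GLM} (hle : Q ≤ rootGroup G)
    (hnorm : ∀ g ∈ rootGroup G, ∀ x ∈ Q, g * x * g⁻¹ ∈ Q) (hQ : HasFixed Q) : Q = ⊥ := by
  have hle' : ∀ g ∈ G, conjBy Q g ≤ rootGroup G := fun g hg =>
    (Subgroup.map_mono hle).trans (conjBy_rootGroup hg).le
  have hall : HasFixed (⨆ g : G, conjBy Q (g : GLM)) := by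
    refine hasFixed_iSup _ (fun g => hasFixed_conjBy hQ _) ?_
    rintro ⟨g, hg⟩ ⟨g', hg'⟩ y hy _ ⟨q, hq, rfl⟩
    have hy' : g⁻¹ * y⁻¹ * g ∈ rootGroup G := by
      have h := (conjBy_rootGroup (inv_mem hg)).le ⟨y⁻¹, inv_mem (hle' g' hg' hy), rfl⟩
      have e : (MulAut.conj g⁻¹).toMonoidHom y⁻¹ = g⁻¹ * y⁻¹ * g := by
        show g⁻¹ * y⁻¹ * g⁻¹⁻¹ = _
        rw [inv_inv]
      rwa [e] at h
    refine ⟨g⁻¹ * y⁻¹ * g * q * (g⁻¹ * y⁻¹ * g)⁻¹, hnorm _ hy' q hq, ?_⟩
    show g * _ * g⁻¹ = y⁻¹ * (g * q * g⁻¹) * y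
    group
  obtain ⟨m0, hm0⟩ := hirr.1
  let F : Submodule k M := ⨅ g ∈ G, Cfsg.fixedSubmodule (conjBy Q g)
  have hFmem : ∀ v, v ∈ F ↔ ∀ g ∈ G, ∀ q ∈ Q, ((g * q * g⁻¹ : GLM) : Module.End k M) v = v := by
    intro v
    simp only [F, Submodule.mem_iInf, mem_fixedSubmodule]
    exact ⟨fun h g hg q hq => h g hg _ ⟨q, hq, rfl⟩, fun h g hg x ⟨q, hq, e⟩ => e ▸ h g hg q hq⟩
  have hFinv : ∀ h ∈ G, ∀ v ∈ F, (h : M →ₗ[k] M) v ∈ F := by
    intro h hh v hv
    rw [hFmem] at hv ⊢
    intro g hg q hq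
    have h1 := hv (h⁻¹ * g) (mul_mem (inv_mem hh) hg) q hq
    rw [show h⁻¹ * g * q * (h⁻¹ * g)⁻¹ = h⁻¹ * (g * q * g⁻¹) * h by group, Units.val_mul, Units.val_mul,
      Module.End.mul_apply, Module.End.mul_apply] at h1
    have := congrArg (h : Module.End k M) h1
    rwa [← Module.End.mul_apply (h : Module.End k M), Units.mul_inv, Module.End.one_apply] at this
  rcases hirr.2 F hFinv with h0 | htop
  · exfalso
    obtain ⟨v, -, hv0, hv⟩ := hall ⊤ (fun e => hm0 (by simpa [e] using Submodule.mem_top (R := k) (x := m0)))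
      (fun _ _ _ _ => Submodule.mem_top)
    refine hv0 ((Submodule.mem_bot k).1 (h0 ▸ (hFmem v).2 fun g hg q hq => hv _ ?_))
    exact Subgroup.mem_iSup_of_mem (⟨g, hg⟩ : G) ⟨q, hq, rfl⟩
  · rw [eq_bot_iff]
    intro q hq
    rw [Subgroup.mem_bot]
    refine Units.ext (LinearMap.ext fun v => ?_)
    have := (hFmem v).1 (htop ▸ Submodule.mem_top) 1 (one_mem G) q hq
    simpa using this

/-- The group of a component: root subgroup class, perfect and quasisimple. -/
theorem component_group (hE : E ∈ quadraticRootSubgroups G) :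
    IsQuasisimple (⨆ B ∈ compSet G E, B : Subgroup GLM) ∧
      IsRootSubgroupClass ((fun A : Subgroup GLM => A.subgroupOf (⨆ B ∈ compSet G E, B)) '' compSet G E) := by
  set K : Subgroup GLM := ⨆ B ∈ compSet G E, B with hK
  set S : Set (Subgroup K) := (fun A : Subgroup GLM => A.subgroupOf K) '' compSet G E with hSdef
  have hle : ∀ A ∈ compSet G E, A ≤ K := fun A hA => RootEmbed.le_iSup_mem hA
  have hKG : K ≤ rootGroup G := iSup₂_le fun A hA => le_rootGroup hA.1
  have hS : IsRootSubgroupSet S := by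
    refine RootEmbed.isRootSubgroupSet_subgroupOf (fun A hA => root_commutative hA.1)
      (fun A hA => root_ne_bot hA.1) (fun A hA g hg => conjBy_compSet hirr h2 h3 (hKG hg) hA) fun A hA B hB => ?_
    rcases pair_trichotomy hirr h2 h3 hA.1 hB.1 with h | h | h
    · exact Or.inl h
    · exact Or.inr (Or.inl h.1)
    · exact Or.inr (Or.inr ⟨⟨h.1, hA.2.trans (reach_bracket hirr h2 h3 hA.1 hB.1 h)⟩, h.2⟩)
  have hnE : E ∈ compSet G E := ⟨hE, .refl⟩
  have hconn : IsConnectedFamily (FAdj S) S := by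
    have key : ∀ B, Reach G E B → Relation.ReflTransGen (FAdj S) (E.subgroupOf K) (B.subgroupOf K) := by
      intro B hB
      induction hB with
      | refl => exact .refl
      | @tail X Y hX hXY ih =>
        exact ih.tail ⟨⟨X, ⟨hXY.1, hX⟩, rfl⟩, ⟨Y, ⟨hXY.2.1, hX.tail hXY⟩, rfl⟩,
          RankOneRestrict.pair_subgroupOf hXY.2.2 (hle X ⟨hXY.1, hX⟩) (hle Y ⟨hXY.2.1, hX.tail hXY⟩)⟩
    rintro _ ⟨A, hA, rfl⟩ _ ⟨B, hB, rfl⟩
    exact (RankOne.fAdj_rsymm (key A hA.2)).trans (key B hB.2)
  obtain ⟨F, hF, hEF⟩ := exists_rankOne_partner hirr h2 h3 hE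
  have hnF : F ∈ compSet G E := ⟨hF, .single ⟨hE, hF, hEF.1⟩⟩
  have hex : ∃ A ∈ S, ∃ B ∈ S, A ≠ B :=
    ⟨_, ⟨E, hnE, rfl⟩, _, ⟨F, hnF, rfl⟩, (RankOneRestrict.pair_subgroupOf hEF.1 (hle E hnE) (hle F hnF)).ne⟩
  have hspec : ∀ A ∈ S, ∀ B ∈ rankOnePartners S A, IsSpecialRankOnePair A B := by
    rintro _ ⟨A, hA, rfl⟩ _ ⟨⟨B, hB, rfl⟩, hAB⟩
    refine ⟨hAB, fun a ha ha1 b hb hb1 e => ?_⟩
    have h := RootSubgroups.SL2Pair.isRankOnePair_map _ K.subtype_injective hAB
    rw [Subgroup.map_subgroupOf_eq_of_le (hle A hA), Subgroup.map_subgroupOf_eq_of_le (hle B hB)] at h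
    have hs : IsSpecialRankOnePair A B := by
      rcases pair_trichotomy hirr h2 h3 hA.1 hB.1 with h' | h' | h'
      · exact absurd h' (RankOne.commutator_ne_bot_of_isRankOnePair h)
      · exact h'
      · exfalso
        obtain ⟨a', hA', rfl⟩ := exists_of_mem_root hA.1
        obtain ⟨b', hB', rfl⟩ := exists_of_mem_root hB.1
        have hn := not_nilpotent_of_rankOne hirr h2 h3 hA' hB' h
        obtain ⟨c, hc, hc1⟩ := (Subgroup.bot_or_exists_ne_one _).resolve_left (root_ne_bot h'.1)
        refine hn (nilpotent_of_class_two h2 h3 hA' hB' ?_)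
        rw [eq_bot_iff, Subgroup.commutator_le]
        intro x hx y hy
        rw [Subgroup.mem_bot, commutatorElement_eq_one_iff_mul_comm]
        exact h'.2.1 x (commutator_sup_le (isMulCommutative_opGroup hA'.1) (isMulCommutative_opGroup hB'.1)
          h'.2.1 le_rfl hx) y hy
    have e' := congrArg (Subgroup.map K.subtype) e
    rw [RankOneRestrict.map_conjBy_subtype, RankOneRestrict.map_conjBy_subtype,
      Subgroup.map_subgroupOf_eq_of_le (hle A hA), Subgroup.map_subgroupOf_eq_of_le (hle B hB)] at e'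
    exact Subtype.ext (hs.2 a ha (fun h1 => ha1 (Subtype.ext h1)) b hb (fun h1 => hb1 (Subtype.ext h1)) e')
  have hcard : IsDegenerateRootSet S → ∀ A ∈ S, 3 < ENat.card A := by
    rintro - _ ⟨A, hA, rfl⟩
    obtain ⟨a, ha, rfl⟩ := exists_of_mem_root hA.1
    let f : k → (opGroup ha.1).subgroupOf K := fun c =>
      ⟨⟨unip (c • a), hle _ hA (unip_mem_opGroup (Submodule.smul_mem _ c (self_mem_opSpace ha.1)))⟩,
        unip_mem_opGroup (Submodule.smul_mem _ c (self_mem_opSpace ha.1))⟩
    have hf : Function.Injective f := by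
      intro c d h
      have := unip_injective (smul_sq ha.1.1 c) (smul_sq ha.1.1 d) (congrArg (fun x => x.1.1) h)
      exact smul_left_injective k ha.2.1 this
    exact (three_lt_enatCard (K := k) h2 h3).trans_le (ENat.card_le_card_of_injective hf)
  have hrad : ∀ N : Subgroup K, N.Normal →
      (∀ A ∈ S, ∀ n ∈ N, centralizingMembers S (conjBy A n) = centralizingMembers S A) →
      ∀ A ∈ S, ∀ n ∈ N, conjBy A n = A := by
    intro N hN hsame
    haveI := hN
    obtain ⟨P, hPn, hPf, hPc⟩ := exists_radical (S := S) K.subtype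
      (fun A hA a ha b hb => RankOne.member_comm hS hA ha hb)
      (by
        rintro _ ⟨A, hA, rfl⟩ a ha
        obtain ⟨X, hXm, rfl⟩ := exists_of_mem_root hA.1
        obtain ⟨Y, hY, e⟩ := mem_opGroup.1 ha
        show IsNilpotent (((a : GLM) : Module.End k M) - 1)
        rw [show (a : GLM) = unip Y from e, unip_val hY.1.1, add_sub_cancel_left]
        exact ⟨2, by rw [pow_two]; exact hY.1.1⟩)
      hS.conj_mem N hsame
    have hPb : P.map K.subtype = ⊥ := by
      refine eq_bot_of_hasFixed hirr ((Subgroup.map_subtype_le P).trans hKG) ?_ hPf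
      have hn : rootGroup G ≤ Subgroup.normalizer ((P.map K.subtype : Subgroup GLM) : Set GLM) := by
        refine iSup₂_le fun B hB => ?_
        by_cases hBE : B ∈ compSet G E
        · refine (hle B hBE).trans fun x hx => ?_
          rw [Subgroup.mem_normalizer_iff]
          intro z
          constructor
          · rintro ⟨p, hp, rfl⟩
            exact ⟨⟨x, hx⟩ * p * ⟨x, hx⟩⁻¹, hPn.conj_mem p hp _, rfl⟩
          · rintro ⟨p, hp, e⟩
            refine ⟨⟨x, hx⟩⁻¹ * p * ⟨x, hx⟩, ?_, ?_⟩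
            · have := hPn.conj_mem p hp ⟨x, hx⟩⁻¹
              rwa [inv_inv] at this
            · show x⁻¹ * (p : GLM) * x = z
              rw [show (p : GLM) = x * z * x⁻¹ from e]
              group
        · exact ((commute_of_outside hirr h2 h3 hB hE hBE).trans
            (Subgroup.centralizer_le (SetLike.coe_subset_coe.2 (Subgroup.map_subtype_le P)))).trans
              (Subgroup.centralizer_le_normalizer _)
      exact fun g hg x hx => (Subgroup.mem_normalizer_iff.1 (hn hg) x).1 hx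
    intro A hA n hn
    refine RankOne.conjBy_eq_self_iff.2 (Subgroup.centralizer_le_normalizer _
      (Subgroup.mem_centralizer_iff.2 fun a ha => ?_))
    have h := hPc A hA a ha n hn
    have h1 : ((a * n * a⁻¹ * n⁻¹ : K) : GLM) ∈ P.map K.subtype := ⟨_, h, rfl⟩
    rw [hPb, Subgroup.mem_bot, OneMemClass.coe_eq_one, mul_inv_eq_one, mul_inv_eq_iff_eq_mul] at h1
    exact h1
  refine ⟨(RootQuasisimple.quasisimple_core hS hex hconn hrad hcard hspec).2, hS, ?_⟩
  exact RankOne.isConjClass_of_connected hS ⟨_, E, hnE, rfl⟩ hconn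

end CfsgLib.QuadPair
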