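import Cfsg.Agent.Lib.QuadPair.SL2Elem

/-!
A system of `2 × 2` matrix units in a ring gives a representation of `SL₂` by units.
-/

set_option autoImplicit false

namespace CfsgLib.QuadPair

variable {S : Type*} [Ring S]

/-- Matrix units `(a, b; c, d)` with sum `e` on the diagonal. -/
structure IsUnitsSystem (e a b c d : S) : Prop where
  sum : a + d = e
  aa : a * a = a
  ab : a * b = b
  ac : a * c = 0
  ad : a * d = 0
  ba : b * a = 0
  bb : b * b = 0
  bc : b * c = a
  bd : b * d = b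
  ca : c * a = c
  cb : c * b = d
  cc : c * c = 0
  cd : c * d = 0
  da : d * a = 0
  db : d * b = 0
  dc : d * c = c
  dd : d * d = d

variable {R : Type*} [CommRing R] {e a b c d : S} (j : R →+ S)

/-- The operator attached to a matrix. -/
def unitsRep (e a b c d : S) (j : R →+ S) (g : Matrix (Fin 2) (Fin 2) R) : S :=
  (1 - e) + (a * j (g 0 0) + b * j (g 0 1) + c * j (g 1 0) + d * j (g 1 1))

theorem unitsRep_mul (hE : IsUnitsSystem e a b c d) (hmul : ∀ x y, j (x * y) = j x * j y)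
    (hone : j 1 = e) (hcomm : ∀ x, Commute (j x) a ∧ Commute (j x) b ∧ Commute (j x) c ∧ Commute (j x) d)
    (g h : Matrix (Fin 2) (Fin 2) R) :
    unitsRep e a b c d j (g * h) = unitsRep e a b c d j g * unitsRep e a b c d j h := by
  obtain ⟨hsum, haa, hab, hac, had, hba, hbb, hbc, hbd, hca, hcb, hcc, hcd, hda, hdb, hdc, hdd⟩ := hE
  subst hsum
  have mva : ∀ x (w : S), j x * (a * w) = a * (j x * w) := fun x w => by
    rw [← mul_assoc, (hcomm x).1.eq, mul_assoc]
  have mvb : ∀ x (w : S), j x * (b * w) = b * (j x * w) := fun x w => by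
    rw [← mul_assoc, (hcomm x).2.1.eq, mul_assoc]
  have mvc : ∀ x (w : S), j x * (c * w) = c * (j x * w) := fun x w => by
    rw [← mul_assoc, (hcomm x).2.2.1.eq, mul_assoc]
  have mvd : ∀ x (w : S), j x * (d * w) = d * (j x * w) := fun x w => by
    rw [← mul_assoc, (hcomm x).2.2.2.eq, mul_assoc]
  have e2 : ∀ {p q r : S} (_ : p * q = r) (w : S), p * (q * w) = r * w := fun h w => by rw [← mul_assoc, h]
  simp only [unitsRep, Matrix.mul_apply, Fin.sum_univ_two, map_add, hmul, add_mul, mul_add, sub_mul, mul_sub,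
    one_mul, mul_one, mul_assoc, mva, mvb, mvc, mvd, fun x => (hcomm x).1.eq, fun x => (hcomm x).2.1.eq,
    fun x => (hcomm x).2.2.1.eq, fun x => (hcomm x).2.2.2.eq, e2 haa, e2 hab, e2 hac, e2 had, e2 hba, e2 hbb, e2 hbc,
    e2 hbd, e2 hca, e2 hcb, e2 hcc, e2 hcd, e2 hda, e2 hdb, e2 hdc, e2 hdd, haa, hab, hac, had, hba, hbb, hbc, hbd,
    hca, hcb, hcc, hcd, hda, hdb, hdc, hdd, zero_mul, mul_zero, add_zero, zero_add, sub_zero]
  abel

theorem unitsRep_one (hE : IsUnitsSystem e a b c d) (hone : j 1 = e) : unitsRep e a b c d j 1 = 1 := by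
  obtain ⟨hsum, haa, hab, hac, had, hba, hbb, hbc, hbd, hca, hcb, hcc, hcd, hda, hdb, hdc, hdd⟩ := hE
  subst hsum
  simp [unitsRep, hone, mul_add, haa, had, hda, hdd]

/-- The representation of `SL₂` attached to matrix units. -/
noncomputable def unitsHom (hE : IsUnitsSystem e a b c d) (hmul : ∀ x y, j (x * y) = j x * j y) (hone : j 1 = e)
    (hcomm : ∀ x, Commute (j x) a ∧ Commute (j x) b ∧ Commute (j x) c ∧ Commute (j x) d) :
    Matrix.SpecialLinearGroup (Fin 2) R →* Sˣ :=
  MonoidHom.toHomUnits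
    { toFun := fun g => unitsRep e a b c d j (g : Matrix (Fin 2) (Fin 2) R)
      map_one' := by rw [Matrix.SpecialLinearGroup.coe_one]; exact unitsRep_one j hE hone
      map_mul' := fun g h => by rw [Matrix.SpecialLinearGroup.coe_mul]; exact unitsRep_mul j hE hmul hone hcomm _ _ }

theorem unitsHom_val (hE : IsUnitsSystem e a b c d) (hmul : ∀ x y, j (x * y) = j x * j y) (hone : j 1 = e)
    (hcomm : ∀ x, Commute (j x) a ∧ Commute (j x) b ∧ Commute (j x) c ∧ Commute (j x) d)
    (g : Matrix.SpecialLinearGroup (Fin 2) R) :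
    (unitsHom j hE hmul hone hcomm g : S) = unitsRep e a b c d j (g : Matrix (Fin 2) (Fin 2) R) := rfl

theorem unitsRep_injective (hE : IsUnitsSystem e a b c d) (hcomm : ∀ x, Commute (j x) a ∧ Commute (j x) b ∧ Commute (j x) c ∧ Commute (j x) d)
    (ha : ∀ x, a * j x = 0 → x = 0) (hb : ∀ x, b * j x = 0 → x = 0) (hc : ∀ x, c * j x = 0 → x = 0)
    (hd : ∀ x, d * j x = 0 → x = 0) : Function.Injective (unitsRep e a b c d j) := by
  obtain ⟨hsum, haa, hab, hac, had, hba, hbb, hbc, hbd, hca, hcb, hcc, hcd, hda, hdb, hdc, hdd⟩ := hE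
  subst hsum
  intro g h hgh
  have key : ∀ g : Matrix (Fin 2) (Fin 2) R,
      a * unitsRep (a + d) a b c d j g * a = a * j (g 0 0) ∧ a * unitsRep (a + d) a b c d j g * d = b * j (g 0 1) ∧
      d * unitsRep (a + d) a b c d j g * a = c * j (g 1 0) ∧ d * unitsRep (a + d) a b c d j g * d = d * j (g 1 1) := by
    intro g
    have e2 : ∀ {p q r : S} (_ : p * q = r) (w : S), p * (q * w) = r * w := fun h w => by rw [← mul_assoc, h]
    refine ⟨?_, ?_, ?_, ?_⟩ <;>
      simp only [unitsRep, add_mul, mul_add, sub_mul, mul_sub, one_mul, mul_one, mul_assoc,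
        fun x => (hcomm x).1.eq, fun x => (hcomm x).2.2.2.eq, e2 haa, e2 hab, e2 hac, e2 had, e2 hba, e2 hbd, e2 hca,
        e2 hcd, e2 hda, e2 hdb, e2 hdc, e2 hdd, haa, had, hda, hdd, zero_mul, mul_zero, add_zero, zero_add, sub_zero,
        sub_self]
  have h00 : g 0 0 = h 0 0 := sub_eq_zero.1
    (ha _ (by rw [map_sub, mul_sub, ← (key g).1, ← (key h).1, hgh, sub_self]))
  have h01 : g 0 1 = h 0 1 := sub_eq_zero.1
    (hb _ (by rw [map_sub, mul_sub, ← (key g).2.1, ← (key h).2.1, hgh, sub_self]))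
  have h10 : g 1 0 = h 1 0 := sub_eq_zero.1
    (hc _ (by rw [map_sub, mul_sub, ← (key g).2.2.1, ← (key h).2.2.1, hgh, sub_self]))
  have h11 : g 1 1 = h 1 1 := sub_eq_zero.1
    (hd _ (by rw [map_sub, mul_sub, ← (key g).2.2.2, ← (key h).2.2.2, hgh, sub_self]))
  ext i j'
  fin_cases i <;> fin_cases j' <;> assumption

end CfsgLib.QuadPair
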