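import Cfsg.Agent.Lib.QuadPair.Nilpotent
import Cfsg.Agent.Lib.QuadPair.MatUnits

/-!
The corner of `AB + BA` on which it is invertible, and the attached representation of `SL₂(k[X]/(q))`.
-/

set_option autoImplicit false

namespace CfsgLib.QuadPair

open Cfsg LinearMap CfsgLib.SL2Ring

universe u v w

variable {k : Type u} [Field k] {M : Type v} [AddCommGroup M] [Module k M]

theorem commute_aeval_of_commute {a z : Module.End k M} (h : Commute z a) (P : Polynomial k) :
    Commute (Polynomial.aeval z P) a := by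
  induction P using Polynomial.induction_on' with
  | add p q hp hq => rw [map_add]; exact hp.add_left hq
  | monomial n c =>
    rw [Polynomial.aeval_monomial]
    exact (Algebra.commute_algebraMap_left c a).mul_left (h.pow_left n)

/-- A commutative algebra `R = k[r]`, `r` invertible, acting on the corner `e` by `z = AB + BA`. -/
structure PairCorner (A B : Module.End k M) (R : Type w) [CommRing R] [Algebra k R] where
  j : R →ₗ[k] Module.End k M
  r : R
  ri : R
  m : ℕ
  mul : ∀ x y, j (x * y) = j x * j y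
  inj : ∀ x, j x = 0 → x = 0
  commA : ∀ x, Commute (j x) A
  commB : ∀ x, Commute (j x) B
  commZ : ∀ x, Commute (j x) (pairSum A B)
  jr : j r = pairSum A B * j 1
  jri : ri * r = 1
  gen : Algebra.adjoin k ({r} : Set R) = ⊤
  nil : pairSum A B ^ (m + 1) * (1 - j 1) = 0

open Polynomial in
theorem exists_corner [FiniteDimensional k M] (A B : Module.End k M) (hA : A * A = 0) (hB : B * B = 0) :
    ∃ q : Polynomial k, q.Monic ∧ Nonempty (PairCorner A B (AdjoinRoot q)) := by
  set z := pairSum A B with hz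
  have hint : IsIntegral k z := Algebra.IsIntegral.isIntegral z
  obtain ⟨m, q, hμ, hnd⟩ : ∃ (m : ℕ) (q : Polynomial k), minpoly k z = X ^ m * q ∧ ¬ X ∣ q := by
    obtain ⟨q, h1, h2⟩ := exists_eq_pow_rootMultiplicity_mul_and_not_dvd (minpoly k z) (minpoly.ne_zero hint) 0
    rw [map_zero, sub_zero] at h1 h2
    exact ⟨_, q, h1, h2⟩
  have hq : q.Monic := by
    have := minpoly.monic hint
    rw [hμ] at this
    exact (monic_X_pow m).of_mul_monic_left this
  obtain ⟨u, v, huv⟩ : IsCoprime (X ^ (m + 1)) q := ((prime_X.coprime_iff_not_dvd).2 hnd).pow_left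
  obtain ⟨a, b, hab⟩ : IsCoprime X q := (prime_X.coprime_iff_not_dvd).2 hnd
  set e := aeval z (u * X ^ (m + 1)) with he
  have hcomm' : ∀ P Q : Polynomial k, aeval z P * aeval z Q = aeval z Q * aeval z P := fun P Q => by
    rw [← map_mul, ← map_mul, mul_comm]
  have hzq : ∀ P : Polynomial k, aeval z (P * X ^ (m + 1) * q) = 0 := fun P => by
    rw [show P * X ^ (m + 1) * q = P * X * (minpoly k z) by rw [hμ]; ring, map_mul, minpoly.aeval, mul_zero]
  have he1 : 1 - e = aeval z (v * q) := by
    rw [he, ← map_one (aeval z : Polynomial k →ₐ[k] Module.End k M), ← map_sub]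
    congr 1
    linear_combination -huv
  have hqe : aeval z q * e = 0 := by
    rw [he, ← map_mul, show q * (u * X ^ (m + 1)) = u * X ^ (m + 1) * q by ring, hzq]
  have hee : e * e = e := by
    have : e * (1 - e) = 0 := by
      rw [he1, he, ← map_mul, show u * X ^ (m + 1) * (v * q) = u * v * X ^ (m + 1) * q by ring, hzq]
    rwa [mul_sub, mul_one, sub_eq_zero, eq_comm] at this
  let jl : AdjoinRoot q →ₗ[k] Module.End k M :=
    (mulRight k e).comp ((aeval z : Polynomial k →ₐ[k] Module.End k M).toLinearMap.comp (AdjoinRoot.modByMonicHom hq))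
  have hjl : ∀ P : Polynomial k, jl (AdjoinRoot.mk q P) = aeval z P * e := by
    intro P
    show aeval z (AdjoinRoot.modByMonicHom hq (AdjoinRoot.mk q P)) * e = _
    rw [AdjoinRoot.modByMonicHom_mk]
    conv_rhs => rw [← modByMonic_add_div P q, map_add, add_mul, map_mul, hcomm' q, mul_assoc, hqe, mul_zero, add_zero]
  have hjone : jl 1 = e := by rw [← map_one (AdjoinRoot.mk q), hjl, map_one, one_mul]
  have hcommute : ∀ (a : Module.End k M), Commute z a → ∀ x, Commute (jl x) a := by
    intro a ha x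
    obtain ⟨P, rfl⟩ := AdjoinRoot.mk_surjective x
    rw [hjl]
    exact (commute_aeval_of_commute ha P).mul_left (commute_aeval_of_commute ha _)
  refine ⟨q, hq, ⟨{
    j := jl, r := AdjoinRoot.root q, ri := AdjoinRoot.mk q a, m := m
    mul := ?_, inj := ?_, commA := hcommute A (commute_pairSum_left hA)
    commB := hcommute B (commute_pairSum_right hB), commZ := hcommute z (Commute.refl z)
    jr := ?_, jri := ?_, gen := AdjoinRoot.adjoinRoot_eq_top, nil := ?_ }⟩⟩
  · intro x y
    obtain ⟨P, rfl⟩ := AdjoinRoot.mk_surjective x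
    obtain ⟨Q, rfl⟩ := AdjoinRoot.mk_surjective y
    rw [← map_mul, hjl, hjl, hjl, map_mul]
    have : e * aeval z Q = aeval z Q * e := by rw [he, hcomm']
    rw [mul_assoc (aeval z P) e, ← mul_assoc e, this, mul_assoc (aeval z Q) e, hee]
    simp only [mul_assoc]
  · intro x hx
    obtain ⟨P, rfl⟩ := AdjoinRoot.mk_surjective x
    rw [hjl, he, ← map_mul] at hx
    have hdvd := minpoly.dvd k z hx
    rw [hμ] at hdvd
    have hqd : q ∣ P * (u * X ^ (m + 1)) := (dvd_mul_left q _).trans hdvd
    exact AdjoinRoot.mk_eq_zero.2 ((show IsCoprime q (u * X ^ (m + 1)) from ⟨v, 1, by linear_combination huv⟩).dvd_of_dvd_mul_right hqd)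
  · rw [← AdjoinRoot.mk_X, hjl, aeval_X, hjone]
  · have := congrArg (AdjoinRoot.mk q) hab
    rwa [map_add, map_mul, map_mul, AdjoinRoot.mk_self, mul_zero, add_zero, map_one, AdjoinRoot.mk_X] at this
  · rw [hjone, he1, show z ^ (m + 1) = aeval z ((X : Polynomial k) ^ (m + 1)) by simp, ← map_mul,
      show (X : Polynomial k) ^ (m + 1) * (v * q) = v * X ^ (m + 1) * q by ring, hzq]

namespace PairCorner

variable {A B : Module.End k M} {R : Type w} [CommRing R] [Algebra k R] (P : PairCorner A B R)

theorem j_mul_one (x : R) : P.j x * P.j 1 = P.j x := by rw [← P.mul, mul_one]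

theorem one_mul_j (x : R) : P.j 1 * P.j x = P.j x := by rw [← P.mul, one_mul]

theorem mul_ri : pairSum A B * P.j P.ri = P.j 1 := by
  conv_rhs => rw [← P.jri, mul_comm, P.mul, P.jr, mul_assoc, P.one_mul_j]

theorem move (x : R) {T : Module.End k M} (h : Commute (P.j x) T) (w : Module.End k M) :
    P.j x * (T * w) = T * (P.j x * w) := by rw [← mul_assoc, h.eq, mul_assoc]

theorem commute_j (x y : R) : Commute (P.j x) (P.j y) := by
  show P.j x * P.j y = P.j y * P.j x
  rw [← P.mul, ← P.mul, mul_comm]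

theorem units_system (hA : A * A = 0) (hB : B * B = 0) :
    IsUnitsSystem (P.j 1) (A * B * P.j P.ri) (A * P.j 1) (B * P.j P.ri) (B * A * P.j P.ri) := by
  have a0 : ∀ w, A * (A * w) = 0 := fun w => by rw [← mul_assoc, hA, zero_mul]
  have b0 : ∀ w, B * (B * w) = 0 := fun w => by rw [← mul_assoc, hB, zero_mul]
  have hzA := commute_pairSum_left (B := B) hA
  have hzB := commute_pairSum_right (A := A) hB
  have aba : ∀ w, A * (B * (A * w)) = A * (pairSum A B * w) := fun w => by
    simp only [← mul_assoc]; rw [mul_pairSum hA]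
  have bab : ∀ w, B * (A * (B * w)) = B * (pairSum A B * w) := fun w => by
    simp only [← mul_assoc]; rw [pairSum_comm, mul_pairSum hB]
  have hzz : ∀ w, pairSum A B * (P.j P.ri * w) = P.j 1 * w := fun w => by rw [← mul_assoc, P.mul_ri]
  constructor
  · rw [← add_mul]; exact P.mul_ri
  all_goals simp only [mul_assoc, P.move _ (P.commA _), P.move _ (P.commB _), (P.commA _).eq, (P.commB _).eq, a0, b0,
    hA, hB, mul_zero, aba, bab, P.mul_ri, hzz, P.one_mul_j, P.j_mul_one]

theorem commute_units (x : R) :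
    Commute (P.j x) (A * B * P.j P.ri) ∧ Commute (P.j x) (A * P.j 1) ∧ Commute (P.j x) (B * P.j P.ri) ∧
      Commute (P.j x) (B * A * P.j P.ri) :=
  ⟨((P.commA x).mul_right (P.commB x)).mul_right (P.commute_j x _), (P.commA x).mul_right (P.commute_j x _),
    (P.commB x).mul_right (P.commute_j x _), ((P.commB x).mul_right (P.commA x)).mul_right (P.commute_j x _)⟩

/-- The representation of `SL₂(R)`. -/
noncomputable def rep (hA : A * A = 0) (hB : B * B = 0) :
    Matrix.SpecialLinearGroup (Fin 2) R →* LinearMap.GeneralLinearGroup k M :=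
  unitsHom P.j.toAddMonoidHom (P.units_system hA hB) P.mul rfl P.commute_units

theorem rep_up (hA : A * A = 0) (hB : B * B = 0) (x : R) :
    (P.rep hA hB (up x) : Module.End k M) = 1 + A * P.j x := by
  have h := P.units_system hA hB
  show 1 - P.j 1 + (A * B * P.j P.ri * P.j 1 + A * P.j 1 * P.j x + B * P.j P.ri * P.j 0 + B * A * P.j P.ri * P.j 1) = _
  rw [map_zero, mul_zero, add_zero, mul_assoc (A * B), P.j_mul_one, mul_assoc (B * A), P.j_mul_one,
    mul_assoc A (P.j 1), P.one_mul_j]
  rw [← h.sum]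
  abel

theorem rep_lo (hA : A * A = 0) (hB : B * B = 0) (x : R) :
    (P.rep hA hB (lo x) : Module.End k M) = 1 + B * P.j (P.ri * x) := by
  have h := P.units_system hA hB
  show 1 - P.j 1 + (A * B * P.j P.ri * P.j 1 + A * P.j 1 * P.j 0 + B * P.j P.ri * P.j x + B * A * P.j P.ri * P.j 1) = _
  rw [map_zero, mul_zero, add_zero, mul_assoc (A * B), P.j_mul_one, mul_assoc (B * A), P.j_mul_one,
    mul_assoc B (P.j P.ri), ← P.mul]
  rw [← h.sum]
  abel

theorem rep_fix (hA : A * A = 0) (hB : B * B = 0) (g : Matrix.SpecialLinearGroup (Fin 2) R) :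
    (P.rep hA hB g : Module.End k M) * (1 - P.j 1) = 1 - P.j 1 ∧
      (1 - P.j 1) * (P.rep hA hB g : Module.End k M) = 1 - P.j 1 := by
  have hs : ∀ (T : Module.End k M) (x : R), (T * P.j x) * (1 - P.j 1) = 0 := fun T x => by
    rw [mul_assoc, mul_sub, mul_one, P.j_mul_one, sub_self, mul_zero]
  have hs' : ∀ (T : Module.End k M) (x : R), Commute (P.j x) T → (1 - P.j 1) * (T * P.j x) = 0 := fun T x hT => by
    rw [← hT.eq, ← mul_assoc, sub_mul, one_mul, P.one_mul_j, sub_self, zero_mul]
  have h11 : (1 - P.j 1) * (1 - P.j 1) = 1 - P.j 1 := by simp [mul_sub, sub_mul, P.one_mul_j]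
  show unitsRep _ _ _ _ _ _ _ * _ = _ ∧ _ * unitsRep _ _ _ _ _ _ _ = _
  constructor
  · simp only [unitsRep, toAddMonoidHom_coe, add_mul, h11, hs, add_zero]
  · simp only [unitsRep, toAddMonoidHom_coe, mul_add, h11, hs' _ _ (P.commute_units _).1,
      hs' _ _ (P.commute_units _).2.1, hs' _ _ (P.commute_units _).2.2.1, hs' _ _ (P.commute_units _).2.2.2, add_zero]

end PairCorner

end CfsgLib.QuadPair
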