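import Cfsg.Agent.Lib.QuadPair.Inner

/-!
A quadratic pair is a central product of quasisimple groups: the components of `Σ`, and by recursion those of the
quadratic pair induced on an irreducible submodule by the quadratic elements centralising `G₀`.
-/

set_option autoImplicit false

namespace CfsgLib.QuadPair

open Cfsg LinearMap
open scoped commutatorElement

universe u v

variable {k : Type u} [Field k] {M : Type v} [AddCommGroup M] [Module k M]

local notation "GLM" => LinearMap.GeneralLinearGroup k M

variable {G : Subgroup (LinearMap.GeneralLinearGroup k M)} {X : Module.End k M}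

/-- The group generated by a component. -/
noncomputable def compGroup (G : Subgroup (LinearMap.GeneralLinearGroup k M)) (E : Subgroup GLM) : Subgroup GLM :=
  ⨆ B ∈ compSet G E, B

theorem commute_end_of_commute_units {g : LinearMap.GeneralLinearGroup k M} (hX : X * X = 0)
    (h : unip X * g = g * unip X) : Commute X (g : Module.End k M) := by
  have := congrArg Units.val h
  rw [Units.val_mul, Units.val_mul, unip_val hX, add_mul, mul_add, one_mul, mul_one, add_right_inj] at this
  exact this

/-- The elements mapping a subspace onto itself. -/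
def keepSub (W : Submodule k M) : Subgroup GLM where
  carrier := {g | (∀ w ∈ W, (g : Module.End k M) w ∈ W) ∧
    ∀ w ∈ W, ((g⁻¹ : GLM) : Module.End k M) w ∈ W}
  one_mem' := ⟨fun w hw => by simpa using hw, fun w hw => by simpa using hw⟩
  mul_mem' := by
    rintro g h ⟨g1, g2⟩ ⟨h1, h2⟩
    exact ⟨fun w hw => g1 _ (h1 w hw), fun w hw => by rw [mul_inv_rev]; exact h2 _ (g2 w hw)⟩
  inv_mem' := by rintro g ⟨g1, g2⟩; exact ⟨g2, by rwa [inv_inv]⟩

theorem le_keepSub {H : Subgroup GLM} {W : Submodule k M}
    (h : ∀ g ∈ H, ∀ w ∈ W, (g : Module.End k M) w ∈ W) : H ≤ keepSub W :=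
  fun g hg => ⟨h g hg, h g⁻¹ (inv_mem hg)⟩

variable [FiniteDimensional k M]

theorem exists_minOp {X : Module.End k M} (hX : X ∈ opSet G) (hX0 : X ≠ 0) : ∃ A, IsMinOp G A := by
  classical
  have hex : ∃ n, ∃ Y ∈ opSet G, Y ≠ 0 ∧ Module.finrank k (range Y) = n := ⟨_, X, hX, hX0, rfl⟩
  obtain ⟨Y, hY, hY0, hn⟩ := Nat.find_spec hex
  exact ⟨Y, hY, hY0, fun Z hZ hZ0 => hn ▸ Nat.find_le ⟨Z, hZ, hZ0, rfl⟩⟩

variable (hG : IsQuadraticPair G) (h2 : (2 : k) ≠ 0) (h3 : Nat.card k ≠ 3)
include hG h2 h3

theorem le_rootGroup_sup_centralizer :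
    G ≤ rootGroup G ⊔ (G ⊓ Subgroup.centralizer (rootGroup G : Set GLM)) := by
  conv_lhs => rw [← hG.2]
  rw [Subgroup.closure_le]
  intro σ hσ
  have := unip_mem_sup hG.1 h2 h3 _ (op_mem hσ).1
  rwa [unip_op (op_mem hσ).1.1] at this

theorem compGroup_normal {E : Subgroup GLM} (hE : E ∈ quadraticRootSubgroups G)
    {g : LinearMap.GeneralLinearGroup k M} (hg : g ∈ G) : conjBy (compGroup G E) g = compGroup G E := by
  have hle : rootGroup G ⊔ (G ⊓ Subgroup.centralizer (rootGroup G : Set GLM)) ≤
      Subgroup.normalizer (compGroup G E : Set GLM) := by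
    refine sup_le (fun g hg => ?_) (inf_le_right.trans ((Subgroup.centralizer_le
      (SetLike.coe_subset_coe.2 (iSup₂_le fun B hB => le_rootGroup hB.1))).trans
        (Subgroup.centralizer_le_normalizer _)))
    have h1 : ∀ g ∈ rootGroup G, conjBy (compGroup G E) g ≤ compGroup G E := by
      intro g hg
      rw [compGroup, conjBy, Subgroup.map_iSup]
      refine iSup_le fun B => ?_
      rw [Subgroup.map_iSup]
      exact iSup_le fun hB => RootEmbed.le_iSup_mem (S := compSet G E) (conjBy_compSet hG.1 h2 h3 hg hB)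
    refine RankOne.conjBy_eq_self_iff.1 (le_antisymm (h1 g hg) ?_)
    calc compGroup G E = conjBy (conjBy (compGroup G E) g⁻¹) g := (RankOne.conjBy_conjBy_inv _ _).symm
      _ ≤ conjBy (compGroup G E) g := Subgroup.map_mono (h1 g⁻¹ (inv_mem hg))
  exact RankOne.conjBy_eq_self_iff.2 (hle (le_rootGroup_sup_centralizer hG h2 h3 hg))

/-- An operator commuting with a component group and killed by one of its root operators vanishes. -/
theorem eq_zero_of_commute_component {A Y : Module.End k M} (hA : IsMinOp G A)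
    (hY : ∀ g ∈ compGroup G (opGroup hA.1), Commute Y (g : Module.End k M)) (h0 : Y * A = 0) : Y = 0 := by
  set E := opGroup hA.1 with hEdef
  have hE : E ∈ quadraticRootSubgroups G := opGroup_mem_root hA
  set K := compGroup G E with hK
  have hq : IsQuasisimple K := (component_group hG.1 h2 h3 hE).1
  have hnE : E ∈ compSet G E := ⟨hE, .refl⟩
  have haK : unip A ∈ K :=
    RootEmbed.le_iSup_mem (S := compSet G E) hnE (unip_mem_opGroup (self_mem_opSpace hA.1))
  let N : Subgroup K :=
    { carrier := {g | Y * ((g : GLM) : Module.End k M) = Y}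
      one_mem' := by simp
      mul_mem' := fun {a b} ha hb => by
        simp only [Set.mem_ofPred_eq, Subgroup.coe_mul, Units.val_mul] at ha hb ⊢
        rw [← mul_assoc, ha, hb]
      inv_mem' := fun {a} ha => by
        simp only [Set.mem_ofPred_eq, Subgroup.coe_inv] at ha ⊢
        conv_lhs => rw [← ha, mul_assoc, Units.mul_inv, mul_one] }
  haveI : N.Normal := by
    refine ⟨fun n hn g => ?_⟩
    show Y * _ = Y
    rw [Subgroup.coe_mul, Subgroup.coe_mul, Subgroup.coe_inv, Units.val_mul, Units.val_mul, ← mul_assoc, ← mul_assoc,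
      (hY _ g.2).eq, mul_assoc _ Y, show Y * ((n : GLM) : Module.End k M) = Y from hn, ← (hY _ g.2).eq, mul_assoc,
      Units.mul_inv, mul_one]
  have hNtop : N = ⊤ := by
    rcases Cores.normal_eq_top_or_le_center_of_isQuasisimple hq N with h | h
    · exact h
    · exfalso
      obtain ⟨R, hR, hn⟩ := exists_not_nilpotent hG.1 h2 hA
      have hmem : (⟨_, haK⟩ : K) ∈ N := by
        show Y * _ = Y
        rw [unip_val hA.1.1, mul_add, mul_one, h0, add_zero]
      have hRK : unip R ∈ K := RootEmbed.le_iSup_mem (S := compSet G E)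
        (⟨opGroup_mem_root hR, .single ⟨hE, opGroup_mem_root hR, (exists_special h2 h3 hA hR hn).1⟩⟩ :
          opGroup hR.1 ∈ compSet G E) (unip_mem_opGroup (self_mem_opSpace hR.1))
      have hc := commute_end_of_commute_units hA.1.1
        (congrArg Subtype.val (Subgroup.mem_center_iff.1 (h hmem) ⟨_, hRK⟩)).symm
      rw [unip_val hR.1.1] at hc
      have hAR : Commute A R := by simpa using hc.sub_right (Commute.one_right A)
      apply hn
      rw [isNilpotent_pairSum_iff hA.1.1 hR.1.1]
      exact ⟨2, by rw [hAR.mul_pow, pow_two, hA.1.1, zero_mul]⟩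
  have hinv : ∀ g ∈ G, ∀ w ∈ ker Y ⊓ commutatorSubmodule K,
      (g : M →ₗ[k] M) w ∈ commutatorSubmodule K := by
    intro g hg w hw
    have hle : commutatorSubmodule K ≤ (commutatorSubmodule K).comap (g : Module.End k M) := by
      refine commutatorSubmodule_le fun x hx => ?_
      rintro _ ⟨v, rfl⟩
      have hx' : g * x * g⁻¹ ∈ K := by
        rw [hK, ← compGroup_normal hG h2 h3 hE hg]
        exact ⟨x, hx, rfl⟩
      refine le_commutatorSubmodule hx' ⟨(g : Module.End k M) v, ?_⟩
      rw [LinearMap.sub_apply, LinearMap.sub_apply, Module.End.one_apply, Module.End.one_apply, map_sub,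
        Units.val_mul, Units.val_mul, Module.End.mul_apply, Module.End.mul_apply,
        ← Module.End.mul_apply ((g⁻¹ : GLM) : Module.End k M), Units.inv_mul, Module.End.one_apply]
    exact hle hw.2
  have hkill : commutatorSubmodule K ≤ ker Y := by
    refine commutatorSubmodule_le fun x hx => range_le_ker_iff.2 ?_
    have hx' : Y * (x : Module.End k M) = Y := (hNtop ▸ Subgroup.mem_top _ : (⟨x, hx⟩ : K) ∈ N)
    rw [← Module.End.mul_eq_comp, mul_sub, hx', mul_one, sub_self]
  rcases hG.1.2 (commutatorSubmodule K) (fun g hg w hw => hinv g hg w ⟨hkill hw, hw⟩) with h | h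
  · exfalso
    have := le_commutatorSubmodule (H := K) haK
    rw [h, le_bot_iff, range_eq_bot, unip_val hA.1.1, add_sub_cancel_left] at this
    exact hA.2.1 this
  · exact ker_eq_top.1 (top_le_iff.1 (h ▸ hkill))

/-- Each operator lies in one component group or centralises `G₀`. -/
theorem unip_dichotomy : ∀ X ∈ opSet G,
    (∃ E ∈ quadraticRootSubgroups G, unip X ∈ compGroup G E) ∨
      unip X ∈ Subgroup.centralizer (rootGroup G : Set GLM) := by
  suffices ∀ n : ℕ, ∀ X ∈ opSet G, Module.finrank k (range X) ≤ n →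
      (∃ E ∈ quadraticRootSubgroups G, unip X ∈ compGroup G E) ∨
        unip X ∈ Subgroup.centralizer (rootGroup G : Set GLM) from fun X hX => this _ X hX le_rfl
  intro n
  induction n with
  | zero =>
    intro X _ hle
    rw [range_eq_bot.1 (Submodule.finrank_eq_zero.1 (Nat.le_zero.1 hle)), unip_zero]
    exact Or.inr (one_mem _)
  | succ n ih =>
    intro X hX hle
    by_cases hno : ∀ R, IsMinOp G R → IsNilpotent (pairSum X R)
    · exact Or.inr (sandwichKernel_le_centralizer hG.1 h2 h3 (unip_mem_sandwichKernel h2 h3 hX hno))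
    push Not at hno
    obtain ⟨R, hR, hn⟩ := hno
    obtain ⟨A, hA, hXA, ⟨hAX, hXA'⟩, hlt⟩ := exists_split h2 h3 hX hR hn
    left
    set E := opGroup hA.1 with hEdef
    have hE : E ∈ quadraticRootSubgroups G := opGroup_mem_root hA
    refine ⟨E, hE, ?_⟩
    have haK : unip A ∈ compGroup G E :=
      RootEmbed.le_iSup_mem (S := compSet G E) ⟨hE, .refl⟩ (unip_mem_opGroup (self_mem_opSpace hA.1))
    have hmul : unip X = unip A * unip (X - A) := by
      refine Units.ext ?_
      rw [Units.val_mul, unip_val hX.1, unip_val hA.1.1, unip_val hXA.1, mul_add, mul_one, add_mul, one_mul,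
        mul_sub, hAX, hA.1.1, sub_self]
      abel
    rw [hmul]
    refine mul_mem haK ?_
    have hzero : (∀ g ∈ compGroup G E, unip (X - A) * g = g * unip (X - A)) → unip (X - A) ∈ compGroup G E := by
      intro hc
      have h0 := eq_zero_of_commute_component hG h2 h3 hA
        (fun g hg => commute_end_of_commute_units hXA.1 (hc g hg))
        (show (X - A) * A = 0 by rw [sub_mul, hXA', hA.1.1, sub_zero])
      rw [h0, unip_zero]
      exact one_mem _
    rcases ih (X - A) hXA (by omega) with ⟨F, hF, hmem⟩ | hc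
    · by_cases hEF : F ∈ compSet G E
      · rwa [compGroup, compSet_eq_of_mem hEF] at hmem
      · refine hzero fun g hg => ?_
        have hle : compGroup G F ≤ Subgroup.centralizer (compGroup G E : Set GLM) := by
          refine iSup₂_le fun B hB => commute_of_outside hG.1 h2 h3 hB.1 hE fun hBE => hEF ⟨hF, ?_⟩
          exact hBE.2.trans (fAdj_root_symm hB.2)
        exact (Subgroup.mem_centralizer_iff.1 (hle hmem) g hg).symm
    · exact hzero fun g hg => (Subgroup.mem_centralizer_iff.1 hc g
        (iSup₂_le (fun B hB => le_rootGroup hB.1) hg)).symm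

omit hG h2 h3

/-- A family of factors. -/
def HasFactors (G : Subgroup (LinearMap.GeneralLinearGroup k M)) : Prop :=
  ∃ 𝒮 : Set (Subgroup GLM), 𝒮.Finite ∧
    (∀ K ∈ 𝒮, K ≤ G ∧ (∀ g ∈ G, conjBy K g = K) ∧ IsQuasisimple K ∧
      Subgroup.closure (quadraticElements G ∩ (K : Set GLM)) = K) ∧
    (∀ K ∈ 𝒮, ∀ L ∈ 𝒮, K ≠ L → ⁅K, L⁆ = ⊥) ∧ ∀ σ ∈ quadraticElements G, ∃ K ∈ 𝒮, σ ∈ K

end CfsgLib.QuadPair

namespace CfsgLib.QuadPair

open Cfsg LinearMap
open scoped commutatorElement

universe u v

/-- Every quadratic pair is a central product of quasisimple groups. -/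
theorem exists_factors {k : Type u} [Field k] (h2 : (2 : k) ≠ 0) (h3 : Nat.card k ≠ 3) :
    ∀ (n : ℕ) {M : Type v} [AddCommGroup M] [Module k M] [FiniteDimensional k M]
      (G : Subgroup (LinearMap.GeneralLinearGroup k M)), Module.finrank k M < n → IsQuadraticPair G → HasFactors G := by
  intro n
  induction n with
  | zero => intro M _ _ _ G h; omega
  | succ n ih =>
  intro M _ _ _ G hn hG
  by_cases hne : ∃ σ, σ ∈ quadraticElements G
  swap
  · exact ⟨∅, Set.finite_empty, by simp, by simp, fun σ hσ => absurd ⟨σ, hσ⟩ hne⟩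
  obtain ⟨σ0, hσ0⟩ := hne
  obtain ⟨A, hA⟩ := exists_minOp (op_mem hσ0).1 (op_mem hσ0).2
  set C := Subgroup.centralizer (rootGroup G : Set (LinearMap.GeneralLinearGroup k M)) with hC
  set H := Subgroup.closure (quadraticElements G ∩ (C : Set (LinearMap.GeneralLinearGroup k M))) with hH
  have hHC : H ≤ C := (Subgroup.closure_le _).2 fun _ h => h.2
  have hHG : H ≤ G := (Subgroup.closure_le _).2 fun _ h => h.1.1
  have hcov : ∀ σ ∈ quadraticElements G,
      (∃ E ∈ quadraticRootSubgroups G, σ ∈ compGroup G E) ∨ σ ∈ H := by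
    intro σ hσ
    rcases unip_dichotomy hG h2 h3 _ (op_mem hσ).1 with h | h <;> rw [unip_op (op_mem hσ).1.1] at h
    · exact Or.inl h
    · exact Or.inr (Subgroup.subset_closure ⟨hσ, h⟩)
  have hGle : G ≤ rootGroup G ⊔ H := by
    conv_lhs => rw [← hG.2]
    rw [Subgroup.closure_le]
    intro σ hσ
    rcases hcov σ hσ with ⟨E, hE, h⟩ | h
    · exact Subgroup.mem_sup_left ((iSup₂_le fun B hB => le_rootGroup hB.1 : compGroup G E ≤ rootGroup G) h)
    · exact Subgroup.mem_sup_right h
  -- an irreducible `H`-submodule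
  obtain ⟨V, ⟨hV0, hVinv⟩, hVmin⟩ := wellFounded_lt.has_min
    {V : Submodule k M | V ≠ ⊥ ∧ ∀ g ∈ H, ∀ w ∈ V, (g : Module.End k M) w ∈ V}
    ⟨⊤, (by obtain ⟨m0, hm0⟩ := hG.1.1; exact fun e => hm0 (by simpa [e] using Submodule.mem_top (R := k) (x := m0))),
      fun _ _ _ _ => Submodule.mem_top⟩
  have hfaith : ∀ T : Module.End k M, (∀ g ∈ rootGroup G, Commute T (g : Module.End k M)) →
      (∀ w ∈ V, T w = 0) → T = 0 := by
    intro T hT hTV
    let W : Submodule k M := ⨆ g : rootGroup G, V.map ((g : LinearMap.GeneralLinearGroup k M) : Module.End k M)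
    have hW : G ≤ keepSub W := by
      refine hGle.trans (sup_le (le_keepSub fun h hh => ?_) (le_keepSub fun h hh => ?_))
      · have : W.map (h : Module.End k M) ≤ W := by
          simp only [W, Submodule.map_iSup, ← Submodule.map_comp]
          exact iSup_le fun g => le_iSup_of_le (⟨h * g, mul_mem hh g.2⟩ : rootGroup G) le_rfl
        exact fun w hw => this ⟨w, hw, rfl⟩
      · have : W.map (h : Module.End k M) ≤ W := by
          simp only [W, Submodule.map_iSup]
          refine iSup_le fun g => le_iSup_of_le g ?_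
          rintro _ ⟨_, ⟨w, hw, rfl⟩, rfl⟩
          refine ⟨(h : Module.End k M) w, hVinv h hh w hw, ?_⟩
          have e : ((g : LinearMap.GeneralLinearGroup k M) : Module.End k M) * (h : Module.End k M) =
              (h : Module.End k M) * ((g : LinearMap.GeneralLinearGroup k M) : Module.End k M) := by
            rw [← Units.val_mul, ← Units.val_mul]
            exact congrArg Units.val (Subgroup.mem_centralizer_iff.1 (hHC hh) g g.2)
          rw [← Module.End.mul_apply, e, Module.End.mul_apply]
        exact fun w hw => this ⟨w, hw, rfl⟩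
    rcases hG.1.2 W (fun g hg => (hW hg).1) with h | h
    · refine absurd (le_bot_iff.1 ?_) hV0
      rw [← h]
      refine le_iSup_of_le (1 : rootGroup G) ?_
      intro w hw
      exact ⟨w, hw, by simp⟩
    · refine ker_eq_top.1 (top_le_iff.1 (h ▸ iSup_le fun g => ?_))
      rintro _ ⟨w, hw, rfl⟩
      rw [mem_ker, ← Module.End.mul_apply, (hT g g.2).eq, Module.End.mul_apply, hTV w hw, map_zero]
  have hlt : Module.finrank k V < Module.finrank k M := by
    refine Submodule.finrank_lt fun htop => ?_
    have hmem : unip A ∈ rootGroup G :=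
      le_rootGroup (opGroup_mem_root hA) (unip_mem_opGroup (self_mem_opSpace hA.1))
    have hk : ker A ≠ ⊥ := fun e => hA.2.1 (by
      have h := range_le_ker_iff.2 hA.1.1
      rw [e, le_bot_iff, range_eq_bot] at h
      exact h)
    refine hVmin (ker A) ⟨hk, fun g hg w hw => ?_⟩
      (htop ▸ lt_top_iff_ne_top.2 (fun e => hA.2.1 (ker_eq_top.1 e)))
    have hc : Commute A (g : Module.End k M) := commute_end_of_commute_units hA.1.1
      (Subgroup.mem_centralizer_iff.1 (hHC hg) _ hmem)
    rw [mem_ker, ← Module.End.mul_apply, hc.eq, Module.End.mul_apply, mem_ker.1 hw, map_zero]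
  -- restriction to `V`
  let r : H →* Module.End k V :=
    { toFun := fun h => ((h : LinearMap.GeneralLinearGroup k M) : Module.End k M).restrict (hVinv h h.2)
      map_one' := LinearMap.ext fun w => Subtype.ext rfl
      map_mul' := fun a b => LinearMap.ext fun w => Subtype.ext rfl }
  let ρ : H →* LinearMap.GeneralLinearGroup k V := MonoidHom.toHomUnits r
  have hρ : ∀ (h : H) (w : V), (((ρ h : LinearMap.GeneralLinearGroup k V) : Module.End k V) w : M) =
      ((h : LinearMap.GeneralLinearGroup k M) : Module.End k M) w := fun h w => rfl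
  have hcomm : ∀ h ∈ H, ∀ g ∈ rootGroup G, Commute ((h : Module.End k M) - 1) (g : Module.End k M) := by
    intro h hh g hg
    refine Commute.sub_left ?_ (Commute.one_left _)
    rw [commute_iff_eq, ← Units.val_mul, ← Units.val_mul]
    exact congrArg Units.val (Subgroup.mem_centralizer_iff.1 (hHC hh) g hg).symm
  have hρinj : Function.Injective ρ := by
    rw [injective_iff_map_eq_one]
    intro h hh
    refine Subtype.ext (Units.ext (sub_eq_zero.1 (hfaith _ (hcomm h h.2) fun w hw => ?_)))
    have := congrArg Subtype.val (LinearMap.congr_fun (congrArg Units.val hh) ⟨w, hw⟩)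
    rw [hρ] at this
    rw [LinearMap.sub_apply, this]
    simp
  have hfwd : ∀ σ (hσ : σ ∈ quadraticElements G ∩ (C : Set (LinearMap.GeneralLinearGroup k M))),
      ρ ⟨σ, Subgroup.subset_closure hσ⟩ ∈ quadraticElements ρ.range := by
    intro σ hσ
    obtain ⟨hX, hX0⟩ := op_mem hσ.1
    set X := (σ : Module.End k M) - 1 with hXdef
    have hXC : ∀ g ∈ rootGroup G, Commute X (g : Module.End k M) := hcomm σ (Subgroup.subset_closure hσ)
    have hH' : ∀ c : k, unip (c • X) ∈ H := fun c => by
      by_cases hc : c • X = 0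
      · rw [hc, unip_zero]; exact one_mem _
      refine Subgroup.subset_closure ⟨unip_mem_quadratic (smul_mem_opSet hX c) hc, ?_⟩
      rw [SetLike.mem_coe, Subgroup.mem_centralizer_iff]
      intro g hg
      refine Units.ext ?_
      rw [Units.val_mul, Units.val_mul, unip_val (smul_sq hX.1 c)]
      exact (((hXC g hg).smul_left c).add_left (Commute.one_left _) |> fun h => by rw [add_comm] at h; exact h.eq.symm)
    have e : ∀ w : V, (((ρ ⟨σ, Subgroup.subset_closure hσ⟩ : LinearMap.GeneralLinearGroup k V) : Module.End k V) - 1) w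
        = (⟨X w, by rw [hXdef, LinearMap.sub_apply]; exact sub_mem (hVinv σ (Subgroup.subset_closure hσ) w w.2) w.2⟩ : V) :=
      fun w => Subtype.ext rfl
    refine ⟨⟨_, rfl⟩, ⟨LinearMap.ext fun w => Subtype.ext ?_, fun h0 => hX0 (hfaith X hXC fun w hw => ?_)⟩, ?_⟩
    · rw [Module.End.mul_apply, e, e]
      simp only [← Module.End.mul_apply, hX.1]
      simp
    · have := congrArg Subtype.val (LinearMap.congr_fun h0 ⟨w, hw⟩)
      rw [e] at this
      exact this
    · rintro τ ⟨c, hc⟩
      refine ⟨⟨_, hH' c⟩, Units.ext (LinearMap.ext fun w => Subtype.ext ?_)⟩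
      rw [hρ, unip_val (smul_sq hX.1 c), hc, LinearMap.add_apply, LinearMap.add_apply, LinearMap.smul_apply,
        LinearMap.smul_apply, e]
      rfl
  have hbwd : ∀ h : H, ρ h ∈ quadraticElements ρ.range → (h : LinearMap.GeneralLinearGroup k M) ∈ quadraticElements G := by
    intro h hh
    set X := ((h : LinearMap.GeneralLinearGroup k M) : Module.End k M) - 1 with hXdef
    have hXC : ∀ g ∈ rootGroup G, Commute X (g : Module.End k M) := hcomm h h.2
    have e : ∀ w : V, ((((ρ h : LinearMap.GeneralLinearGroup k V) : Module.End k V) - 1) w : M) = X w := fun w => rfl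
    have hXX : X * X = 0 := by
      refine hfaith _ (fun g hg => (hXC g hg).mul_left (hXC g hg)) fun w hw => ?_
      have := congrArg Subtype.val (LinearMap.congr_fun hh.2.1.1 ⟨w, hw⟩)
      rw [Module.End.mul_apply, e, e] at this
      exact this
    refine ⟨hHG h.2, ⟨hXX, fun h0 => hh.2.1.2 (LinearMap.ext fun w => Subtype.ext ?_)⟩, ?_⟩
    · rw [e]
      exact LinearMap.congr_fun h0 (w : M)
    rw [scalarFamily_eq hXX]
    rintro _ ⟨c, rfl⟩
    have hsq : (c • (((ρ h : LinearMap.GeneralLinearGroup k V) : Module.End k V) - 1)) *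
        (c • (((ρ h : LinearMap.GeneralLinearGroup k V) : Module.End k V) - 1)) = 0 := smul_sq hh.2.1.1 c
    obtain ⟨h', hh'⟩ := hh.2.2 (show unip (c • (((ρ h : LinearMap.GeneralLinearGroup k V) : Module.End k V) - 1)) ∈
      scalarFamily (ρ h) from ⟨c, unip_val hsq⟩)
    have : unip (c • X) = (h' : LinearMap.GeneralLinearGroup k M) := by
      refine Units.ext ?_
      rw [unip_val (smul_sq hXX c)]
      refine (sub_eq_zero.1 (hfaith _ (fun g hg => ?_) fun w hw => ?_)).symm
      · have h1 := hcomm h' h'.2 g hg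
        rw [show ((h' : LinearMap.GeneralLinearGroup k M) : Module.End k M) - (1 + c • X) =
          (((h' : LinearMap.GeneralLinearGroup k M) : Module.End k M) - 1) - c • X by abel]
        exact h1.sub_left ((hXC g hg).smul_left c)
      · have := congrArg Subtype.val (LinearMap.congr_fun (congrArg Units.val hh') ⟨w, hw⟩)
        rw [hρ, unip_val hsq] at this
        rw [LinearMap.sub_apply, this]
        simp [hXdef, smul_sub, hρ]
    show unip (c • X) ∈ G
    rw [this]
    exact hHG h'.2
  have hpair : IsQuadraticPair ρ.range := by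
    refine ⟨⟨?_, fun W hW => ?_⟩, le_antisymm ((Subgroup.closure_le _).2 fun x hx => hx.1) ?_⟩
    · obtain ⟨w, hw, hw0⟩ := V.ne_bot_iff.1 hV0
      exact ⟨⟨w, hw⟩, fun e => hw0 (congrArg Subtype.val e)⟩
    · by_cases h0 : W = ⊥
      · exact Or.inl h0
      right
      have h1 : W.map V.subtype = V := by
        refine eq_of_le_of_not_lt (Submodule.map_subtype_le _ _) (hVmin _ ⟨?_, ?_⟩)
        · exact fun e => h0 (Submodule.map_injective_of_injective V.injective_subtype (e.trans (Submodule.map_bot _).symm))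
        · rintro g hg _ ⟨w, hw, rfl⟩
          exact ⟨_, hW _ ⟨⟨g, hg⟩, rfl⟩ w hw, rfl⟩
      apply Submodule.map_injective_of_injective V.injective_subtype
      rw [h1, Submodule.map_subtype_top]
    · rintro _ ⟨⟨h, hh⟩, rfl⟩
      induction hh using Subgroup.closure_induction with
      | mem x hx => exact Subgroup.subset_closure (hfwd x hx)
      | one => exact (map_one ρ).symm ▸ one_mem _
      | mul a b ha hb iha ihb => exact (map_mul ρ ⟨a, ha⟩ ⟨b, hb⟩).symm ▸ mul_mem iha ihb
      | inv a ha iha => exact (map_inv ρ ⟨a, ha⟩).symm ▸ inv_mem iha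
  obtain ⟨𝒮', hfin', hprop', hcomm', hcov'⟩ := ih ρ.range (by omega) hpair
  obtain ⟨r', rep, hrep, -, hcovR⟩ := exists_parts hG.1 h2 h3
  let back : Subgroup (LinearMap.GeneralLinearGroup k V) → Subgroup (LinearMap.GeneralLinearGroup k M) :=
    fun L => (L.comap ρ).map H.subtype
  have hback : ∀ L, back L ≤ H := fun L => Subgroup.map_subtype_le _
  have hKroot : ∀ i, compGroup G (rep i) ≤ rootGroup G := fun i => iSup₂_le fun B hB => le_rootGroup hB.1
  have hHK : ∀ i L, ⁅compGroup G (rep i), back L⁆ = ⊥ := fun i L =>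
    Subgroup.commutator_eq_bot_iff_le_centralizer.2 (Subgroup.le_centralizer_iff.1
      (((hback L).trans hHC).trans (Subgroup.centralizer_le (SetLike.coe_subset_coe.2 (hKroot i)))))
  refine ⟨Set.range (fun i => compGroup G (rep i)) ∪ back '' 𝒮', (Set.finite_range _).union (hfin'.image _), ?_, ?_, ?_⟩
  · rintro K (⟨i, rfl⟩ | ⟨L, hL, rfl⟩)
    · refine ⟨(hKroot i).trans rootGroup_le, fun g hg => compGroup_normal hG h2 h3 (hrep i) hg,
        (component_group hG.1 h2 h3 (hrep i)).1, le_antisymm ((Subgroup.closure_le _).2 fun x hx => hx.2) ?_⟩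
      refine iSup₂_le fun B hB => ?_
      obtain ⟨b, hb, rfl⟩ := exists_of_mem_root hB.1
      intro x hx
      obtain ⟨Y, hY, rfl⟩ := mem_opGroup.1 hx
      by_cases hY0 : Y = 0
      · rw [hY0, unip_zero]; exact one_mem _
      exact Subgroup.subset_closure ⟨unip_mem_quadratic hY.1 hY0, RootEmbed.le_iSup_mem (S := compSet G (rep i)) hB hx⟩
    · obtain ⟨hLle, hLn, hLq, hLgen⟩ := hprop' L hL
      have hLmap : (L.comap ρ).map ρ = L := Subgroup.map_comap_eq_self hLle
      refine ⟨(hback L).trans hHG, ?_, ?_, le_antisymm ((Subgroup.closure_le _).2 fun x hx => hx.2) ?_⟩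
      · have hn : G ≤ Subgroup.normalizer (back L : Set (LinearMap.GeneralLinearGroup k M)) := by
          refine hGle.trans (sup_le ?_ ?_)
          · refine le_trans ?_ (Subgroup.centralizer_le_normalizer _)
            exact Subgroup.le_centralizer_iff.1 ((hback L).trans hHC)
          · intro g hg
            refine RankOne.conjBy_eq_self_iff.1 ?_
            have h1 := hLn (ρ ⟨g, hg⟩) ⟨_, rfl⟩
            have h2' : conjBy (L.comap ρ) ⟨g, hg⟩ = L.comap ρ := by
              apply Subgroup.map_injective hρinj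
              rw [show (conjBy (L.comap ρ) ⟨g, hg⟩).map ρ = conjBy ((L.comap ρ).map ρ) (ρ ⟨g, hg⟩) by
                simp only [conjBy, Subgroup.map_map]; congr 1, hLmap, h1]
            have h3' := congrArg (Subgroup.map H.subtype) h2'
            rwa [RankOneRestrict.map_conjBy_subtype] at h3'
        exact fun g hg => RankOne.conjBy_eq_self_iff.2 (hn hg)
      · refine Cores.isQuasisimple_map_equiv (?_ : IsQuasisimple (L.comap ρ)) _ H.subtype_injective
        exact Cores.isQuasisimple_of_equiv
          ((MulEquiv.subgroupCongr hLmap.symm).trans (Subgroup.equivMapOfInjective _ ρ hρinj).symm) hLq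
      · rintro _ ⟨x, hx, rfl⟩
        have hx' : ρ x ∈ L := hx
        rw [← hLgen] at hx'
        have hle : Subgroup.closure (quadraticElements ρ.range ∩ (L : Set (LinearMap.GeneralLinearGroup k V))) ≤
            ((Subgroup.closure (quadraticElements G ∩ (back L : Set (LinearMap.GeneralLinearGroup k M)))).comap
              H.subtype).map ρ := by
          rw [Subgroup.closure_le]
          rintro y ⟨hy, hyL⟩
          obtain ⟨z, rfl⟩ := hy.1
          exact ⟨z, Subgroup.subset_closure ⟨hbwd z hy, z, hyL, rfl⟩, rfl⟩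
        obtain ⟨z, hz, hze⟩ := hle hx'
        rw [hρinj hze] at hz
        exact hz
  · rintro K (⟨i, rfl⟩ | ⟨L, hL, rfl⟩) K' (⟨j, rfl⟩ | ⟨L', hL', rfl⟩) hne
    · rw [Subgroup.commutator_eq_bot_iff_le_centralizer]
      refine iSup₂_le fun B hB => commute_of_outside hG.1 h2 h3 hB.1 (hrep j) fun h => hne ?_
      show compGroup G (rep i) = compGroup G (rep j)
      have e1 := compSet_eq_of_mem hB
      have e2 := compSet_eq_of_mem h
      rw [compGroup, compGroup, ← e1, e2]
    · exact hHK i L'
    · rw [Subgroup.commutator_comm]; exact hHK j L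
    · have hLL : L ≠ L' := fun e => hne (congrArg back e)
      have hb : ⁅L.comap ρ, L'.comap ρ⁆ = ⊥ := by
        apply Subgroup.map_injective hρinj
        rw [Subgroup.map_commutator, Subgroup.map_comap_eq_self (hprop' L hL).1,
          Subgroup.map_comap_eq_self (hprop' L' hL').1, Subgroup.map_bot]
        exact hcomm' L hL L' hL' hLL
      rw [← Subgroup.map_commutator, hb, Subgroup.map_bot]
  · intro σ hσ
    rcases unip_dichotomy hG h2 h3 _ (op_mem hσ).1 with ⟨E, hE, h⟩ | h <;> rw [unip_op (op_mem hσ).1.1] at h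
    · obtain ⟨i, hi⟩ := hcovR E hE
      refine ⟨compGroup G (rep i), Or.inl ⟨i, rfl⟩, ?_⟩
      rwa [compGroup, ← compSet_eq_of_mem (⟨hE, hi⟩ : E ∈ compSet G (rep i))]
    · obtain ⟨L, hL, hm⟩ := hcov' _ (hfwd σ ⟨hσ, h⟩)
      exact ⟨back L, Or.inr ⟨L, hL, rfl⟩, ⟨σ, Subgroup.subset_closure ⟨hσ, h⟩⟩, hm, rfl⟩

end CfsgLib.QuadPair
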