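import Cfsg.Agent.Lib.QuadPair.Ops

/-!
The filtration by products of operators from a subspace `L`, and the unipotent groups it controls.
-/

set_option autoImplicit false

namespace CfsgLib.QuadPair

open Cfsg

variable {k : Type*} [Field k] {M : Type*} [AddCommGroup M] [Module k M]

local notation "GLM" => LinearMap.GeneralLinearGroup k M

/-- Sums of products of at least `n` members of `L`. -/
def degGE (L : Submodule k (Module.End k M)) (n : ℕ) : Submodule k (Module.End k M) :=
  ⨆ m, L ^ (n + m)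

variable {L : Submodule k (Module.End k M)}

theorem degGE_le_iff {n : ℕ} {T : Submodule k (Module.End k M)} : degGE L n ≤ T ↔ ∀ m, L ^ (n + m) ≤ T := iSup_le_iff

theorem pow_le_degGE {n m : ℕ} (h : n ≤ m) : L ^ m ≤ degGE L n := by
  obtain ⟨i, rfl⟩ := Nat.exists_eq_add_of_le h
  exact le_iSup (fun i => L ^ (n + i)) i

theorem degGE_anti {n m : ℕ} (h : n ≤ m) : degGE L m ≤ degGE L n :=
  degGE_le_iff.2 fun i => pow_le_degGE (by omega)

theorem le_degGE_one : L ≤ degGE L 1 := by simpa using pow_le_degGE (L := L) (le_refl 1)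

theorem degGE_mul_le (i j : ℕ) : degGE L i * degGE L j ≤ degGE L (i + j) := by
  simp only [degGE, Submodule.iSup_mul, Submodule.mul_iSup]
  refine iSup_le fun a => iSup_le fun b => ?_
  rw [← pow_add]
  exact pow_le_degGE (by omega)

theorem mul_mem_degGE {i j n : ℕ} (h : n ≤ i + j) {a b : Module.End k M} (ha : a ∈ degGE L i) (hb : b ∈ degGE L j) :
    a * b ∈ degGE L n := degGE_anti h (degGE_mul_le i j (Submodule.mul_mem_mul ha hb))

theorem degGE_eq_pow_sup (n : ℕ) : degGE L n = L ^ n ⊔ degGE L (n + 1) := by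
  refine le_antisymm (degGE_le_iff.2 fun m => ?_) (sup_le (pow_le_degGE le_rfl) (degGE_anti n.le_succ))
  rcases m with _ | m
  · simp
  · exact le_sup_of_le_right (pow_le_degGE (by omega))

theorem degGE_eq_bot {N : ℕ} (h : L ^ N = ⊥) {n : ℕ} (hn : N ≤ n) : degGE L n = ⊥ := by
  rw [eq_bot_iff, degGE_le_iff]
  intro m
  obtain ⟨i, hi⟩ := Nat.exists_eq_add_of_le (show N ≤ n + m by omega)
  rw [hi, pow_add, h, Submodule.bot_mul]

/-- The units congruent to `1` modulo `degGE L n`, with their inverses. -/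
def congrSub (L : Submodule k (Module.End k M)) (n : ℕ) : Subgroup GLM where
  carrier := {g | (g : Module.End k M) - 1 ∈ degGE L n ∧ ((g⁻¹ : GLM) : Module.End k M) - 1 ∈ degGE L n}
  one_mem' := by constructor <;> simp
  inv_mem' := by rintro g ⟨h1, h2⟩; exact ⟨h2, by rwa [inv_inv]⟩
  mul_mem' := by
    rintro g h ⟨g1, g2⟩ ⟨h1, h2⟩
    have key : ∀ a b : Module.End k M, a - 1 ∈ degGE L n → b - 1 ∈ degGE L n → a * b - 1 ∈ degGE L n := by
      intro a b ha hb
      rw [show a * b - 1 = (a - 1) * (b - 1) + (a - 1) + (b - 1) by noncomm_ring]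
      exact add_mem (add_mem (mul_mem_degGE (by omega) ha hb) ha) hb
    refine ⟨key _ _ g1 h1, ?_⟩
    rw [mul_inv_rev, Units.val_mul]
    exact key _ _ h2 g2

theorem mem_congrSub {n : ℕ} {g : GLM} :
    g ∈ congrSub L n ↔ (g : Module.End k M) - 1 ∈ degGE L n ∧ ((g⁻¹ : GLM) : Module.End k M) - 1 ∈ degGE L n := Iff.rfl

theorem unip_mem_congrSub {X : Module.End k M} (hX : X ∈ L) (h : X * X = 0) : unip X ∈ congrSub L 1 := by
  rw [mem_congrSub, unip_val h, unip_inv_val h]
  exact ⟨by simpa using le_degGE_one hX, by simpa using le_degGE_one (L.neg_mem hX)⟩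

theorem commutator_mem_congrSub {i j : ℕ} {g h : GLM} (hg : g ∈ congrSub L i) (hh : h ∈ congrSub L j) :
    g * h * g⁻¹ * h⁻¹ ∈ congrSub L (i + j) := by
  have key : ∀ {i j : ℕ} {g h : GLM}, g ∈ congrSub L i → h ∈ congrSub L j →
      ((g * h * g⁻¹ * h⁻¹ : GLM) : Module.End k M) - 1 ∈ degGE L (i + j) := by
    intro i j g h hg hh
    have e : ((g * h * g⁻¹ * h⁻¹ : GLM) : Module.End k M) - 1 =
        (((g : Module.End k M) - 1) * ((h : Module.End k M) - 1) - ((h : Module.End k M) - 1) * ((g : Module.End k M) - 1)) *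
          (((g⁻¹ : GLM) : Module.End k M) - 1 + 1) * (((h⁻¹ : GLM) : Module.End k M) - 1 + 1) := by
      rw [show ((g : Module.End k M) - 1) * ((h : Module.End k M) - 1) - ((h : Module.End k M) - 1) * ((g : Module.End k M) - 1) =
        (g : Module.End k M) * h - (h : Module.End k M) * g by noncomm_ring, sub_add_cancel, sub_add_cancel]
      simp only [Units.val_mul, sub_mul]
      congr 1
      rw [mul_assoc (h : Module.End k M), Units.mul_inv, mul_one, Units.mul_inv]
    rw [e]
    have hd : ((g : Module.End k M) - 1) * ((h : Module.End k M) - 1) - ((h : Module.End k M) - 1) * ((g : Module.End k M) - 1)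
        ∈ degGE L (i + j) := sub_mem (mul_mem_degGE le_rfl hg.1 hh.1) (mul_mem_degGE (by omega) hh.1 hg.1)
    have h1 : ∀ {x y : Module.End k M} {m : ℕ}, x ∈ degGE L (i + j) → y ∈ degGE L m → x * (y + 1) ∈ degGE L (i + j) := by
      intro x y m hx hy
      rw [mul_add, mul_one]
      exact add_mem (mul_mem_degGE (by omega) hx hy) hx
    exact h1 (h1 hd hg.2) hh.2
  refine ⟨key hg hh, ?_⟩
  rw [show (g * h * g⁻¹ * h⁻¹)⁻¹ = h * g * h⁻¹ * g⁻¹ by group, add_comm]
  exact key hh hg

theorem isUnipotentOn_of_le {N : ℕ} (h : L ^ N = ⊥) {H : Subgroup GLM} (hH : H ≤ congrSub L 1) : IsUnipotentOn H := by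
  refine ⟨N, fun l hl hlen => ?_⟩
  have : ∀ l : List GLM, (∀ g ∈ l, g ∈ H) →
      (l.map fun g : GLM => (g : Module.End k M) - 1).prod ∈ degGE L l.length := by
    intro l
    induction l with
    | nil => intro _; exact pow_le_degGE le_rfl (by rw [List.map_nil, List.prod_nil, List.length_nil, pow_zero]; exact Submodule.one_le.1 le_rfl)
    | cons a l ih =>
      intro hl
      rw [List.map_cons, List.prod_cons]
      exact mul_mem_degGE (by simp only [List.length_cons]; omega) (hH (hl a (by simp))).1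
        (ih fun g hg => hl g (by simp [hg]))
  have h2 := this l hl
  rw [hlen, degGE_eq_bot h le_rfl, Submodule.mem_bot] at h2
  simpa [List.map_map, Function.comp_def, List.flatMap_singleton', ← List.map_eq_flatMap] using h2

end CfsgLib.QuadPair
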