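import Cfsg.Agent.Lib.QuadPair.Split
import Cfsg.Agent.Lib.RootSubgroups.Restrict

/-!
Pairs of minimal operators `A`, `C` with `ACA = A`, `CAC = C`: the subgroups `1 + opSpace` form a special rank one
pair, the operator `1 - 2(AC + CA)` is its central involution and `w = (1+A)(1-C)(1+A)` interchanges the two.
-/

set_option autoImplicit false

namespace CfsgLib.QuadPair

open Cfsg LinearMap

universe u v

variable {k : Type u} [Field k] {M : Type v} [AddCommGroup M] [Module k M]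
variable {G : Subgroup (LinearMap.GeneralLinearGroup k M)} {A B C X Y : Module.End k M}

/-- `ACA = A` and `CAC = C`. -/
def IsInvPair (A C : Module.End k M) : Prop := A * C * A = A ∧ C * A * C = C

theorem IsInvPair.symm (h : IsInvPair A C) : IsInvPair C A := ⟨h.2, h.1⟩

theorem IsInvPair.idem (h : IsInvPair A C) (hA : A * A = 0) (hC : C * C = 0) :
    (A * C + C * A) * (A * C + C * A) = A * C + C * A := by
  rw [add_mul, mul_add, mul_add, ← mul_assoc, h.1, ← mul_assoc (A * C), mul_assoc A C C, hC, mul_zero, zero_mul,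
    add_zero, ← mul_assoc (C * A), mul_assoc C A A, hA, mul_zero, zero_mul, zero_add, ← mul_assoc, h.2]

theorem IsInvPair.left_fix (h : IsInvPair A C) (hA : A * A = 0) :
    (A * C + C * A) * A = A ∧ A * (A * C + C * A) = A := by
  constructor
  · rw [add_mul, h.1, mul_assoc, hA, mul_zero, add_zero]
  · rw [mul_add, ← mul_assoc, hA, zero_mul, zero_add, ← mul_assoc, h.1]

theorem fix_of_geometry {e : Module.End k M} (h1 : e * A = A) (h2 : A * e = A) (hr : range X ≤ range A)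
    (hk : ker A ≤ ker X) : e * X = X ∧ X * e = X := by
  constructor
  · refine LinearMap.ext fun v => ?_
    obtain ⟨w, hw⟩ := hr ⟨v, rfl⟩
    rw [Module.End.mul_apply, ← hw, ← Module.End.mul_apply, h1]
  · refine LinearMap.ext fun v => ?_
    rw [Module.End.mul_apply, ← sub_eq_zero, ← map_sub]
    exact hk (by rw [mem_ker, map_sub, ← Module.End.mul_apply, h2, sub_self])

theorem IsInvPair.inf_ker (h : IsInvPair A C) : range A ⊓ ker C = ⊥ := by
  rw [eq_bot_iff]
  rintro _ ⟨⟨w, rfl⟩, hv⟩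
  rw [SetLike.mem_coe, mem_ker] at hv
  rw [Submodule.mem_bot, ← h.1, Module.End.mul_apply, Module.End.mul_apply, hv, map_zero]

theorem not_isNilpotent_of_inf_ker (h1 : range X ⊓ ker Y = ⊥) (h2 : range Y ⊓ ker X = ⊥) (hX : X ≠ 0) :
    ¬ IsNilpotent (X * Y) := by
  rintro ⟨n, hn⟩
  obtain ⟨v, hv⟩ : ∃ v, X v ≠ 0 := by
    by_contra hc
    push Not at hc
    exact hX (LinearMap.ext hc)
  have key : ∀ m : ℕ, ((X * Y) ^ m) (X v) ∈ range X ∧ ((X * Y) ^ m) (X v) ≠ 0 := by
    intro m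
    induction m with
    | zero => exact ⟨⟨v, rfl⟩, hv⟩
    | succ m ih =>
      rw [pow_succ', Module.End.mul_apply, Module.End.mul_apply]
      refine ⟨⟨_, rfl⟩, fun hc => ih.2 ?_⟩
      have hY : Y (((X * Y) ^ m) (X v)) = 0 :=
        (Submodule.mem_bot k).1 (h2 ▸ ⟨⟨_, rfl⟩, mem_ker.2 hc⟩)
      exact (Submodule.mem_bot k).1 (h1 ▸ ⟨ih.1, mem_ker.2 hY⟩)
  exact (key n).2 (by rw [hn, LinearMap.zero_apply])

/-- The unit `(1+A)(1-C)(1+A)`. -/
noncomputable def weyl (A C : Module.End k M) : LinearMap.GeneralLinearGroup k M :=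
  unip A * (unip C)⁻¹ * unip A

theorem weyl_val (h : IsInvPair A C) (hA : A * A = 0) (hC : C * C = 0) :
    (weyl A C : Module.End k M) = 1 - (A * C + C * A) + A - C := by
  rw [weyl, Units.val_mul, Units.val_mul, unip_val hA, unip_inv_val hC]
  simp only [add_mul, mul_add, sub_mul, mul_sub, one_mul, mul_one, hA, h.1]
  abel

theorem weyl_mem (hA : A ∈ opSet G) (hC : C ∈ opSet G) : weyl A C ∈ G :=
  mul_mem (mul_mem (unip_mem hA) (inv_mem (unip_mem hC))) (unip_mem hA)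

theorem conjOp_weyl (h : IsInvPair A C) (hA : A * A = 0) (hC : C * C = 0) : conjOp (weyl A C) A = -C := by
  have e := h.left_fix hA
  have e' : C * (A * C + C * A) = C := by rw [add_comm]; exact (h.symm.left_fix hC).2
  have hw : (weyl A C : Module.End k M) * A = -C * (weyl A C : Module.End k M) := by
    rw [weyl_val h hA hC]
    simp only [add_mul, sub_mul, mul_add, mul_sub, one_mul, mul_one, neg_mul, ← mul_assoc, hA, hC, h.2, h.1, zero_mul]
    rw [mul_assoc C A A, hA, mul_zero]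
    abel
  rw [conjOp_apply, hw, mul_assoc, Units.mul_inv, mul_one]

theorem weyl_sq (h : IsInvPair A C) (hA : A * A = 0) (hC : C * C = 0) :
    ((weyl A C * weyl A C : LinearMap.GeneralLinearGroup k M) : Module.End k M) =
      1 - (A * C + C * A) - (A * C + C * A) := by
  have e1 := h.left_fix hA
  have e2 : (A * C + C * A) * C = C ∧ C * (A * C + C * A) = C := by
    rw [add_comm]; exact h.symm.left_fix hC
  have e3 := h.idem hA hC
  rw [Units.val_mul, weyl_val h hA hC]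
  generalize hg : A * C + C * A = e at e1 e2 e3
  have hsum : C * A = e - A * C := by rw [← hg]; abel
  simp only [add_mul, sub_mul, mul_add, mul_sub, one_mul, mul_one, hA, hC, e1.1, e1.2, e2.1, e2.2, e3]
  rw [hsum]
  abel

variable [FiniteDimensional k M]

theorem isMulCommutative_opGroup (hA : A ∈ opSet G) : IsMulCommutative (opGroup hA) := by
  refine ⟨⟨fun x y => Subtype.ext ?_⟩⟩
  obtain ⟨X, hX, hx⟩ := x.2
  obtain ⟨Y, hY, hy⟩ := y.2
  refine Units.ext ?_
  show (x.1 : Module.End k M) * (y.1 : Module.End k M) = (y.1 : Module.End k M) * (x.1 : Module.End k M)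
  simp only [hx, hy, add_mul, mul_add, one_mul, mul_one, mul_eq_zero_of_mem hA hX hY, mul_eq_zero_of_mem hA hY hX]
  abel

theorem opGroup_le (hA : A ∈ opSet G) : opGroup hA ≤ G := by
  intro g hg
  obtain ⟨X, hX, rfl⟩ := mem_opGroup.1 hg
  exact unip_mem hX.1

theorem isNilpotent_opGroup (hA : A ∈ opSet G) : Group.IsNilpotent (opGroup hA) := by
  haveI := isMulCommutative_opGroup hA
  let i : CommGroup (opGroup hA) := { mul_comm := mul_comm' }
  exact CommGroup.isNilpotent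

theorem unip_eq_one_iff (hX : X * X = 0) : unip X = 1 ↔ X = 0 := by
  rw [Units.ext_iff, unip_val hX, Units.val_one]
  exact add_eq_left

theorem opSpace_neg (hC : IsMinOp G C) (hn : -C ∈ opSet G) : opSpace hn = opSpace hC.1 :=
  opSpace_eq hC (neg_mem (self_mem_opSpace hC.1)) (neg_ne_zero.2 hC.2.1)

theorem finrank_opSpace_eq_of_inv (hA : IsMinOp G A) (hC : IsMinOp G C) (h : IsInvPair A C) :
    Module.finrank k (opSpace hA.1) = Module.finrank k (opSpace hC.1) := by
  have h1 := finrank_opSpace_conj hA.1 (weyl_mem hA.1 hC.1)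
  have e := conjOp_weyl h hA.1.1 hC.1.1
  have key : ∀ (T : Module.End k M) (hT : T ∈ opSet G), T = -C → opSpace hT = opSpace hC.1 := by
    rintro T hT rfl
    exact opSpace_neg hC hT
  rw [← h1, key _ _ e]

/-- A non-nilpotent pair contains an inverse pair. -/
theorem exists_inverse (h2 : (2 : k) ≠ 0) (h3 : Nat.card k ≠ 3) (hA : IsMinOp G A) (hB : IsMinOp G B)
    (hn : ¬ IsNilpotent (pairSum A B)) :
    ∃ C ∈ opSpace hB.1, C ≠ 0 ∧ IsMinOp G C ∧ IsInvPair A C := by
  obtain ⟨K, _, _, _, lam, -, -, Φ, -, -, -, -, -, C, hC, e1, e2⟩ := exists_model hA hB h2 h3 hn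
  have hC0 : C ≠ 0 := fun e => hA.2.1 (by rw [← e1, e, mul_zero, zero_mul])
  exact ⟨C, hC, hC0, (geometry_of_mem hB hC hC0).2.2, e1, e2⟩

theorem not_nilpotent_of_inv (hA : IsMinOp G A) (hC : IsMinOp G C) (h : IsInvPair A C)
    (hX : X ∈ opSpace hA.1) (hX0 : X ≠ 0) (hY : Y ∈ opSpace hC.1) (hY0 : Y ≠ 0) :
    ¬ IsNilpotent (pairSum X Y) := by
  obtain ⟨r1, k1, -⟩ := geometry_of_mem hA hX hX0
  obtain ⟨r2, k2, -⟩ := geometry_of_mem hC hY hY0
  rw [isNilpotent_pairSum_iff hX.1.1 hY.1.1]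
  refine not_isNilpotent_of_inf_ker ?_ ?_ hX0
  · rw [r1, k2]; exact h.inf_ker
  · rw [r2, k1]; exact h.symm.inf_ker

/-- Nilpotency of a pair only depends on the two spaces. -/
theorem nilpotent_of_mem (h2 : (2 : k) ≠ 0) (h3 : Nat.card k ≠ 3) (hA : IsMinOp G A) (hB : IsMinOp G B)
    (hn : IsNilpotent (pairSum A B)) (hX : X ∈ opSpace hA.1) (hY : Y ∈ opSpace hB.1) :
    IsNilpotent (pairSum X Y) := by
  by_cases hX0 : X = 0
  · simp [hX0, pairSum]
  by_cases hY0 : Y = 0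
  · simp [hY0, pairSum]
  by_contra hc
  have hXm := (geometry_of_mem hA hX hX0).2.2
  have hYm := (geometry_of_mem hB hY hY0).2.2
  obtain ⟨C, hC, hC0, hCm, hinv⟩ := exists_inverse h2 h3 hXm hYm hc
  refine not_nilpotent_of_inv hXm hCm hinv ?_ hA.2.1 ?_ hB.2.1 hn
  · rw [opSpace_eq hA hX hX0]; exact self_mem_opSpace hA.1
  · rw [opSpace_eq hYm hC hC0, opSpace_eq hB hY hY0]; exact self_mem_opSpace hB.1

theorem exists_partner (h2 : (2 : k) ≠ 0) (h3 : Nat.card k ≠ 3) (hA : IsMinOp G A) (hC : IsMinOp G C)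
    (h : IsInvPair A C) {a : LinearMap.GeneralLinearGroup k M} (ha : a ∈ opGroup hA.1) (ha1 : a ≠ 1) :
    ∃ b ∈ opGroup hC.1, b ≠ 1 ∧ conjBy (opGroup hA.1) b⁻¹ = conjBy (opGroup hC.1) a⁻¹ ∧
      b⁻¹ * a * b = a⁻¹ * b⁻¹ * a := by
  obtain ⟨X, hX, rfl⟩ := mem_opGroup.1 ha
  have hX0 : X ≠ 0 := fun e => ha1 (by rw [e, unip_zero])
  have hXm := (geometry_of_mem hA hX hX0).2.2
  obtain ⟨D, hD, hD0, hDm, e1, e2⟩ :=
    exists_inverse h2 h3 hXm hC (not_nilpotent_of_inv hA hC h hX hX0 (self_mem_opSpace hC.1) hC.2.1)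
  have key : conjOp (unip D)⁻¹ X = conjOp (unip X)⁻¹ (-D) := by
    simp only [conjOp_apply, inv_inv, unip_val hX.1.1, unip_val hD.1.1, unip_inv_val hX.1.1, unip_inv_val hD.1.1]
    simp only [sub_mul, mul_add, one_mul, mul_one, mul_neg, neg_mul, e1, e2]
    abel
  have hb1 : unip D ≠ 1 := fun e => hD0 ((unip_eq_one_iff hD.1.1).1 e)
  refine ⟨unip D, unip_mem_opGroup hD, hb1, ?_, ?_⟩
  · have hg1 : (unip D)⁻¹ ∈ G := inv_mem (unip_mem hD.1)
    have hg2 : (unip X)⁻¹ ∈ G := inv_mem (unip_mem hX.1)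
    rw [conjBy_opGroup hA.1 hg1, conjBy_opGroup hC.1 hg2]
    have m1 := conjOp_mem_opSpace hA.1 hg1 hX
    have m2 := conjOp_mem_opSpace hC.1 hg2 (neg_mem hD)
    have n1 : conjOp (unip D)⁻¹ X ≠ 0 := fun e => hX0 ((conjOp _).injective (e.trans (map_zero _).symm))
    rw [← opGroup_eq (hA.conj hg1) m1 n1, ← opGroup_eq (hC.conj hg2) m2 (key ▸ n1)]
    congr 1
  · have hneg : -D * -D = 0 := by rw [neg_mul_neg]; exact hD.1.1
    have hinv : (unip D)⁻¹ = unip (-D) :=
      Units.ext (by rw [unip_inv_val hD.1.1, unip_val hneg, sub_eq_add_neg])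
    have h1 := conjOp_unip (unip D)⁻¹ hX.1.1
    have h2' := conjOp_unip (unip X)⁻¹ hneg
    rw [inv_inv] at h1 h2'
    rw [h1, key, hinv, h2']

/-- An inverse pair gives a special rank one pair. -/
theorem isSpecial_of_inv (h2 : (2 : k) ≠ 0) (h3 : Nat.card k ≠ 3) (hA : IsMinOp G A) (hC : IsMinOp G C)
    (h : IsInvPair A C) : IsSpecialRankOnePair (opGroup hA.1) (opGroup hC.1) := by
  have hne : opGroup hA.1 ≠ opGroup hC.1 := by
    intro e
    obtain ⟨X, hX, he⟩ := mem_opGroup.1 (e ▸ unip_mem_opGroup (self_mem_opSpace hA.1) : unip A ∈ opGroup hC.1)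
    have hAC : A * C = 0 := by
      rw [unip_injective hA.1.1 hX.1.1 he]
      exact mul_eq_zero_of_mem hC.1 hX (self_mem_opSpace hC.1)
    exact hA.2.1 (by rw [← h.1, hAC, zero_mul])
  have hpair : IsRankOnePair (opGroup hA.1) (opGroup hC.1) := by
    refine ⟨hne, isNilpotent_opGroup hA.1, isNilpotent_opGroup hC.1, fun a ha ha1 => ?_, fun a ha ha1 => ?_⟩
    · obtain ⟨b, hb, hb1, e, -⟩ := exists_partner h2 h3 hA hC h ha ha1
      exact ⟨b, hb, hb1, e⟩
    · obtain ⟨b, hb, hb1, e, -⟩ := exists_partner h2 h3 hC hA h.symm ha ha1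
      exact ⟨b, hb, hb1, e⟩
  refine ⟨hpair, fun a ha ha1 b hb hb1 e => ?_⟩
  obtain ⟨b', hb', hb1', e', hs⟩ := exists_partner h2 h3 hA hC h ha ha1
  rwa [(RankOne.existsUnique_partner hpair ha ha1).unique ⟨hb, hb1, e⟩ ⟨hb', hb1', e'⟩]

theorem exists_special (h2 : (2 : k) ≠ 0) (h3 : Nat.card k ≠ 3) (hA : IsMinOp G A) (hB : IsMinOp G B)
    (hn : ¬ IsNilpotent (pairSum A B)) : IsSpecialRankOnePair (opGroup hA.1) (opGroup hB.1) := by
  obtain ⟨C, hC, hC0, hCm, hinv⟩ := exists_inverse h2 h3 hA hB hn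
  rw [← opGroup_eq hB hC hC0]
  exact isSpecial_of_inv h2 h3 hA hCm hinv

theorem rankOne_not_nilpotent_sup {P Q : Subgroup (LinearMap.GeneralLinearGroup k M)} (h : IsRankOnePair P Q) :
    ¬ Group.IsNilpotent (P ⊔ Q : Subgroup _) :=
  RankOne.not_isNilpotent (RankOneRestrict.isRankOneGroup_sup h)

end CfsgLib.QuadPair
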