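import Cfsg.Agent.Lib.QuadPair.Components

/-!
Every quadratic element is a product of minimal ones and of one centralising the group they generate.
-/

set_option autoImplicit false

namespace CfsgLib.QuadPair

open Cfsg LinearMap
open scoped commutatorElement

universe u v

variable {k : Type u} [Field k] {M : Type v} [AddCommGroup M] [Module k M]

local notation "GLM" => LinearMap.GeneralLinearGroup k M

variable {G : Subgroup (LinearMap.GeneralLinearGroup k M)} {R X : Module.End k M}

theorem conjOp_unip_apply (hX : X * X = 0) (Y : Module.End k M) :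
    conjOp (unip X) Y = Y + (X * Y - Y * X) - X * Y * X := by
  rw [conjOp_apply, unip_val hX, unip_inv_val hX]
  simp only [add_mul, mul_sub, one_mul, mul_one]
  abel

/-- A nilpotent `RX` with `R` minimal gives `RXR = 0`, whatever the rank of `X`. -/
theorem sandwich_eq_zero [FiniteDimensional k M] (h2 : (2 : k) ≠ 0) (h3 : Nat.card k ≠ 3) (hR : IsMinOp G R)
    (hX : X ∈ opSet G) (hn : IsNilpotent (R * X)) : R * X * R = 0 := by
  have hRR := hR.1.1
  have hXX := hX.1
  have r0 : ∀ w : Module.End k M, R * (R * w) = 0 := fun w => by rw [← mul_assoc, hRR, zero_mul]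
  have x0 : ∀ w : Module.End k M, X * (X * w) = 0 := fun w => by rw [← mul_assoc, hXX, zero_mul]
  obtain ⟨N, hN⟩ := hn
  have hS : ∀ c : k, IsMinOp G (conjOp (unip (c • X)) R) := fun c => hR.conj (hX.2 c)
  have hSv : ∀ c : k, conjOp (unip (c • X)) R = R + c • (X * R - R * X) - (c * c) • (X * R * X) := fun c => by
    rw [conjOp_unip_apply (smul_sq hXX c)]
    simp only [smul_mul_assoc, mul_smul_comm, smul_sub, smul_smul]
  have hRSR : ∀ c : k, R * conjOp (unip (c • X)) R * R = -((c * c) • (R * X * (R * X) * R)) := fun c => by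
    rw [hSv]
    simp only [mul_add, mul_sub, add_mul, sub_mul, mul_smul_comm, smul_mul_assoc, mul_assoc, hRR, r0, mul_zero,
      smul_zero, sub_zero, zero_add, zero_sub]
  have hnil : ∀ c : k, IsNilpotent (pairSum R (conjOp (unip (c • X)) R)) := fun c => by
    rw [isNilpotent_pairSum_iff hRR (hS c).1.1]
    set S := conjOp (unip (c • X)) R with hSdef
    have key : ∀ n : ℕ, (R * S) ^ n * R = (-(c * c)) ^ n • ((R * X) ^ (2 * n) * R) := by
      intro n
      induction n with
      | zero => simp
      | succ n ih =>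
        have e : R * X * (R * X) * R = R * (X * R * X * R) := by simp only [mul_assoc]
        rw [pow_succ, mul_assoc, hRSR, mul_neg, mul_smul_comm, e, ← mul_assoc ((R * S) ^ n), ih, smul_mul_assoc,
          smul_smul, ← neg_smul, show 2 * (n + 1) = 2 * n + 2 by ring, pow_add (R * X), pow_two (R * X),
          pow_succ (-(c * c)) n]
        congr 1
        ring
    exact ⟨N + 1, by
      rw [pow_succ, ← mul_assoc, key N, show 2 * N = N + N by ring, pow_add, hN, zero_mul, zero_mul, smul_zero,
        zero_mul]⟩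
  have hR4 : R * X * (R * X) * R = 0 := by
    have h := (triple_zero hR (hS 1) h2 (hnil 1)).1
    rw [hRSR, one_mul, one_smul, neg_eq_zero] at h
    exact h
  set P := R * X * R with hP
  have hPP : P * P = 0 := by simp only [hP, mul_assoc, r0, mul_zero]
  have q1 : R * (X * (R * (X * R))) = 0 := by rw [← hR4]; simp only [mul_assoc]
  have q2 : ∀ w : Module.End k M, R * (X * (R * (X * (R * w)))) = 0 := fun w => by
    rw [show R * (X * (R * (X * (R * w)))) = R * (X * (R * (X * R))) * w by simp only [mul_assoc], q1, zero_mul]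
  have hF : ∀ c : k, c ≠ 0 → (2 : k) • P + (c * c / 2) • (X * P * X) ∈ opSet G := by
    intro c hc
    obtain ⟨t1, t2⟩ := triple_zero hR (hS c) h2 (hnil c)
    have hm : R * conjOp (unip (c • X)) R - conjOp (unip (c • X)) R * R ∈ opSet G :=
      bracket_mem_opSet hR.1 (hS c).1 t1 t2
    have hm' := smul_mem_opSet (conjOp_mem_opSet (hX.2 (-(c / 2))) hm) c⁻¹
    convert hm' using 1
    rw [conjOp_unip_apply (smul_sq hXX _), hSv, hP]
    simp only [mul_add, mul_sub, add_mul, sub_mul, mul_smul_comm, smul_mul_assoc, smul_sub, smul_add, smul_smul,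
      mul_assoc, hRR, hXX, r0, x0, mul_neg, neg_mul, smul_neg, mul_zero, smul_zero, sub_zero, zero_add, add_zero, zero_sub, q1, q2]
    match_scalars <;> field_simp <;> ring
  obtain ⟨t, ht, ht2⟩ := exists_scalar h2 h3
  have hPX : P * (X * P * X) = 0 ∧ X * P * X * P = 0 ∧ X * P * X * (X * P * X) = 0 := by
    refine ⟨?_, ?_, ?_⟩ <;> simp only [hP, mul_assoc, q2, x0, mul_zero, q1]
  have hPm : P ∈ opSet G := by
    have h1 := smul_mem_opSet (hF 1 one_ne_zero) (t ^ 2)
    have h2' := smul_mem_opSet (hF t ht) (-1 : k)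
    have h := add_mem_opSet h1 h2' ?_ ?_
    · have h' := smul_mem_opSet h (2 * (t ^ 2 - 1))⁻¹
      have h20 : (2 : k) * (t ^ 2 - 1) ≠ 0 := mul_ne_zero h2 (sub_ne_zero.2 ht2)
      have e : (2 * (t ^ 2 - 1))⁻¹ • (t ^ 2 • ((2 : k) • P + (1 * 1 / 2 : k) • (X * P * X)) +
          (-1 : k) • ((2 : k) • P + (t * t / 2) • (X * P * X))) = P := by
        have e' : t ^ 2 • ((2 : k) • P + (1 * 1 / 2 : k) • (X * P * X)) +
            (-1 : k) • ((2 : k) • P + (t * t / 2) • (X * P * X)) = (2 * (t ^ 2 - 1)) • P := by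
          match_scalars <;> field_simp <;> ring
        rw [e', smul_smul, inv_mul_cancel₀ h20, one_smul]
      rwa [e] at h'
    all_goals
      simp only [mul_add, add_mul, mul_smul_comm, smul_mul_assoc, hPP, hPX.1, hPX.2.1, hPX.2.2, smul_zero, add_zero]
  by_contra hne
  have hle : range P ≤ range R := by rw [hP, mul_assoc]; exact range_comp_le_range _ _
  have heq : range P = range R := Submodule.eq_of_le_of_finrank_le hle (hR.2.2 _ hPm hne)
  have hmap : (range R).map (R * X) = range R := by
    rw [← range_comp, ← Module.End.mul_eq_comp]; exact heq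
  have hall : ∀ i : ℕ, (range R).map ((R * X) ^ i) = range R := by
    intro i
    induction i with
    | zero => simp [Module.End.one_eq_id]
    | succ i ih => rw [pow_succ, Module.End.mul_eq_comp, Submodule.map_comp, hmap, ih]
  have := hall N
  rw [hN, Submodule.map_zero] at this
  exact hR.2.1 (range_eq_bot.1 this.symm)

/-- The operators `Y` with `RYR = 0` for all minimal `R`. -/
def sandwichSpace (G : Subgroup (LinearMap.GeneralLinearGroup k M)) : Submodule k (Module.End k M) where
  carrier := {Y | ∀ R, IsMinOp G R → R * Y * R = 0}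
  zero_mem' R _ := by simp
  add_mem' {Y Z} hY hZ R hR := by rw [mul_add, add_mul, hY R hR, hZ R hR, add_zero]
  smul_mem' c Y hY R hR := by rw [mul_smul_comm, smul_mul_assoc, hY R hR, smul_zero]

theorem conjOp_mem_sandwich {g : LinearMap.GeneralLinearGroup k M} (hg : g ∈ G) {Y : Module.End k M}
    (hY : Y ∈ sandwichSpace G) : conjOp g Y ∈ sandwichSpace G := by
  intro R hR
  have e : R = conjOp g (conjOp g⁻¹ R) := by rw [← conjOp_comp, mul_inv_cancel]; simp [conjOp_apply]
  rw [e, ← conjOp_mul, ← conjOp_mul, hY _ (hR.conj (inv_mem hg)), map_zero]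

/-- The elements moving every minimal operator inside its class modulo `sandwichSpace`. -/
def sandwichKernel (G : Subgroup (LinearMap.GeneralLinearGroup k M)) : Subgroup GLM where
  carrier := {g | g ∈ G ∧ ∀ R, IsMinOp G R → conjOp g R - R ∈ sandwichSpace G}
  one_mem' := ⟨one_mem G, fun R _ => by simp [conjOp_apply]⟩
  mul_mem' := by
    rintro g h ⟨hg, g1⟩ ⟨hh, h1⟩
    refine ⟨mul_mem hg hh, fun R hR => ?_⟩
    rw [conjOp_comp, ← sub_add_sub_cancel _ (conjOp h R) R]
    exact add_mem (g1 _ (hR.conj hh)) (h1 R hR)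
  inv_mem' := by
    rintro g ⟨hg, g1⟩
    refine ⟨inv_mem hg, fun R hR => ?_⟩
    have h := neg_mem (g1 _ (hR.conj (inv_mem hg)))
    rwa [← conjOp_comp, mul_inv_cancel, neg_sub, show conjOp (1 : GLM) R = R by simp [conjOp_apply]] at h

theorem sandwichKernel_conj {g h : LinearMap.GeneralLinearGroup k M} (hg : g ∈ G) (hh : h ∈ sandwichKernel G) :
    g * h * g⁻¹ ∈ sandwichKernel G := by
  refine ⟨mul_mem (mul_mem hg hh.1) (inv_mem hg), fun R hR => ?_⟩
  have e : R = conjOp g (conjOp g⁻¹ R) := by rw [← conjOp_comp, mul_inv_cancel]; simp [conjOp_apply]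
  have h1 := conjOp_mem_sandwich hg (hh.2 _ (hR.conj (inv_mem hg)))
  rwa [map_sub, ← conjOp_comp, ← conjOp_comp, ← e] at h1

variable [FiniteDimensional k M]

theorem unip_mem_sandwichKernel (h2 : (2 : k) ≠ 0) (h3 : Nat.card k ≠ 3) (hX : X ∈ opSet G)
    (hno : ∀ R, IsMinOp G R → IsNilpotent (pairSum X R)) : unip X ∈ sandwichKernel G := by
  have hXs : X ∈ sandwichSpace G := fun R hR =>
    sandwich_eq_zero h2 h3 hR hX ((isNilpotent_pairSum_iff hR.1.1 hX.1).1 (pairSum_comm X R ▸ hno R hR))
  refine ⟨unip_mem hX, fun R hR => ?_⟩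
  have hRX : R * X - X * R ∈ sandwichSpace G := by
    have h := sub_mem (conjOp_mem_sandwich (unip_mem hR.1) hXs) hXs
    rwa [conjOp_unip_apply hR.1.1, hXs R hR, sub_zero, add_sub_cancel_left] at h
  have h1 : X * (R * X - R * X) = 0 := by rw [sub_self, mul_zero]
  have hm : X * R * X ∈ sandwichSpace G := by
    have h := sub_mem (conjOp_mem_sandwich (unip_mem hX) hRX) hRX
    rw [conjOp_unip_apply hX.1] at h
    have e : R * X - X * R + (X * (R * X - X * R) - (R * X - X * R) * X) - X * (R * X - X * R) * X -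
        (R * X - X * R) = (2 : k) • (X * R * X) := by
      simp only [mul_sub, sub_mul, mul_assoc, hX.1, mul_zero, zero_mul,
        show ∀ w : Module.End k M, X * (X * w) = 0 from fun w => by rw [← mul_assoc, hX.1, zero_mul], two_smul]
      abel
    rw [e] at h
    simpa [smul_smul, h2] using Submodule.smul_mem _ (2 : k)⁻¹ h
  rw [conjOp_unip_apply hX.1]
  have e : R + (X * R - R * X) - X * R * X - R = -(R * X - X * R) - X * R * X := by abel
  rw [e]
  exact sub_mem (neg_mem hRX) hm

theorem rootGroup_perfect (hirr : IsIrreducibleFor G) (h2 : (2 : k) ≠ 0) (h3 : Nat.card k ≠ 3) :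
    ⁅rootGroup G, rootGroup G⁆ = rootGroup G := by
  refine le_antisymm (Cores.commutator_self_le' _) (iSup₂_le fun E hE => ?_)
  have hK := (component_group hirr h2 h3 hE).1
  have hle : (⨆ B ∈ compSet G E, B : Subgroup GLM) ≤ rootGroup G := iSup₂_le fun B hB => le_rootGroup hB.1
  exact ((RootEmbed.le_iSup_mem (S := compSet G E) (⟨hE, .refl⟩ : E ∈ compSet G E)).trans
    (Cores.commutator_self_of_isQuasisimple hK).ge).trans (Subgroup.commutator_mono hle hle)

/-- The kernel centralises `G₀`. -/
theorem sandwichKernel_le_centralizer (hirr : IsIrreducibleFor G) (h2 : (2 : k) ≠ 0) (h3 : Nat.card k ≠ 3) :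
    sandwichKernel G ≤ Subgroup.centralizer (rootGroup G : Set GLM) := by
  set N0 := sandwichKernel G ⊓ rootGroup G with hN0
  have hN0c : N0 ≤ Subgroup.centralizer (rootGroup G : Set GLM) := by
    rw [Subgroup.le_centralizer_iff]
    refine iSup₂_le fun E hE => ?_
    refine (RootEmbed.le_iSup_mem (S := compSet G E) (⟨hE, .refl⟩ : E ∈ compSet G E)).trans ?_
    set K : Subgroup GLM := ⨆ B ∈ compSet G E, B with hK
    have hq := (component_group hirr h2 h3 hE).1
    have hKle : K ≤ rootGroup G := iSup₂_le fun B hB => le_rootGroup hB.1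
    have hKinv : ∀ g ∈ rootGroup G, ∀ x ∈ K, g * x * g⁻¹ ∈ K := by
      intro g hg x hx
      have h : conjBy K g ≤ K := by
        rw [hK, conjBy, Subgroup.map_iSup]
        refine iSup_le fun B => ?_
        rw [Subgroup.map_iSup]
        exact iSup_le fun hB => RootEmbed.le_iSup_mem (conjBy_compSet hirr h2 h3 hg hB)
      exact h ⟨x, hx, rfl⟩
    let N1 : Subgroup K := (sandwichKernel G).subgroupOf K
    haveI hN1 : N1.Normal :=
      ⟨fun n hn g => sandwichKernel_conj (rootGroup_le (hKle g.2)) hn⟩
    have hcen : N1 ≤ Subgroup.center K := by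
      rcases Cores.normal_eq_top_or_le_center_of_isQuasisimple hq N1 with htop | h
      · exfalso
        obtain ⟨A, hA, rfl⟩ := exists_of_mem_root hE
        obtain ⟨R, hR, hn⟩ := exists_not_nilpotent hirr h2 hA
        obtain ⟨C, hC, hC0, hCm, hinv⟩ := exists_inverse h2 h3 hA hR hn
        have hCK : ∀ c : k, unip (c • C) ∈ sandwichKernel G := fun c => by
          have hmem : unip (c • C) ∈ K := by
            refine RootEmbed.le_iSup_mem (⟨opGroup_mem_root hR, .single ⟨hE, opGroup_mem_root hR,
              (exists_special h2 h3 hA hR hn).1⟩⟩ : opGroup hR.1 ∈ compSet G (opGroup hA.1)) ?_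
            exact unip_mem_opGroup (Submodule.smul_mem _ c hC)
          have : (⟨_, hmem⟩ : K) ∈ N1 := htop ▸ Subgroup.mem_top _
          exact this
        have hd : ∀ c : k, c • (C * A - A * C) - (c * c) • C ∈ sandwichSpace G := fun c => by
          have h := (hCK c).2 A hA
          rw [conjOp_unip_apply (smul_sq hCm.1.1 c)] at h
          have e : A + (c • C * A - A * c • C) - c • C * A * c • C - A = c • (C * A - A * C) - (c * c) • C := by
            simp only [smul_mul_assoc, mul_smul_comm, smul_smul, hinv.2, smul_sub]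
            abel
          rwa [e] at h
        have h := add_mem (hd 1) (hd (-1))
        rw [one_mul, neg_one_mul, neg_neg, one_smul, one_smul, neg_one_smul] at h
        have e : C * A - A * C - C + (-(C * A - A * C) - C) = (-2 : k) • C := by
          rw [neg_smul, two_smul]; abel
        rw [e] at h
        have hCs : C ∈ sandwichSpace G := by
          simpa [smul_smul, h2] using Submodule.smul_mem _ (-2 : k)⁻¹ h
        exact hA.2.1 ((hinv.1).symm.trans (hCs A hA))
      · exact h
    have hKN : ⁅K, N0⁆ ≤ K ⊓ sandwichKernel G := by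
      rw [Subgroup.commutator_le]
      intro x hx n hn
      rw [commutatorElement_def]
      refine ⟨?_, (sandwichKernel G).mul_mem (sandwichKernel_conj (rootGroup_le (hKle hx)) hn.1) ((sandwichKernel G).inv_mem hn.1)⟩
      rw [show x * n * x⁻¹ * n⁻¹ = x * (n * x⁻¹ * n⁻¹) by group]
      exact mul_mem hx (hKinv n hn.2 _ (inv_mem hx))
    have hbot : ⁅⁅K, N0⁆, K⁆ = ⊥ := by
      rw [Subgroup.commutator_eq_bot_iff_le_centralizer]
      intro x hx
      obtain ⟨hxK, hxN⟩ := hKN hx
      rw [Subgroup.mem_centralizer_iff]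
      intro y hy
      exact congrArg Subtype.val (Subgroup.mem_center_iff.1 (hcen (x := ⟨x, hxK⟩) hxN) ⟨y, hy⟩)
    exact Subgroup.commutator_eq_bot_iff_le_centralizer.1
      (Cores.commutator_eq_bot_of_perfect (Cores.commutator_self_of_isQuasisimple hq) hbot)
  have hle : ⁅rootGroup G, sandwichKernel G⁆ ≤ N0 := by
    rw [Subgroup.commutator_le]
    intro x hx n hn
    rw [commutatorElement_def]
    refine ⟨(sandwichKernel G).mul_mem (sandwichKernel_conj (rootGroup_le hx) hn) ((sandwichKernel G).inv_mem hn), ?_⟩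
    rw [show x * n * x⁻¹ * n⁻¹ = x * (n * x⁻¹ * n⁻¹) by group]
    exact mul_mem hx ((conjBy_rootGroup hn.1).le ⟨x⁻¹, (rootGroup G).inv_mem hx, rfl⟩)
  have hbot : ⁅⁅rootGroup G, sandwichKernel G⁆, rootGroup G⁆ = ⊥ :=
    Subgroup.commutator_eq_bot_iff_le_centralizer.2 (hle.trans hN0c)
  have h := Cores.commutator_eq_bot_of_perfect (rootGroup_perfect hirr h2 h3) hbot
  rw [Subgroup.commutator_comm] at h
  exact Subgroup.commutator_eq_bot_iff_le_centralizer.1 h

/-- An operator with a non-nilpotent minimal partner splits off a minimal operator. -/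
theorem exists_split (h2 : (2 : k) ≠ 0) (h3 : Nat.card k ≠ 3) (hX : X ∈ opSet G) (hR : IsMinOp G R)
    (hn : ¬ IsNilpotent (pairSum X R)) :
    ∃ A, IsMinOp G A ∧ X - A ∈ opSet G ∧ (A * X = 0 ∧ X * A = 0) ∧
      Module.finrank k (range (X - A)) < Module.finrank k (range X) := by
  obtain ⟨q, hq, ⟨P⟩⟩ := exists_corner X R hX.1 hR.1.1
  haveI : Module.Finite k (AdjoinRoot q) := (AdjoinRoot.powerBasis' hq).finite
  have hE := P.units_system hX.1 hR.1.1
  have hmem := corner_mem P hX hR.1 h2 h3
  set e := P.j 1 with he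
  have hee : e * e = e := P.j_mul_one 1
  have he0 : e ≠ 0 := fun h => hn ⟨P.m + 1, by simpa [← he, h] using P.nil⟩
  have hAe0 : X * e ≠ 0 := by
    intro h
    apply he0
    rw [← hE.sum, ← hE.bc, ← hE.cb, h, zero_mul, mul_zero, add_zero]
  set A := X * e with hA
  have hcomm : Commute A X := by
    show A * X = X * A
    rw [hA, mul_assoc, (P.commA 1).eq]
  have hAX : A * X = 0 := by rw [hA, mul_assoc, (P.commA 1).eq, ← mul_assoc, hX.1, zero_mul]
  have hAmin : IsMinOp G A := by
    refine ⟨(hmem 1).1, hAe0, fun Y hY hY0 => le_trans ?_ (hR.2.2 Y hY hY0)⟩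
    have hb : A = A * (R * P.j P.ri) * A := by rw [hE.bc, hE.ab]
    calc Module.finrank k (range A) = Module.finrank k (range (A * (R * P.j P.ri) * A)) := by rw [← hb]
      _ ≤ Module.finrank k (range (A * (R * P.j P.ri))) := Submodule.finrank_mono (range_comp_le_range _ _)
      _ ≤ Module.finrank k (range (R * P.j P.ri)) := by
        rw [Module.End.mul_eq_comp A, range_comp]; exact Submodule.finrank_map_le _ _
      _ ≤ Module.finrank k (range R) := Submodule.finrank_mono (range_comp_le_range _ _)
  refine ⟨A, hAmin, ?_, ⟨hAX, hcomm.eq ▸ hAX⟩, ?_⟩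
  · rw [sub_eq_add_neg, ← neg_one_smul k A]
    refine add_mem_opSet hX (smul_mem_opSet hAmin.1 _) ?_ ?_
    · rw [mul_smul_comm, ← hcomm.eq, hAX, smul_zero]
    · rw [smul_mul_assoc, hAX, smul_zero]
  · have hle : range (X - A) ≤ range X := by
      rw [hA, show X - X * e = X * (1 - e) by rw [mul_sub, mul_one]]
      exact range_comp_le_range _ _
    refine Submodule.finrank_lt_finrank_of_lt (lt_of_le_of_ne hle fun heq => hAe0 ?_)
    have hz : e * (X - A) = 0 := by
      rw [hA, mul_sub, ← mul_assoc, (P.commA 1).eq, mul_assoc, hee, sub_self]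
    have hz' : e * X = 0 := range_le_ker_iff.1 (heq.ge.trans (range_le_ker_iff.2 hz))
    rw [hA, ← (P.commA 1).eq, hz']

/-- Every quadratic element lies in `G₀ C_G(G₀)`. -/
theorem unip_mem_sup (hirr : IsIrreducibleFor G) (h2 : (2 : k) ≠ 0) (h3 : Nat.card k ≠ 3) :
    ∀ X ∈ opSet G, unip X ∈ rootGroup G ⊔ (G ⊓ Subgroup.centralizer (rootGroup G : Set GLM)) := by
  suffices ∀ n : ℕ, ∀ X ∈ opSet G, Module.finrank k (range X) ≤ n →
      unip X ∈ rootGroup G ⊔ (G ⊓ Subgroup.centralizer (rootGroup G : Set GLM)) from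
    fun X hX => this _ X hX le_rfl
  intro n
  induction n with
  | zero =>
    intro X _ hle
    rw [range_eq_bot.1 (Submodule.finrank_eq_zero.1 (Nat.le_zero.1 hle)), unip_zero]
    exact one_mem _
  | succ n ih =>
    intro X hX hle
    by_cases hno : ∀ R, IsMinOp G R → IsNilpotent (pairSum X R)
    · exact Subgroup.mem_sup_right
        ⟨unip_mem hX, sandwichKernel_le_centralizer hirr h2 h3 (unip_mem_sandwichKernel h2 h3 hX hno)⟩
    · push Not at hno
      obtain ⟨R, hR, hn⟩ := hno
      obtain ⟨A, hA, hXA, ⟨hAX, -⟩, hlt⟩ := exists_split h2 h3 hX hR hn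
      have hmul : unip X = unip A * unip (X - A) := by
        refine Units.ext ?_
        have hz : A * (X - A) = 0 := by rw [mul_sub, hAX, hA.1.1, sub_self]
        rw [Units.val_mul, unip_val hX.1, unip_val hA.1.1, unip_val hXA.1, mul_add, mul_one, add_mul, one_mul, hz]
        abel
      rw [hmul]
      exact mul_mem (Subgroup.mem_sup_left
        (le_rootGroup (opGroup_mem_root hA) (unip_mem_opGroup (self_mem_opSpace hA.1)))) (ih _ hXA (by omega))

end CfsgLib.QuadPair
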