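import Cfsg.Agent.Lib.QuadPair.Filtration

/-!
Two minimal operators with nilpotent `AB + BA` satisfy `ABA = BAB = 0`.
-/

set_option autoImplicit false

namespace CfsgLib.QuadPair

open Cfsg LinearMap

variable {k : Type*} [Field k] {M : Type*} [AddCommGroup M] [Module k M]
variable {G : Subgroup (LinearMap.GeneralLinearGroup k M)} {A B : Module.End k M}

/-- `AB + BA`. -/
def pairSum (A B : Module.End k M) : Module.End k M := A * B + B * A

theorem pairSum_comm (A B : Module.End k M) : pairSum A B = pairSum B A := add_comm _ _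

theorem pairSum_mul (hA : A * A = 0) : pairSum A B * A = A * B * A := by
  rw [pairSum, add_mul, mul_assoc B, hA, mul_zero, add_zero]

theorem mul_pairSum (hA : A * A = 0) : A * pairSum A B = A * B * A := by
  rw [pairSum, mul_add, ← mul_assoc, ← mul_assoc, hA, zero_mul, zero_add]

theorem commute_pairSum_left (hA : A * A = 0) : Commute (pairSum A B) A :=
  (pairSum_mul hA).trans (mul_pairSum hA).symm

theorem commute_pairSum_right (hB : B * B = 0) : Commute (pairSum A B) B := by
  rw [pairSum_comm]; exact commute_pairSum_left hB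

theorem pairSum_pow_mul (hA : A * A = 0) (hB : B * B = 0) (n : ℕ) : pairSum A B ^ n * (A * B) = (A * B) ^ (n + 1) := by
  induction n with
  | zero => simp
  | succ n ih =>
    rw [pow_succ', mul_assoc, ih, pow_succ' (A * B) (n + 1), pow_succ' (A * B) n, ← mul_assoc,
      show pairSum A B * (A * B) = A * B * (A * B) by rw [← mul_assoc, pairSum_mul hA, mul_assoc]]
    simp only [mul_assoc]

theorem pairSum_pow_succ (hA : A * A = 0) (hB : B * B = 0) (n : ℕ) :
    pairSum A B ^ (n + 1) = (A * B) ^ (n + 1) + (B * A) ^ (n + 1) := by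
  rw [pow_succ, show pairSum A B ^ n * pairSum A B = pairSum A B ^ n * (A * B) + pairSum B A ^ n * (B * A) by
    rw [pairSum_comm B A, ← mul_add]; rfl, pairSum_pow_mul hA hB, pairSum_pow_mul hB hA]

theorem isNilpotent_pairSum_iff (hA : A * A = 0) (hB : B * B = 0) :
    IsNilpotent (pairSum A B) ↔ IsNilpotent (A * B) := by
  constructor
  · rintro ⟨n, hn⟩
    exact ⟨n + 1, by rw [← pairSum_pow_mul hA hB, hn, zero_mul]⟩
  · rintro ⟨n, hn⟩
    refine ⟨n + 2, ?_⟩
    have hshift : ∀ m : ℕ, (B * A) ^ (m + 1) = B * (A * B) ^ m * A := by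
      intro m
      induction m with
      | zero => simp
      | succ m ih => rw [pow_succ, ih, pow_succ (A * B) m]; simp only [mul_assoc]
    rw [pairSum_pow_succ hA hB, hshift, pow_succ, pow_succ, hn]
    simp

/-- The span of `A` and `B`. -/
def pairSpan (A B : Module.End k M) : Submodule k (Module.End k M) := Submodule.span k {A, B}

theorem left_mem_pairSpan : A ∈ pairSpan A B := Submodule.subset_span (Or.inl rfl)

theorem right_mem_pairSpan : B ∈ pairSpan A B := Submodule.subset_span (Or.inr rfl)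

theorem pairSpan_comm (A B : Module.End k M) : pairSpan A B = pairSpan B A := by rw [pairSpan, pairSpan, Set.pair_comm]

theorem map_mulLeft_mul_le (a : Module.End k M) (P Q : Submodule k (Module.End k M)) :
    P.map (mulLeft k a) * Q ≤ (P * Q).map (mulLeft k a) := by
  rw [Submodule.mul_le]
  rintro _ ⟨p, hp, rfl⟩ q hq
  exact ⟨p * q, Submodule.mul_mem_mul hp hq, (mul_assoc _ _ _).symm⟩

theorem pairSpan_cube_le (hA : A * A = 0) (hB : B * B = 0) :
    pairSpan A B ^ 3 ≤ (pairSpan A B).map (mulLeft k (pairSum A B)) := by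
  rw [pow_succ, pow_two]
  simp only [pairSpan, Submodule.span_mul_span]
  rw [Submodule.span_le]
  rintro _ ⟨_, ⟨x, hx, y, hy, rfl⟩, w, hw, rfl⟩
  have hz : (0 : Module.End k M) ∈ ((Submodule.span k {A, B}).map (mulLeft k (pairSum A B))) := zero_mem _
  rcases hx with rfl | rfl <;> rcases hy with rfl | rfl <;> rcases hw with rfl | rfl <;>
    simp only [SetLike.mem_coe]
  all_goals first
    | (simp only [mul_assoc, hA, hB, mul_zero]; exact hz)
    | (simp only [hA, hB, zero_mul]; exact hz)
    | skip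
  · exact ⟨_, Submodule.subset_span (Or.inl rfl), pairSum_mul hA⟩
  · exact ⟨_, Submodule.subset_span (Or.inr rfl), by rw [mulLeft_apply, pairSum_comm, pairSum_mul hB]⟩

theorem pairSpan_pow_odd_le (hA : A * A = 0) (hB : B * B = 0) (j : ℕ) :
    pairSpan A B ^ (2 * j + 1) ≤ (pairSpan A B).map (mulLeft k (pairSum A B ^ j)) := by
  induction j with
  | zero => simp
  | succ j ih =>
    rw [show 2 * (j + 1) + 1 = 2 * j + 1 + 2 by ring, pow_add]
    refine (mul_le_mul' ih le_rfl).trans ((map_mulLeft_mul_le _ _ _).trans ?_)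
    rw [show pairSpan A B * pairSpan A B ^ 2 = pairSpan A B ^ 3 by rw [← pow_succ']]
    refine (Submodule.map_mono (pairSpan_cube_le hA hB)).trans ?_
    rintro _ ⟨_, ⟨x, hx, rfl⟩, rfl⟩
    exact ⟨x, hx, by simp [pow_succ, mul_assoc]⟩

theorem pairSum_pow_mem (j : ℕ) : pairSum A B ^ j ∈ degGE (pairSpan A B) (2 * j) := by
  induction j with
  | zero => exact pow_le_degGE le_rfl (by simp only [pow_zero, Nat.mul_zero]; exact Submodule.one_le.1 le_rfl)
  | succ j ih =>
    rw [pow_succ]
    refine mul_mem_degGE (j := 2) (by omega) ih (add_mem ?_ ?_) <;>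
      refine mul_mem_degGE (i := 1) (j := 1) (by omega) (le_degGE_one ?_) (le_degGE_one ?_)
    exacts [left_mem_pairSpan, right_mem_pairSpan, right_mem_pairSpan, left_mem_pairSpan]

theorem congrSub_cast {L : Submodule k (Module.End k M)} {i n : ℕ} {g : LinearMap.GeneralLinearGroup k M}
    (h : i = n) (hg : g ∈ congrSub L i) : g ∈ congrSub L n := h ▸ hg

/-- The commutator with `1 + X` to first order. -/
theorem commutator_approx {L : Submodule k (Module.End k M)} {n : ℕ} {g : LinearMap.GeneralLinearGroup k M}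
    (hg : g ∈ congrSub L n) {X : Module.End k M} (hX : X ∈ L) (hXX : X * X = 0) :
    ((g * unip X * g⁻¹ * (unip X)⁻¹ : LinearMap.GeneralLinearGroup k M) : Module.End k M) - 1 -
      (((g : Module.End k M) - 1) * X - X * ((g : Module.End k M) - 1) + X * ((g : Module.End k M) - 1) * X) ∈
      degGE L (2 * n + 1) := by
  have hi := g.mul_inv
  have hX1 := le_degGE_one hX
  set Y := (g : Module.End k M) - 1
  set Y' := ((g⁻¹ : LinearMap.GeneralLinearGroup k M) : Module.End k M) - 1
  have e : ((g * unip X * g⁻¹ * (unip X)⁻¹ : LinearMap.GeneralLinearGroup k M) : Module.End k M) - 1 -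
      (Y * X - X * Y + X * Y * X) = (Y * X - X * Y) * Y' - (Y * X - X * Y) * Y' * X := by
    simp only [Units.val_mul, unip_val hXX, unip_inv_val hXX, Y, Y']
    have h1 : (g : Module.End k M) * (1 + X) * ((g⁻¹ : LinearMap.GeneralLinearGroup k M) : Module.End k M) =
        1 + X + (((g : Module.End k M) - 1) * X - X * ((g : Module.End k M) - 1)) *
          ((g⁻¹ : LinearMap.GeneralLinearGroup k M) : Module.End k M) := by
      simp only [sub_mul, mul_sub, one_mul, mul_one, add_mul, mul_add, mul_assoc, hi]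
      abel
    rw [h1]
    simp only [sub_mul, mul_sub, one_mul, mul_one, add_mul, mul_add, mul_assoc, hXX, mul_zero]
    abel
  rw [e]
  have hD : Y * X - X * Y ∈ degGE L (n + 1) :=
    sub_mem (mul_mem_degGE (by omega) hg.1 hX1) (mul_mem_degGE (by omega) hX1 hg.1)
  exact sub_mem (mul_mem_degGE (by omega) hD hg.2)
    (mul_mem_degGE (by omega) (mul_mem_degGE (i := n + 1) (j := n) (n := 2 * n + 1) (by omega) hD hg.2) hX1)

theorem commutator_formula {X Y : Module.End k M} (hX : X * X = 0) (hY : Y * Y = 0) :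
    ((unip X * unip Y * (unip X)⁻¹ * (unip Y)⁻¹ : LinearMap.GeneralLinearGroup k M) : Module.End k M) =
      1 + (X * Y - Y * X) + (Y * X * Y - X * Y * X + X * Y * X * Y) := by
  simp only [Units.val_mul, unip_val hX, unip_val hY, unip_inv_val hX, unip_inv_val hY]
  simp only [sub_mul, mul_sub, one_mul, mul_one, add_mul, mul_add]
  simp only [mul_assoc, hX, hY, mul_zero, zero_mul]
  abel

theorem opSet_even (hA : A ∈ opSet G) (hB : B ∈ opSet G) (h2 : (2 : k) ≠ 0) (j : ℕ) :
    ∀ c : k, ∃ g ∈ G, g ∈ congrSub (pairSpan A B) (2 * (j + 1)) ∧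
      (g : Module.End k M) - 1 - c • (pairSum A B ^ j * (A * B - B * A)) ∈ degGE (pairSpan A B) (2 * (j + 1) + 1) := by
  induction j with
  | zero =>
    intro c
    have hX := smul_sq hA.1 c
    have hXm : c • A ∈ pairSpan A B := Submodule.smul_mem _ c left_mem_pairSpan
    refine ⟨_, mul_mem (mul_mem (mul_mem (hA.2 c) (unip_mem hB)) (inv_mem (hA.2 c))) (inv_mem (unip_mem hB)),
      congrSub_cast (by omega) (commutator_mem_congrSub (unip_mem_congrSub hXm hX) (unip_mem_congrSub right_mem_pairSpan hB.1)), ?_⟩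
    rw [commutator_formula hX hB.1, pow_zero, one_mul]
    have e : c • (A * B - B * A) = c • A * B - B * (c • A) := by rw [smul_sub, smul_mul_assoc, mul_smul_comm]
    rw [e]
    have hA1 := le_degGE_one hXm
    have hB1 : B ∈ degGE (pairSpan A B) 1 := le_degGE_one right_mem_pairSpan
    have h3 : ∀ {x y w : Module.End k M}, x ∈ degGE (pairSpan A B) 1 → y ∈ degGE (pairSpan A B) 1 →
        w ∈ degGE (pairSpan A B) 1 → x * y * w ∈ degGE (pairSpan A B) (2 * (0 + 1) + 1) :=
      fun hx hy hw => mul_mem_degGE (i := 2) (by omega) (mul_mem_degGE (by omega) hx hy) hw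
    have e2 : ∀ T R : Module.End k M, 1 + T + R - 1 - T = R := fun T R => by abel
    rw [e2]
    exact add_mem (sub_mem (h3 hB1 hA1 hB1) (h3 hA1 hB1 hA1))
      (mul_mem_degGE (j := 1) (by omega) (h3 hA1 hB1 hA1) hB1)
  | succ j ih =>
    intro c
    obtain ⟨g, hgG, hg, hgr⟩ := ih (c / 2)
    set L := pairSpan A B with hL
    set z := pairSum A B with hz
    set r := (g : Module.End k M) - 1 - (c / 2) • (z ^ j * (A * B - B * A)) with hr
    have hsplit : r ∈ (pairSpan A B).map (mulLeft k (z ^ (j + 1))) ⊔ degGE L (2 * (j + 1) + 2) := by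
      rw [degGE_eq_pow_sup] at hgr
      exact sup_le_sup (pairSpan_pow_odd_le hA.1 hB.1 (j + 1)) le_rfl hgr
    obtain ⟨_, ⟨s, hs, rfl⟩, r', hr', hrr⟩ := Submodule.mem_sup.1 hsplit
    obtain ⟨α, β, rfl⟩ := Submodule.mem_span_pair.1 hs
    set ξ := g * unip A * g⁻¹ * (unip A)⁻¹ with hξ
    have hξG : ξ ∈ G := mul_mem (mul_mem (mul_mem hgG (unip_mem hA)) (inv_mem hgG)) (inv_mem (unip_mem hA))
    have hξc : ξ ∈ congrSub L (2 * (j + 1) + 1) :=
      commutator_mem_congrSub hg (unip_mem_congrSub left_mem_pairSpan hA.1)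
    have hzA := commute_pairSum_left (B := B) hA.1
    have hzB := commute_pairSum_right (A := A) hB.1
    have hA1 : A ∈ degGE L 1 := le_degGE_one left_mem_pairSpan
    have hB1 : B ∈ degGE L 1 := le_degGE_one right_mem_pairSpan
    have hxi : (ξ : Module.End k M) - 1 - c • (z ^ (j + 1) * A) ∈ degGE L (2 * (j + 1) + 2) := by
      have h := degGE_anti (show 2 * (j + 1) + 2 ≤ 2 * (2 * (j + 1)) + 1 by omega)
        (commutator_approx hg left_mem_pairSpan hA.1)
      have key : ((g : Module.End k M) - 1) * A - A * ((g : Module.End k M) - 1) + A * ((g : Module.End k M) - 1) * A -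
          c • (z ^ (j + 1) * A) = r * A - A * r + A * r * A := by
        have hY : (g : Module.End k M) - 1 = (c / 2) • (z ^ j * (A * B - B * A)) + r := by rw [hr]; abel
        rw [hY]
        have hzj : A * z ^ j = z ^ j * A := ((hzA.pow_left j).symm)
        have e1 : (z ^ j * (A * B - B * A)) * A = z ^ (j + 1) * A := by
          rw [pow_succ, mul_assoc, mul_assoc, sub_mul, mul_assoc B, hA.1, mul_zero, sub_zero, ← pairSum_mul hA.1]
        have e2 : A * (z ^ j * (A * B - B * A)) = -(z ^ (j + 1) * A) := by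
          rw [← mul_assoc, hzj, mul_assoc, mul_sub, ← mul_assoc A A, hA.1, zero_mul, zero_sub, mul_neg, pow_succ,
            mul_assoc (z ^ j) z, ← mul_assoc A B, ← pairSum_mul hA.1]
        have e3 : A * (z ^ j * (A * B - B * A)) * A = 0 := by
          rw [e2, neg_mul, mul_assoc, hA.1, mul_zero, neg_zero]
        simp only [add_mul, mul_add, smul_mul_assoc, mul_smul_comm, e1, e2, neg_mul, smul_neg,
          show z ^ (j + 1) * A * A = 0 by rw [mul_assoc, hA.1, mul_zero], smul_zero, neg_zero, zero_add]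
        have hc : (c / 2) • (z ^ (j + 1) * A) + (c / 2) • (z ^ (j + 1) * A) = c • (z ^ (j + 1) * A) := by
          rw [← add_smul]; congr 1; field_simp; ring
        rw [← hc]
        abel
      have hrd : r * A - A * r + A * r * A ∈ degGE L (2 * (j + 1) + 2) := by
        refine add_mem (sub_mem ?_ ?_) ?_
        · exact mul_mem_degGE (by omega) hgr hA1
        · exact mul_mem_degGE (by omega) hA1 hgr
        · exact mul_mem_degGE (i := 2 * (j + 1) + 2) (by omega) (mul_mem_degGE (by omega) hA1 hgr) hA1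
      rw [← key] at hrd
      have := add_mem h hrd
      rwa [← hξ, show ∀ a b d : Module.End k M, a - b + (b - d) = a - d from fun a b d => by abel] at this
    refine ⟨ξ * unip B * ξ⁻¹ * (unip B)⁻¹,
      mul_mem (mul_mem (mul_mem hξG (unip_mem hB)) (inv_mem hξG)) (inv_mem (unip_mem hB)),
      congrSub_cast (by omega) (commutator_mem_congrSub hξc (unip_mem_congrSub right_mem_pairSpan hB.1)), ?_⟩
    set q := (ξ : Module.End k M) - 1 - c • (z ^ (j + 1) * A) with hq
    have h := degGE_anti (show 2 * (j + 1 + 1) + 1 ≤ 2 * (2 * (j + 1) + 1) + 1 by omega)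
      (commutator_approx hξc right_mem_pairSpan hB.1)
    have key : ((ξ : Module.End k M) - 1) * B - B * ((ξ : Module.End k M) - 1) + B * ((ξ : Module.End k M) - 1) * B -
        c • (z ^ (j + 1) * (A * B - B * A)) = q * B - B * q + (c • (z ^ (j + 1) * (B * A * B)) + B * q * B) := by
      have hY : (ξ : Module.End k M) - 1 = c • (z ^ (j + 1) * A) + q := by rw [hq]; abel
      rw [hY]
      have hzj : B * z ^ (j + 1) = z ^ (j + 1) * B := ((hzB.pow_left (j + 1)).symm)
      simp only [add_mul, mul_add, smul_mul_assoc, mul_smul_comm, ← mul_assoc, hzj, mul_sub]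
      rw [smul_sub]
      abel
    have hqd : q * B - B * q + (c • (z ^ (j + 1) * (B * A * B)) + B * q * B) ∈ degGE L (2 * (j + 1 + 1) + 1) := by
      refine add_mem (sub_mem ?_ ?_) (add_mem ?_ ?_)
      · exact mul_mem_degGE (by omega) hxi hB1
      · exact mul_mem_degGE (by omega) hB1 hxi
      · exact Submodule.smul_mem _ c (mul_mem_degGE (i := 2 * (j + 1)) (j := 3) (by omega) (pairSum_pow_mem _)
          (mul_mem_degGE (i := 2) (by omega) (mul_mem_degGE (by omega) hB1 hA1) hB1))
      · exact mul_mem_degGE (i := 2 * (j + 1) + 3) (by omega) (mul_mem_degGE (by omega) hB1 hxi) hB1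
    rw [← key] at hqd
    have := add_mem h hqd
    rwa [show ∀ a b d : Module.End k M, a - b + (b - d) = a - d from fun a b d => by abel] at this

/-- In top degree the operator `z^j A` lies in `opSet`. -/
theorem pow_mul_mem_opSet (hA : A ∈ opSet G) (hB : B ∈ opSet G) (h2 : (2 : k) ≠ 0) (j : ℕ)
    (hbot : degGE (pairSpan A B) (2 * (j + 1) + 3) = ⊥) : pairSum A B ^ (j + 1) * A ∈ opSet G := by
  set z := pairSum A B with hz
  set L := pairSpan A B
  have hzA := commute_pairSum_left (B := B) hA.1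
  have hsq : (z ^ (j + 1) * A) * (z ^ (j + 1) * A) = 0 := by
    rw [mul_assoc, ← mul_assoc A, ← (hzA.pow_left (j + 1)).eq, mul_assoc (z ^ (j + 1)) A, hA.1, mul_zero, mul_zero]
  refine ⟨hsq, fun c => ?_⟩
  obtain ⟨g, hgG, hg, hgr⟩ := opSet_even hA hB h2 j (c / 2)
  set r := (g : Module.End k M) - 1 - (c / 2) • (z ^ j * (A * B - B * A)) with hr
  have hsplit : r ∈ (pairSpan A B).map (mulLeft k (z ^ (j + 1))) ⊔ degGE L (2 * (j + 1) + 2) := by
    rw [degGE_eq_pow_sup] at hgr
    exact sup_le_sup (pairSpan_pow_odd_le hA.1 hB.1 (j + 1)) le_rfl hgr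
  obtain ⟨_, ⟨s, hs, rfl⟩, r', hr', hrr⟩ := Submodule.mem_sup.1 hsplit
  obtain ⟨α, β, rfl⟩ := Submodule.mem_span_pair.1 hs
  obtain ⟨h, hhG, hh, hhr⟩ := opSet_even hA hB h2 (j + 1) β
  rw [show 2 * (j + 1 + 1) + 1 = 2 * (j + 1) + 3 by ring, hbot, Submodule.mem_bot, sub_eq_zero] at hhr
  set ξ := g * unip A * g⁻¹ * (unip A)⁻¹ with hξ
  have hξG : ξ ∈ G := mul_mem (mul_mem (mul_mem hgG (unip_mem hA)) (inv_mem hgG)) (inv_mem (unip_mem hA))
  have hA1 : A ∈ degGE L 1 := le_degGE_one left_mem_pairSpan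
  have hB1 : B ∈ degGE L 1 := le_degGE_one right_mem_pairSpan
  have h0 : ∀ {i : ℕ} {x : Module.End k M}, 2 * (j + 1) + 3 ≤ i → x ∈ degGE L i → x = 0 := fun hi hx =>
    (Submodule.mem_bot k).1 (hbot ▸ degGE_anti hi hx)
  have happ := h0 (by omega) (commutator_approx hg left_mem_pairSpan hA.1)
  rw [sub_eq_zero] at happ
  have hξv : (ξ : Module.End k M) = 1 + (c • (z ^ (j + 1) * A) - β • (z ^ (j + 1) * (A * B - B * A))) := by
    have hY : (g : Module.End k M) - 1 =
        (c / 2) • (z ^ j * (A * B - B * A)) + (α • (z ^ (j + 1) * A) + β • (z ^ (j + 1) * B) + r') := by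
      have hrr' : α • (z ^ (j + 1) * A) + β • (z ^ (j + 1) * B) + r' = r := by
        rw [← hrr]; simp [mul_add, mul_smul_comm]
      rw [hrr', hr]; abel
    have hzj : ∀ n : ℕ, A * z ^ n = z ^ n * A := fun n => (hzA.pow_left n).symm
    have hzj' : ∀ (n : ℕ) (x : Module.End k M), A * (z ^ n * x) = z ^ n * (A * x) := fun n x => by
      rw [← mul_assoc, hzj, mul_assoc]
    have r1 : r' * A = 0 := h0 le_rfl (mul_mem_degGE (by omega) hr' hA1)
    have r2 : A * r' = 0 := h0 le_rfl (mul_mem_degGE (by omega) hA1 hr')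
    have r3 : z ^ (j + 1) * (A * (B * A)) = 0 := h0 le_rfl (mul_mem_degGE (i := 2 * (j + 1)) (j := 3) (by omega)
      (pairSum_pow_mem _) (mul_mem_degGE (i := 1) (j := 2) (by omega) hA1 (mul_mem_degGE (by omega) hB1 hA1)))
    rw [hY, ← hξ] at happ
    have e1 : z ^ j * (A * (B * A)) = z ^ (j + 1) * A := by
      rw [← mul_assoc A, ← pairSum_mul hA.1, pow_succ, mul_assoc]
    simp only [add_mul, mul_add, sub_mul, mul_sub, smul_mul_assoc, mul_smul_comm, mul_assoc, hA.1, r1, r2, r3,
      mul_zero, zero_mul, smul_zero, sub_zero, add_zero, zero_add, hzj', e1,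
      show ∀ x : Module.End k M, A * (A * x) = 0 from fun x => by rw [← mul_assoc, hA.1, zero_mul]] at happ
    rw [eq_add_of_sub_eq' happ]
    have hc : (c / 2) • (z ^ (j + 1) * A) + (c / 2) • (z ^ (j + 1) * A) = c • (z ^ (j + 1) * A) := by
      rw [← add_smul]; congr 1; field_simp; ring
    rw [← hc]
    simp only [mul_sub, smul_sub, smul_zero, zero_sub, sub_zero, smul_neg]
    abel
  have hprod : ξ * h = unip (c • (z ^ (j + 1) * A)) := by
    refine Units.ext ?_
    rw [Units.val_mul, unip_val (smul_sq hsq c), hξv, eq_add_of_sub_eq' hhr, mul_add, mul_one, add_mul, one_mul]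
    have hT : (c • (z ^ (j + 1) * A) - β • (z ^ (j + 1) * (A * B - B * A))) *
        β • (z ^ (j + 1) * (A * B - B * A)) = 0 := by
      have hz1 : z ^ (j + 1) * A ∈ degGE L (2 * (j + 1) + 1) := mul_mem_degGE (j := 1) (by omega) (pairSum_pow_mem _) hA1
      have hz2 : z ^ (j + 1) * (A * B - B * A) ∈ degGE L (2 * (j + 1) + 2) :=
        mul_mem_degGE (j := 2) (by omega) (pairSum_pow_mem _) (sub_mem (mul_mem_degGE (by omega) hA1 hB1) (mul_mem_degGE (by omega) hB1 hA1))
      exact h0 le_rfl (mul_mem_degGE (i := 2 * (j + 1) + 1) (j := 2 * (j + 1) + 2) (by omega)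
        (sub_mem (Submodule.smul_mem _ c hz1) (Submodule.smul_mem _ β (degGE_anti (by omega) hz2)))
        (Submodule.smul_mem _ β hz2))
    rw [hT, add_zero]
    abel
  rw [← hprod]
  exact mul_mem hξG hhG

variable [FiniteDimensional k M]

theorem degGE_bot_of_pow (hA : A * A = 0) (hB : B * B = 0) {j : ℕ} (h1 : pairSum A B ^ j * A = 0)
    (h2 : pairSum A B ^ j * B = 0) : degGE (pairSpan A B) (2 * j + 1) = ⊥ := by
  refine degGE_eq_bot ?_ le_rfl
  rw [eq_bot_iff]
  refine (pairSpan_pow_odd_le hA hB j).trans ?_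
  rintro _ ⟨x, hx, rfl⟩
  obtain ⟨α, β, rfl⟩ := Submodule.mem_span_pair.1 hx
  simp [mul_add, mul_smul_comm, h1, h2]

theorem pow_mul_eq_zero (hA : IsMinOp G A) (hB : B ∈ opSet G) (h2 : (2 : k) ≠ 0)
    (hn : IsNilpotent (pairSum A B)) (j : ℕ) (hbot : degGE (pairSpan A B) (2 * (j + 1) + 3) = ⊥) :
    pairSum A B ^ (j + 1) * A = 0 := by
  by_contra hne
  set w := pairSum A B ^ (j + 1)
  have hwA : Commute w A := (commute_pairSum_left hA.1.1).pow_left _
  have hmem := pow_mul_mem_opSet hA.1 hB h2 j hbot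
  have hle : range (w * A) ≤ range A := by rw [hwA.eq]; exact range_comp_le_range _ _
  have heq : range (w * A) = range A := Submodule.eq_of_le_of_finrank_le hle (hA.2.2 _ hmem hne)
  have hmap : (range A).map w = range A := by rw [← range_comp]; exact heq
  obtain ⟨N, hN⟩ : IsNilpotent w := hn.pow_of_pos (by omega)
  have hall : ∀ i : ℕ, (range A).map (w ^ i) = range A := by
    intro i
    induction i with
    | zero => simp [Module.End.one_eq_id]
    | succ i ih => rw [pow_succ, Module.End.mul_eq_comp, Submodule.map_comp, hmap, ih]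
  have := hall N
  rw [hN, Submodule.map_zero] at this
  exact hA.2.1 (range_eq_bot.1 this.symm)

/-- A nilpotent pair of minimal operators satisfies `ABA = 0 = BAB`. -/
theorem triple_zero (hA : IsMinOp G A) (hB : IsMinOp G B) (h2 : (2 : k) ≠ 0)
    (hn : IsNilpotent (pairSum A B)) : A * B * A = 0 ∧ B * A * B = 0 := by
  obtain ⟨N, hN⟩ := id hn
  have key : ∀ i : ℕ, pairSum A B ^ (N - i + 1) * A = 0 ∧ pairSum A B ^ (N - i + 1) * B = 0 := by
    intro i
    induction i with
    | zero => simp [pow_succ, hN]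
    | succ i ih =>
      rcases Nat.lt_or_ge i N with hi | hi
      · obtain ⟨t, ht⟩ : ∃ t, N - i = t + 1 := ⟨N - i - 1, by omega⟩
        rw [ht] at ih
        have hb := degGE_bot_of_pow hA.1.1 hB.1.1 ih.1 ih.2
        rw [show 2 * (t + 1 + 1) + 1 = 2 * (t + 1) + 3 by ring] at hb
        rw [show N - (i + 1) + 1 = t + 1 by omega]
        refine ⟨pow_mul_eq_zero hA hB.1 h2 hn t hb, ?_⟩
        rw [pairSum_comm]
        exact pow_mul_eq_zero hB hA.1 h2 (pairSum_comm A B ▸ hn) t (pairSpan_comm A B ▸ hb)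
      · rwa [show N - (i + 1) = N - i by omega]
  have h := key N
  rw [Nat.sub_self, zero_add, pow_one, pairSum_mul hA.1.1, pairSum_comm, pairSum_mul hB.1.1] at h
  exact h

end CfsgLib.QuadPair
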