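import Cfsg.Prelude.Def_RootSubgroups

/-!
Quadratic pairs through the operators `σ - 1`: the set of operators `X` with `X² = 0` and `1 + k X ⊆ G`, the
ones of minimal rank, and the subspace attached to a minimal operator, whose image under `X ↦ 1 + X` is `E(σ)`.
-/

set_option autoImplicit false

namespace CfsgLib.QuadPair

open Cfsg LinearMap

variable {k : Type*} [Field k] {M : Type*} [AddCommGroup M] [Module k M]

local notation "GLM" => LinearMap.GeneralLinearGroup k M

theorem unip_mul {R : Type*} [Ring R] {X : R} (h : X * X = 0) : (1 + X) * (1 - X) = 1 ∧ (1 - X) * (1 + X) = 1 := by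
  constructor <;> simp [add_mul, mul_add, sub_mul, mul_sub, h]

open Classical in
/-- The unit `1 + X` for `X² = 0` (and `1` for other `X`). -/
noncomputable def unip (X : Module.End k M) : GLM :=
  if h : X * X = 0 then ⟨1 + X, 1 - X, (unip_mul h).1, (unip_mul h).2⟩ else 1

theorem unip_val {X : Module.End k M} (h : X * X = 0) : (unip X : Module.End k M) = 1 + X := by
  simp [unip, h]

theorem unip_inv_val {X : Module.End k M} (h : X * X = 0) : ((unip X)⁻¹ : GLM).val = 1 - X := by
  simp [unip, h]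

theorem smul_sq {X : Module.End k M} (h : X * X = 0) (c : k) : (c • X) * (c • X) = 0 := by
  rw [smul_mul_smul_comm, h, smul_zero]

/-- Conjugation of an operator by a unit. -/
def conjOp (g : GLM) : Module.End k M ≃ₗ[k] Module.End k M where
  toFun X := (g : Module.End k M) * X * ((g⁻¹ : GLM) : Module.End k M)
  invFun X := ((g⁻¹ : GLM) : Module.End k M) * X * (g : Module.End k M)
  map_add' X Y := by rw [mul_add, add_mul]
  map_smul' c X := by simp [mul_smul_comm, smul_mul_assoc]
  left_inv X := by simp [mul_assoc]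
  right_inv X := by simp [mul_assoc]

theorem conjOp_apply (g : GLM) (X : Module.End k M) :
    conjOp g X = (g : Module.End k M) * X * ((g⁻¹ : GLM) : Module.End k M) := rfl

theorem conjOp_mul (g : GLM) (X Y : Module.End k M) : conjOp g (X * Y) = conjOp g X * conjOp g Y := by
  simp [conjOp_apply, mul_assoc]

theorem conjOp_one (g : GLM) : conjOp g 1 = 1 := by simp [conjOp_apply]

theorem conjOp_comp (g h : GLM) (X : Module.End k M) : conjOp (g * h) X = conjOp g (conjOp h X) := by
  simp [conjOp_apply, mul_assoc]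

theorem conjOp_unip (g : GLM) {X : Module.End k M} (h : X * X = 0) :
    g * unip X * g⁻¹ = unip (conjOp g X) := by
  have h' : conjOp g X * conjOp g X = 0 := by rw [← conjOp_mul, h, map_zero]
  refine Units.ext ?_
  rw [Units.val_mul, Units.val_mul, unip_val h, unip_val h', conjOp_apply, mul_add, add_mul, mul_one, Units.mul_inv]

theorem range_conjOp (g : GLM) (X : Module.End k M) :
    range (conjOp g X) = (range X).map (g : Module.End k M) := by
  have hs : range ((g⁻¹ : GLM) : Module.End k M) = ⊤ :=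
    range_eq_top.2 fun v => ⟨(g : Module.End k M) v, by rw [← Module.End.mul_apply, Units.inv_mul]; rfl⟩
  rw [conjOp_apply, Module.End.mul_eq_comp, Module.End.mul_eq_comp, range_comp, hs, Submodule.map_top, range_comp]

theorem ker_conjOp (g : GLM) (X : Module.End k M) :
    ker (conjOp g X) = (ker X).map (g : Module.End k M) := by
  ext v
  simp only [conjOp_apply, mem_ker, Submodule.mem_map, Module.End.mul_apply]
  constructor
  · intro h
    refine ⟨((g⁻¹ : GLM) : Module.End k M) v, ?_, by rw [← Module.End.mul_apply, Units.mul_inv]; rfl⟩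
    have := congrArg ((g⁻¹ : GLM) : Module.End k M) h
    rwa [map_zero, ← Module.End.mul_apply ((g⁻¹ : GLM) : Module.End k M), Units.inv_mul, Module.End.one_apply] at this
  · rintro ⟨w, hw, rfl⟩
    rw [← Module.End.mul_apply ((g⁻¹ : GLM) : Module.End k M), Units.inv_mul, Module.End.one_apply, hw, map_zero]

variable {G : Subgroup (LinearMap.GeneralLinearGroup k M)}

/-- The operators `X` with `X² = 0` and `1 + k X ⊆ G`. -/
def opSet (G : Subgroup GLM) : Set (Module.End k M) :=
  {X | X * X = 0 ∧ ∀ c : k, unip (c • X) ∈ G}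

theorem unip_mem {X : Module.End k M} (h : X ∈ opSet G) : unip X ∈ G := by simpa using h.2 1

theorem unip_zero : unip (0 : Module.End k M) = 1 := Units.ext (by simp [unip_val (mul_zero (0 : Module.End k M))])

theorem zero_mem_opSet : (0 : Module.End k M) ∈ opSet G :=
  ⟨mul_zero _, fun c => by rw [smul_zero, unip_zero]; exact one_mem _⟩

theorem smul_mem_opSet {X : Module.End k M} (h : X ∈ opSet G) (c : k) : c • X ∈ opSet G :=
  ⟨smul_sq h.1 c, fun d => by rw [smul_smul]; exact h.2 _⟩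

theorem add_mem_opSet {X Y : Module.End k M} (hX : X ∈ opSet G) (hY : Y ∈ opSet G) (h1 : X * Y = 0)
    (h2 : Y * X = 0) : X + Y ∈ opSet G := by
  have hs : (X + Y) * (X + Y) = 0 := by simp [add_mul, mul_add, hX.1, hY.1, h1, h2]
  refine ⟨hs, fun c => ?_⟩
  have e : unip (c • (X + Y)) = unip (c • X) * unip (c • Y) := by
    refine Units.ext ?_
    rw [Units.val_mul, unip_val (smul_sq hs c), unip_val (smul_sq hX.1 c), unip_val (smul_sq hY.1 c)]
    rw [add_mul, one_mul, mul_add, mul_one, smul_mul_smul_comm, h1, smul_zero, add_zero, smul_add]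
    abel
  rw [e]
  exact mul_mem (hX.2 c) (hY.2 c)

theorem conjOp_mem_opSet {g : GLM} (hg : g ∈ G) {X : Module.End k M} (h : X ∈ opSet G) :
    conjOp g X ∈ opSet G := by
  refine ⟨by rw [← conjOp_mul, h.1, map_zero], fun c => ?_⟩
  rw [← map_smul, ← conjOp_unip g (smul_sq h.1 c)]
  exact mul_mem (mul_mem hg (h.2 c)) (inv_mem hg)

theorem scalarFamily_eq {σ : GLM} (h : ((σ : Module.End k M) - 1) * ((σ : Module.End k M) - 1) = 0) :
    scalarFamily σ = Set.range fun c : k => unip (c • ((σ : Module.End k M) - 1)) := by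
  ext τ
  constructor
  · rintro ⟨c, hc⟩
    exact ⟨c, Units.ext (by rw [unip_val (smul_sq h c)]; exact hc.symm)⟩
  · rintro ⟨c, rfl⟩
    exact ⟨c, unip_val (smul_sq h c)⟩

theorem op_mem {σ : GLM} (h : σ ∈ quadraticElements G) :
    (σ : Module.End k M) - 1 ∈ opSet G ∧ (σ : Module.End k M) - 1 ≠ 0 := by
  refine ⟨⟨h.2.1.1, fun c => h.2.2 ?_⟩, h.2.1.2⟩
  rw [scalarFamily_eq h.2.1.1]
  exact ⟨c, rfl⟩

theorem unip_op {σ : GLM} (h : ((σ : Module.End k M) - 1) * ((σ : Module.End k M) - 1) = 0) :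
    unip ((σ : Module.End k M) - 1) = σ :=
  Units.ext (by rw [unip_val h, add_sub_cancel])

theorem unip_mem_quadratic {X : Module.End k M} (h : X ∈ opSet G) (hne : X ≠ 0) : unip X ∈ quadraticElements G := by
  have e : (unip X : Module.End k M) - 1 = X := by rw [unip_val h.1, add_sub_cancel_left]
  have hq : ((unip X : Module.End k M) - 1) * ((unip X : Module.End k M) - 1) = 0 := by rw [e]; exact h.1
  refine ⟨unip_mem h, ⟨hq, by rw [e]; exact hne⟩, ?_⟩
  rw [scalarFamily_eq hq, e]
  rintro _ ⟨c, rfl⟩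
  exact h.2 c

/-- `X` is a non-zero operator of minimal rank. -/
def IsMinOp (G : Subgroup GLM) (X : Module.End k M) : Prop :=
  X ∈ opSet G ∧ X ≠ 0 ∧ ∀ Y ∈ opSet G, Y ≠ 0 → Module.finrank k (range X) ≤ Module.finrank k (range Y)

theorem isMinOp_of_mem {σ : GLM} (h : σ ∈ minimalQuadraticElements G) : IsMinOp G ((σ : Module.End k M) - 1) := by
  refine ⟨(op_mem h.1).1, (op_mem h.1).2, fun Y hY hY0 => ?_⟩
  have := h.2 _ (unip_mem_quadratic hY hY0)
  unfold commutatorRank at this
  rwa [unip_val hY.1, add_sub_cancel_left] at this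

theorem unip_mem_minimal {X : Module.End k M} (h : IsMinOp G X) : unip X ∈ minimalQuadraticElements G := by
  refine ⟨unip_mem_quadratic h.1 h.2.1, fun τ hτ => ?_⟩
  unfold commutatorRank
  rw [unip_val h.1.1, add_sub_cancel_left]
  exact h.2.2 _ (op_mem hτ).1 (op_mem hτ).2

theorem IsMinOp.conj {X : Module.End k M} (h : IsMinOp G X) {g : GLM} (hg : g ∈ G) : IsMinOp G (conjOp g X) := by
  refine ⟨conjOp_mem_opSet hg h.1, fun e => h.2.1 ((conjOp g).injective (e.trans (map_zero _).symm)),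
    fun Y hY hY0 => ?_⟩
  rw [range_conjOp]
  have hinj : Function.Injective (g : Module.End k M) := fun a b e => by
    have := congrArg ((g⁻¹ : GLM) : Module.End k M) e
    simpa [← Module.End.mul_apply] using this
  rw [← LinearEquiv.finrank_eq (Submodule.equivMapOfInjective _ hinj (range X))]
  exact h.2.2 Y hY hY0

/-- The operators of `opSet` with range inside that of `A` and kernel containing that of `A`. -/
def opSpace {A : Module.End k M} (hA : A ∈ opSet G) : Submodule k (Module.End k M) where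
  carrier := {X | X ∈ opSet G ∧ range X ≤ range A ∧ ker A ≤ ker X}
  zero_mem' := ⟨zero_mem_opSet, by simp, by simp⟩
  add_mem' := by
    rintro X Y ⟨hX, hXr, hXk⟩ ⟨hY, hYr, hYk⟩
    have hAA : range A ≤ ker A := range_le_ker_iff.2 hA.1
    refine ⟨add_mem_opSet hX hY (range_le_ker_iff.1 (hYr.trans (hAA.trans hXk)))
      (range_le_ker_iff.1 (hXr.trans (hAA.trans hYk))), ?_, fun v hv => ?_⟩
    · rintro _ ⟨v, rfl⟩
      exact Submodule.add_mem _ (hXr ⟨v, rfl⟩) (hYr ⟨v, rfl⟩)
    · rw [mem_ker, LinearMap.add_apply, mem_ker.1 (hXk hv), mem_ker.1 (hYk hv), add_zero]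
  smul_mem' := by
    rintro c X ⟨hX, hXr, hXk⟩
    refine ⟨smul_mem_opSet hX c, ?_, fun v hv => by rw [mem_ker, LinearMap.smul_apply, mem_ker.1 (hXk hv), smul_zero]⟩
    rintro _ ⟨v, rfl⟩
    exact Submodule.smul_mem _ c (hXr ⟨v, rfl⟩)

theorem self_mem_opSpace {A : Module.End k M} (hA : A ∈ opSet G) : A ∈ opSpace hA := ⟨hA, le_rfl, le_rfl⟩

theorem mul_eq_zero_of_mem {A X Y : Module.End k M} (hA : A ∈ opSet G) (hX : X ∈ opSpace hA) (hY : Y ∈ opSpace hA) :
    X * Y = 0 :=
  range_le_ker_iff.1 (hY.2.1.trans ((range_le_ker_iff.2 hA.1).trans hX.2.2))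

variable [FiniteDimensional k M]

theorem geometry_of_mem {A X : Module.End k M} (hA : IsMinOp G A) (hX : X ∈ opSpace hA.1) (hX0 : X ≠ 0) :
    range X = range A ∧ ker X = ker A ∧ IsMinOp G X := by
  have hr : range X = range A := Submodule.eq_of_le_of_finrank_le hX.2.1 (hA.2.2 X hX.1 hX0)
  refine ⟨hr, (Submodule.eq_of_le_of_finrank_le hX.2.2 ?_).symm, hX.1, hX0, fun Y hY hY0 => hr ▸ hA.2.2 Y hY hY0⟩
  have h1 := X.finrank_range_add_finrank_ker
  have h2 := A.finrank_range_add_finrank_ker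
  rw [hr] at h1
  omega

theorem opSpace_eq {A X : Module.End k M} (hA : IsMinOp G A) (hX : X ∈ opSpace hA.1) (hX0 : X ≠ 0) :
    opSpace hX.1 = opSpace hA.1 := by
  obtain ⟨hr, hk, -⟩ := geometry_of_mem hA hX hX0
  ext Y
  show (Y ∈ opSet G ∧ _) ↔ (Y ∈ opSet G ∧ _)
  rw [hr, hk]

/-- The subgroup `1 + opSpace A`. -/
noncomputable def opGroup {A : Module.End k M} (hA : A ∈ opSet G) : Subgroup GLM where
  carrier := {g | ∃ X ∈ opSpace hA, (g : Module.End k M) = 1 + X}
  one_mem' := ⟨0, zero_mem _, by simp⟩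
  mul_mem' := by
    rintro g h ⟨X, hX, eX⟩ ⟨Y, hY, eY⟩
    refine ⟨X + Y, add_mem hX hY, ?_⟩
    rw [Units.val_mul, eX, eY, add_mul, one_mul, mul_add, mul_one, mul_eq_zero_of_mem hA hX hY, add_zero]
    abel
  inv_mem' := by
    rintro g ⟨X, hX, eX⟩
    refine ⟨-X, neg_mem hX, ?_⟩
    have : g = unip X := Units.ext (by rw [unip_val hX.1.1]; exact eX)
    rw [this, unip_inv_val hX.1.1, sub_eq_add_neg]

theorem unip_mem_opGroup {A X : Module.End k M} {hA : A ∈ opSet G} (hX : X ∈ opSpace hA) : unip X ∈ opGroup hA :=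
  ⟨X, hX, unip_val hX.1.1⟩

theorem mem_opGroup {A : Module.End k M} {hA : A ∈ opSet G} {g : GLM} :
    g ∈ opGroup hA ↔ ∃ X ∈ opSpace hA, g = unip X :=
  ⟨fun ⟨X, hX, e⟩ => ⟨X, hX, Units.ext (by rw [unip_val hX.1.1]; exact e)⟩,
    fun ⟨_, hX, e⟩ => e ▸ unip_mem_opGroup hX⟩

theorem unip_injective {X Y : Module.End k M} (hX : X * X = 0) (hY : Y * Y = 0) (h : unip X = unip Y) : X = Y := by
  have := congrArg Units.val h
  rw [unip_val hX, unip_val hY] at this
  exact add_left_cancel this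

theorem sameAction_eq {σ : GLM} (hσ : σ ∈ minimalQuadraticElements G) :
    sameActionSubgroup G σ = opGroup (isMinOp_of_mem hσ).1 := by
  have hA := isMinOp_of_mem hσ
  apply le_antisymm
  · rw [sameActionSubgroup, Subgroup.closure_le]
    rintro τ ⟨hτ, hk, hr⟩
    exact ⟨(τ : Module.End k M) - 1, ⟨(op_mem hτ.1).1, hr.le, hk.ge⟩, by rw [add_sub_cancel]⟩
  · intro g hg
    obtain ⟨X, hX, rfl⟩ := mem_opGroup.1 hg
    by_cases h0 : X = 0
    · rw [h0, unip_zero]; exact one_mem _
    obtain ⟨hr, hk, hmin⟩ := geometry_of_mem hA hX h0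
    refine Subgroup.subset_closure ⟨unip_mem_minimal hmin, ?_, ?_⟩
    · rw [unip_val hX.1.1, add_sub_cancel_left]; exact hk
    · rw [unip_val hX.1.1, add_sub_cancel_left]; exact hr

theorem opGroup_eq {A X : Module.End k M} (hA : IsMinOp G A) (hX : X ∈ opSpace hA.1) (hX0 : X ≠ 0) :
    opGroup hX.1 = opGroup hA.1 := by
  ext g
  simp only [mem_opGroup, opSpace_eq hA hX hX0]

theorem exists_of_mem_root {E : Subgroup GLM} (hE : E ∈ quadraticRootSubgroups G) :
    ∃ A, ∃ hA : IsMinOp G A, E = opGroup hA.1 := by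
  obtain ⟨σ, hσ, rfl⟩ := hE
  exact ⟨_, isMinOp_of_mem hσ, sameAction_eq hσ⟩

theorem opGroup_mem_root {A : Module.End k M} (hA : IsMinOp G A) :
    opGroup hA.1 ∈ quadraticRootSubgroups G := by
  have h := unip_mem_minimal hA
  refine ⟨unip A, h, ?_⟩
  rw [sameAction_eq h]
  congr 1
  rw [unip_val hA.1.1, add_sub_cancel_left]

theorem conjOp_mem_opSpace {A X : Module.End k M} (hA : A ∈ opSet G) {g : GLM} (hg : g ∈ G)
    (hX : X ∈ opSpace hA) : conjOp g X ∈ opSpace (conjOp_mem_opSet hg hA) := by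
  refine ⟨conjOp_mem_opSet hg hX.1, ?_, ?_⟩
  · rw [range_conjOp, range_conjOp]; exact Submodule.map_mono hX.2.1
  · rw [ker_conjOp, ker_conjOp]; exact Submodule.map_mono hX.2.2

theorem opSpace_conj {A : Module.End k M} (hA : A ∈ opSet G) {g : GLM} (hg : g ∈ G) :
    opSpace (conjOp_mem_opSet hg hA) = (opSpace hA).map (conjOp g).toLinearMap := by
  ext Y
  constructor
  · intro hY
    refine ⟨conjOp g⁻¹ Y, ?_, by rw [LinearEquiv.coe_coe, ← conjOp_comp, mul_inv_cancel]; simp [conjOp_apply]⟩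
    have h := conjOp_mem_opSpace (conjOp_mem_opSet hg hA) (inv_mem hg) hY
    have e : conjOp g⁻¹ (conjOp g A) = A := by rw [← conjOp_comp, inv_mul_cancel]; simp [conjOp_apply]
    obtain ⟨a, b, c⟩ := h
    rw [e] at b c
    exact ⟨a, b, c⟩
  · rintro ⟨X, hX, rfl⟩
    exact conjOp_mem_opSpace hA hg hX

theorem finrank_opSpace_conj {A : Module.End k M} (hA : A ∈ opSet G) {g : GLM} (hg : g ∈ G) :
    Module.finrank k (opSpace (conjOp_mem_opSet hg hA)) = Module.finrank k (opSpace hA) := by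
  rw [opSpace_conj hA hg, LinearEquiv.finrank_map_eq]

theorem conjBy_opGroup {A : Module.End k M} (hA : A ∈ opSet G) {g : GLM} (hg : g ∈ G) :
    conjBy (opGroup hA) g = opGroup (conjOp_mem_opSet hg hA) := by
  ext x
  constructor
  · rintro ⟨y, hy, rfl⟩
    obtain ⟨X, hX, rfl⟩ := mem_opGroup.1 hy
    exact mem_opGroup.2 ⟨_, conjOp_mem_opSpace hA hg hX, conjOp_unip g hX.1.1⟩
  · intro hx
    obtain ⟨Y, hY, rfl⟩ := mem_opGroup.1 hx
    rw [opSpace_conj hA hg] at hY
    obtain ⟨X, hX, rfl⟩ := hY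
    exact ⟨unip X, unip_mem_opGroup hX, conjOp_unip g hX.1.1⟩

end CfsgLib.QuadPair
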