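import Cfsg.Agent.Lib.QuadPair.ClassTwo

/-!
The three cases for a pair of root subgroups of a quadratic pair: commuting, class two, special rank one.
-/

set_option autoImplicit false

namespace CfsgLib.QuadPair

open Cfsg LinearMap
open scoped commutatorElement

universe u v

variable {k : Type u} [Field k] {M : Type v} [AddCommGroup M] [Module k M]
variable {G : Subgroup (LinearMap.GeneralLinearGroup k M)} {A B C : Module.End k M}

theorem two_ne_zero_of_ringChar (hk2 : ringChar k ≠ 2) : (2 : k) ≠ 0 :=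
  Ring.two_ne_zero hk2

theorem mem_fixedSubmodule {H : Subgroup (LinearMap.GeneralLinearGroup k M)} {v : M} :
    v ∈ Cfsg.fixedSubmodule H ↔ ∀ g ∈ H, (g : Module.End k M) v = v := by
  simp [Cfsg.fixedSubmodule, LinearMap.mem_ker, sub_eq_zero]

theorem le_commutatorSubmodule {H : Subgroup (LinearMap.GeneralLinearGroup k M)}
    {g : LinearMap.GeneralLinearGroup k M} (hg : g ∈ H) :
    range ((g : Module.End k M) - 1) ≤ commutatorSubmodule H :=
  le_iSup₂ (f := fun (g : LinearMap.GeneralLinearGroup k M) (_ : g ∈ H) => range ((g : M →ₗ[k] M) - 1)) g hg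

theorem commutatorSubmodule_le {H : Subgroup (LinearMap.GeneralLinearGroup k M)} {W : Submodule k M}
    (h : ∀ g ∈ H, range ((g : Module.End k M) - 1) ≤ W) : commutatorSubmodule H ≤ W :=
  iSup₂_le h

/-- The elements `g` with `e (g - 1) = g - 1 = (g - 1) e`. -/
def nearUnits (e : Module.End k M) : Subgroup (LinearMap.GeneralLinearGroup k M) where
  carrier := {g | e * ((g : Module.End k M) - 1) = (g : Module.End k M) - 1 ∧
    ((g : Module.End k M) - 1) * e = (g : Module.End k M) - 1}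
  one_mem' := by constructor <;> simp
  mul_mem' := by
    rintro g h ⟨g1, g2⟩ ⟨h1, h2⟩
    have key : ((g * h : LinearMap.GeneralLinearGroup k M) : Module.End k M) - 1 =
        ((g : Module.End k M) - 1) * ((h : Module.End k M) - 1) + ((g : Module.End k M) - 1) +
          ((h : Module.End k M) - 1) := by
      rw [Units.val_mul]; noncomm_ring
    constructor
    · rw [key, mul_add, mul_add, ← mul_assoc, g1, h1]
    · rw [key, add_mul, add_mul, mul_assoc, g2, h2]
  inv_mem' := by
    rintro g ⟨g1, g2⟩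
    have key : ((g⁻¹ : LinearMap.GeneralLinearGroup k M) : Module.End k M) - 1 =
        -(((g⁻¹ : LinearMap.GeneralLinearGroup k M) : Module.End k M) * ((g : Module.End k M) - 1)) := by
      rw [mul_sub, Units.inv_mul, mul_one, neg_sub]
    have key' : ((g⁻¹ : LinearMap.GeneralLinearGroup k M) : Module.End k M) - 1 =
        -(((g : Module.End k M) - 1) * ((g⁻¹ : LinearMap.GeneralLinearGroup k M) : Module.End k M)) := by
      rw [sub_mul, Units.mul_inv, one_mul, neg_sub]
    constructor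
    · rw [key', mul_neg, ← mul_assoc, g1]
    · rw [key, neg_mul, mul_assoc, g2]

variable [FiniteDimensional k M]

theorem fixedSubmodule_opGroup (hA : A ∈ opSet G) : Cfsg.fixedSubmodule (opGroup hA) = ker A := by
  ext v
  rw [mem_fixedSubmodule, mem_ker]
  constructor
  · intro h
    have := h _ (unip_mem_opGroup (self_mem_opSpace hA))
    rwa [unip_val hA.1, LinearMap.add_apply, Module.End.one_apply, add_eq_left] at this
  · intro hv g hg
    obtain ⟨X, hX, rfl⟩ := mem_opGroup.1 hg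
    rw [unip_val hX.1.1, LinearMap.add_apply, Module.End.one_apply, mem_ker.1 (hX.2.2 (mem_ker.2 hv)), add_zero]

theorem commutatorSubmodule_opGroup (hA : A ∈ opSet G) : commutatorSubmodule (opGroup hA) = range A := by
  apply le_antisymm
  · refine commutatorSubmodule_le fun g hg => ?_
    obtain ⟨X, hX, rfl⟩ := mem_opGroup.1 hg
    rw [unip_val hX.1.1, add_sub_cancel_left]
    exact hX.2.1
  · have := le_commutatorSubmodule (unip_mem_opGroup (self_mem_opSpace hA))
    rwa [unip_val hA.1, add_sub_cancel_left] at this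

/-- The involution and the splitting of an inverse pair. -/
theorem involution_of_inv (h2 : (2 : k) ≠ 0) (hA : IsMinOp G A) (hC : IsMinOp G C) (h : IsInvPair A C) :
    (∃! i : LinearMap.GeneralLinearGroup k M, i ∈ opGroup hA.1 ⊔ opGroup hC.1 ∧ i ≠ 1 ∧ i * i = 1 ∧
      (∀ x ∈ opGroup hA.1 ⊔ opGroup hC.1, i * x = x * i) ∧
      (∀ m ∈ commutatorSubmodule (opGroup hA.1 ⊔ opGroup hC.1), (i : M →ₗ[k] M) m = -m) ∧
      (∀ m ∈ Cfsg.fixedSubmodule (opGroup hA.1 ⊔ opGroup hC.1), (i : M →ₗ[k] M) m = m)) ∧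
    IsCompl (Cfsg.fixedSubmodule (opGroup hA.1 ⊔ opGroup hC.1))
      (commutatorSubmodule (opGroup hA.1 ⊔ opGroup hC.1)) := by
  set H := opGroup hA.1 ⊔ opGroup hC.1 with hH
  set e := A * C + C * A with he
  have hee : e * e = e := h.idem hA.1.1 hC.1.1
  have eA := h.left_fix hA.1.1
  have eC : e * C = C ∧ C * e = C := by rw [he, add_comm]; exact h.symm.left_fix hC.1.1
  have hle : H ≤ nearUnits e := by
    refine sup_le ?_ ?_ <;> intro g hg <;> obtain ⟨X, hX, rfl⟩ := mem_opGroup.1 hg <;>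
      show e * _ = _ ∧ _ * e = _ <;> rw [unip_val hX.1.1, add_sub_cancel_left]
    · exact fix_of_geometry eA.1 eA.2 hX.2.1 hX.2.2
    · exact fix_of_geometry eC.1 eC.2 hX.2.1 hX.2.2
  have hAH : unip A ∈ H := Subgroup.mem_sup_left (unip_mem_opGroup (self_mem_opSpace hA.1))
  have hCH : unip C ∈ H := Subgroup.mem_sup_right (unip_mem_opGroup (self_mem_opSpace hC.1))
  have hfix : Cfsg.fixedSubmodule H = ker e := by
    ext v
    rw [mem_fixedSubmodule, mem_ker]
    constructor
    · intro hv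
      have a := hv _ hAH
      have c := hv _ hCH
      rw [unip_val hA.1.1, LinearMap.add_apply, Module.End.one_apply, add_eq_left] at a
      rw [unip_val hC.1.1, LinearMap.add_apply, Module.End.one_apply, add_eq_left] at c
      rw [he, LinearMap.add_apply, Module.End.mul_apply, Module.End.mul_apply, a, c, map_zero, map_zero, add_zero]
    · intro hv g hg
      have := LinearMap.congr_fun (hle hg).2 v
      rw [Module.End.mul_apply, hv, map_zero, LinearMap.sub_apply, Module.End.one_apply] at this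
      exact sub_eq_zero.1 this.symm
  have hcom : commutatorSubmodule H = range e := by
    apply le_antisymm
    · refine commutatorSubmodule_le fun g hg => ?_
      rw [← (hle hg).1]
      exact range_comp_le_range _ _
    · rintro _ ⟨v, rfl⟩
      rw [he, LinearMap.add_apply]
      refine add_mem (le_commutatorSubmodule hAH ?_) (le_commutatorSubmodule hCH ?_)
      · rw [unip_val hA.1.1, add_sub_cancel_left]; exact ⟨C v, rfl⟩
      · rw [unip_val hC.1.1, add_sub_cancel_left]; exact ⟨A v, rfl⟩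
  have hcompl : IsCompl (ker e) (range e) := by
    constructor
    · rw [disjoint_iff, eq_bot_iff]
      rintro _ ⟨hv, w, rfl⟩
      rw [SetLike.mem_coe, mem_ker, ← Module.End.mul_apply, hee] at hv
      rw [Submodule.mem_bot, hv]
    · rw [codisjoint_iff, eq_top_iff]
      intro v _
      refine Submodule.mem_sup.2 ⟨v - e v, ?_, e v, ⟨v, rfl⟩, sub_add_cancel _ _⟩
      rw [mem_ker, map_sub, ← Module.End.mul_apply, hee, sub_self]
  have hwH : weyl A C ∈ H := mul_mem (mul_mem hAH (inv_mem hCH)) hAH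
  have hz := weyl_sq h hA.1.1 hC.1.1
  rw [hfix, hcom]
  refine ⟨?_, hcompl⟩
  refine ⟨weyl A C * weyl A C, ⟨mul_mem hwH hwH, ?_, ?_, ?_, ?_, ?_⟩, ?_⟩
  · intro h1
    rw [h1, Units.val_one, ← he, sub_sub, eq_comm, sub_eq_self] at hz
    have hsm : (2 : k) • e = 0 := by rw [two_smul]; exact hz
    have he0 : e = 0 := (smul_eq_zero.1 hsm).resolve_left h2
    exact hA.2.1 (by rw [← eA.1, ← he, he0, zero_mul])
  · refine Units.ext ?_
    rw [Units.val_mul, hz, Units.val_one, ← he]
    simp only [sub_mul, mul_sub, one_mul, mul_one, hee]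
    abel
  · intro x hx
    refine Units.ext ?_
    rw [Units.val_mul _ x, Units.val_mul x, hz, ← he]
    obtain ⟨x1, x2⟩ := hle hx
    have hc : e * (x : Module.End k M) = (x : Module.End k M) * e := by
      have := x1.trans x2.symm
      rwa [mul_sub, sub_mul, mul_one, one_mul, sub_left_inj] at this
    simp only [sub_mul, mul_sub, one_mul, mul_one, hc]
  · rintro _ ⟨w, rfl⟩
    rw [hz, ← he, LinearMap.sub_apply, LinearMap.sub_apply, Module.End.one_apply, ← Module.End.mul_apply, hee]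
    abel
  · intro m hm
    rw [hz, ← he, LinearMap.sub_apply, LinearMap.sub_apply, Module.End.one_apply, mem_ker.1 hm, sub_zero, sub_zero]
  · rintro i ⟨-, -, -, -, hi1, hi2⟩
    refine Units.ext (LinearMap.ext fun v => ?_)
    have hv1 : v - e v ∈ ker e := by rw [mem_ker, map_sub, ← Module.End.mul_apply, hee, sub_self]
    have e1 := hi2 _ hv1
    have e2 := hi1 _ ⟨v, rfl⟩
    rw [hz, ← he, LinearMap.sub_apply, LinearMap.sub_apply, Module.End.one_apply]
    rw [map_sub, e2, sub_neg_eq_add] at e1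
    exact eq_sub_of_add_eq e1

theorem sameAction_pair_commute (h2 : (2 : k) ≠ 0) (h3 : Nat.card k ≠ 3) (hA : IsMinOp G A) (hB : IsMinOp G B)
    (hn : IsNilpotent (pairSum A B)) (h0 : bracket A B = 0) : ⁅opGroup hA.1, opGroup hB.1⁆ = ⊥ := by
  rw [eq_bot_iff, Subgroup.commutator_le]
  intro g hg h hh
  obtain ⟨X, hX, rfl⟩ := mem_opGroup.1 hg
  obtain ⟨Y, hY, rfl⟩ := mem_opGroup.1 hh
  rw [Subgroup.mem_bot, commutatorElement_eq_one_iff_mul_comm]
  refine Units.ext ?_
  rw [Units.val_mul, Units.val_mul, unip_val hX.1.1, unip_val hY.1.1]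
  simp only [add_mul, mul_add, one_mul, mul_one, all_commute h2 h3 hA hB hn h0 hX hY]
  abel

/-- In a group generated by abelian `P`, `Q` with `⁅P, Q⁆` inside a central `D`, all commutators lie in `D`. -/
theorem commutator_sup_le {Γ : Type*} [Group Γ] {P Q D : Subgroup Γ} (hP : IsMulCommutative P)
    (hQ : IsMulCommutative Q) (hD : ∀ d ∈ D, ∀ x ∈ P ⊔ Q, d * x = x * d) (hPQ : ⁅P, Q⁆ ≤ D) :
    ⁅P ⊔ Q, P ⊔ Q⁆ ≤ D := by
  have hPP : ∀ p ∈ P, ∀ p' ∈ P, ⁅p, p'⁆ = 1 := fun p hp p' hp' =>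
    commutatorElement_eq_one_iff_mul_comm.2 (congrArg Subtype.val (hP.is_comm.comm ⟨p, hp⟩ ⟨p', hp'⟩))
  have hQQ : ∀ p ∈ Q, ∀ p' ∈ Q, ⁅p, p'⁆ = 1 := fun p hp p' hp' =>
    commutatorElement_eq_one_iff_mul_comm.2 (congrArg Subtype.val (hQ.is_comm.comm ⟨p, hp⟩ ⟨p', hp'⟩))
  have hgen : ∀ x ∈ (P : Set Γ) ∪ Q, ∀ y ∈ (P : Set Γ) ∪ Q, ⁅x, y⁆ ∈ D := by
    rintro x (hx | hx) y (hy | hy)
    · rw [hPP x hx y hy]; exact one_mem D
    · exact hPQ (Subgroup.commutator_mem_commutator hx hy)
    · rw [← commutatorElement_inv]; exact inv_mem (hPQ (Subgroup.commutator_mem_commutator hy hx))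
    · rw [hQQ x hx y hy]; exact one_mem D
  rw [Subgroup.commutator_le]
  have hsup : ∀ {x : Γ}, x ∈ P ⊔ Q ↔ x ∈ Subgroup.closure ((P : Set Γ) ∪ Q) := by
    intro x; rw [Subgroup.closure_union, Subgroup.closure_eq, Subgroup.closure_eq]
  have step : ∀ x ∈ P ⊔ Q, (∀ y ∈ (P : Set Γ) ∪ Q, ⁅x, y⁆ ∈ D) → ∀ y ∈ P ⊔ Q, ⁅x, y⁆ ∈ D := by
    intro x _ h y hy
    rw [hsup] at hy
    induction hy using Subgroup.closure_induction with
    | mem z hz => exact h z hz
    | one => rw [commutatorElement_one_right]; exact one_mem D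
    | mul a b ha hb iha ihb =>
      rw [show ⁅x, a * b⁆ = ⁅x, a⁆ * (a * ⁅x, b⁆ * a⁻¹) by simp only [commutatorElement_def]; group,
        ← hD _ ihb a (hsup.2 ha), mul_inv_cancel_right]
      exact mul_mem iha ihb
    | inv a ha iha =>
      rw [show ⁅x, a⁻¹⁆ = a⁻¹ * ⁅x, a⁆⁻¹ * a by simp only [commutatorElement_def]; group,
        mul_assoc, hD _ (inv_mem iha) a (hsup.2 ha), inv_mul_cancel_left]
      exact inv_mem iha
  intro x hx y hy
  refine step x hx (fun z hz => ?_) y hy
  rw [← commutatorElement_inv]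
  refine inv_mem ?_
  have hzm : z ∈ P ⊔ Q := hsup.2 (Subgroup.subset_closure hz)
  exact step z hzm (hgen z hz) x hx

/-- The units with `(g-1)M ⊆ ker C`, `(g-1) ker C ⊆ range C`, `g = 1` on `range C`. -/
def congrCore (C : Module.End k M) (hCC : C * C = 0) : Subgroup (LinearMap.GeneralLinearGroup k M) :=
  { carrier := {g | (∀ m : M, (g : Module.End k M) m - m ∈ ker C) ∧
      (∀ m ∈ ker C, (g : Module.End k M) m - m ∈ range C) ∧ ∀ m ∈ range C, (g : Module.End k M) m = m}
    one_mem' := ⟨fun m => by simp, fun m _ => by simp, fun m _ => by simp⟩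
    mul_mem' := by
      rintro g h ⟨g1, g2, g3⟩ ⟨h1, h2, h3⟩
      refine ⟨fun m => ?_, fun m hm => ?_, fun m hm => ?_⟩
      · rw [Units.val_mul, Module.End.mul_apply, ← sub_add_sub_cancel _ ((h : Module.End k M) m) m]
        exact add_mem (g1 _) (h1 m)
      · rw [Units.val_mul, Module.End.mul_apply, ← sub_add_sub_cancel _ ((h : Module.End k M) m) m]
        refine add_mem (g2 _ ?_) (h2 m hm)
        rw [← sub_add_cancel ((h : Module.End k M) m) m]
        exact add_mem (range_le_ker_iff.2 hCC (h2 m hm)) hm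
      · rw [Units.val_mul, Module.End.mul_apply, h3 m hm, g3 m hm]
    inv_mem' := by
      rintro g ⟨g1, g2, g3⟩
      have key : ∀ m : M, (g : Module.End k M) (((g⁻¹ : LinearMap.GeneralLinearGroup k M) : Module.End k M) m) = m :=
        fun m => by rw [← Module.End.mul_apply, Units.mul_inv, Module.End.one_apply]
      refine ⟨fun m => ?_, fun m hm => ?_, fun m hm => ?_⟩
      · have := neg_mem (g1 (((g⁻¹ : LinearMap.GeneralLinearGroup k M) : Module.End k M) m))
        rwa [key, neg_sub] at this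
      · have h1 := g1 (((g⁻¹ : LinearMap.GeneralLinearGroup k M) : Module.End k M) m)
        rw [key] at h1
        have h2 := neg_mem (g2 _ (by simpa using sub_mem hm h1))
        rwa [key, neg_sub] at h2
      · have h1 := g3 m hm
        conv_lhs => rw [← h1]
        rw [← Module.End.mul_apply, Units.inv_mul, Module.End.one_apply] }

theorem unip_mem_congrCore {C X : Module.End k M} (hCC : C * C = 0) (hXX : X * X = 0) (h : X * C = 0 ∧ C * X = 0)
    (hmap : (ker C).map X ≤ range C) : unip X ∈ congrCore C hCC := by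
  have e : ∀ m, (unip X : Module.End k M) m - m = X m := fun m => by
    rw [unip_val hXX, LinearMap.add_apply, Module.End.one_apply, add_sub_cancel_left]
  refine ⟨fun m => ?_, fun m hm => ?_, ?_⟩
  · rw [e, mem_ker, ← Module.End.mul_apply, h.2, LinearMap.zero_apply]
  · rw [e]; exact hmap ⟨m, hm, rfl⟩
  · rintro _ ⟨w, rfl⟩
    rw [← sub_eq_zero, e, ← Module.End.mul_apply, h.1, LinearMap.zero_apply]

theorem core_map {A B X : Module.End k M} (h2 : (2 : k) ≠ 0) (h3 : Nat.card k ≠ 3) (hA : IsMinOp G A) (hB : IsMinOp G B)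
    (hn : IsNilpotent (pairSum A B)) (h0 : bracket A B ≠ 0) (hX : X ∈ opSpace hA.1) :
    (ker (bracket A B)).map X ≤ range (bracket A B) := by
  by_cases hX0 : X = 0
  · simp [hX0]
  obtain ⟨t1, t2⟩ := triple_mem h2 h3 hA hB hn (self_mem_opSpace hA.1) (self_mem_opSpace hB.1)
  obtain ⟨-, r1, -, -, r3, r4⟩ := rank_split hA hB t1 t2 h0
  obtain ⟨rX, kX, hXm⟩ := geometry_of_mem hA hX hX0
  obtain ⟨t1', t2'⟩ := triple_mem h2 h3 hA hB hn hX (self_mem_opSpace hB.1)
  obtain ⟨hne', -, -⟩ :=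
    bracket_geometry h2 h3 hA hB hn (self_mem_opSpace hA.1) (self_mem_opSpace hB.1) h0 hX hX0 (self_mem_opSpace hB.1) hB.2.1
  obtain ⟨-, r1', -, -, -, -⟩ := rank_split hXm hB t1' t2' hne'
  rw [r4, r3, r1, ← rX, ← r1']
  refine (Submodule.map_mono inf_le_right).trans ?_
  rw [Submodule.map_sup, sup_le_iff]
  refine ⟨?_, le_sup_of_le_left (le_of_eq (range_comp _ _).symm)⟩
  rintro _ ⟨m, hm, rfl⟩
  rw [mem_ker.1 (hX.2.2 hm)]
  exact zero_mem _

/-- The class two case. -/
theorem class_two_case (hirr : IsIrreducibleFor G) (h2 : (2 : k) ≠ 0) (h3 : Nat.card k ≠ 3) (hA : IsMinOp G A)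
    (hB : IsMinOp G B) (hn : IsNilpotent (pairSum A B)) (h0 : bracket A B ≠ 0) :
    ∃ C, ∃ hC : IsMinOp G C,
      ⁅opGroup hA.1, opGroup hB.1⁆ = opGroup hC.1 ∧
      (∀ c ∈ opGroup hC.1, ∀ x ∈ opGroup hA.1 ⊔ opGroup hB.1, c * x = x * c) ∧
      (∀ a ∈ opGroup hA.1, a ≠ 1 → Subgroup.closure ((fun f : LinearMap.GeneralLinearGroup k M => a * f * a⁻¹ * f⁻¹) ''
        (opGroup hB.1 : Set (LinearMap.GeneralLinearGroup k M))) = opGroup hC.1) ∧
      (∀ b ∈ opGroup hB.1, b ≠ 1 → Subgroup.closure ((fun e : LinearMap.GeneralLinearGroup k M => e * b * e⁻¹ * b⁻¹) ''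
        (opGroup hA.1 : Set (LinearMap.GeneralLinearGroup k M))) = opGroup hC.1) ∧
      ⁅opGroup hA.1 ⊔ opGroup hB.1, opGroup hA.1 ⊔ opGroup hB.1⁆ ≠ ⊥ ∧
      ⁅⁅opGroup hA.1 ⊔ opGroup hB.1, opGroup hA.1 ⊔ opGroup hB.1⁆, opGroup hA.1 ⊔ opGroup hB.1⁆ = ⊥ ∧
      ((opGroup hA.1 ⊔ opGroup hB.1 : Subgroup (LinearMap.GeneralLinearGroup k M)) :
        Set (LinearMap.GeneralLinearGroup k M)) ⊆ quadraticUnipotentCore G (opGroup hC.1) := by
  have zA := self_mem_opSpace hA.1
  have zB := self_mem_opSpace hB.1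
  obtain ⟨tA, tB⟩ := triple_mem h2 h3 hA hB hn zA zB
  obtain ⟨hC, -, -, -, -, -⟩ := rank_split hA hB tA tB h0
  set H := opGroup hA.1 ⊔ opGroup hB.1 with hH
  have hcom : ∀ X ∈ opSpace hA.1, ∀ Y ∈ opSpace hB.1,
      unip X * unip Y * (unip X)⁻¹ * (unip Y)⁻¹ = unip (bracket X Y) := fun X hX Y hY =>
    commutator_unip hX.1.1 hY.1.1 (triple_mem h2 h3 hA hB hn hX hY).1 (triple_mem h2 h3 hA hB hn hX hY).2
  have hcent : ∀ c ∈ opGroup hC.1, ∀ x ∈ H, c * x = x * c := by
    intro c hc
    obtain ⟨D, hD, rfl⟩ := mem_opGroup.1 hc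
    have hgen : ∀ X, X ∈ opSpace hA.1 ∨ X ∈ opSpace hB.1 → X * X = 0 → Commute (unip D) (unip X) := by
      intro X hX hX2
      obtain ⟨e1, e2⟩ := annihilate h2 h3 hA hB hn h0 hC hD hX
      refine Units.ext ?_
      rw [Units.val_mul, Units.val_mul, unip_val hD.1.1, unip_val hX2]
      simp only [add_mul, mul_add, one_mul, mul_one, e1, e2]
      abel
    have hle : H ≤ Subgroup.centralizer {unip D} := by
      refine sup_le ?_ ?_ <;> intro g hg <;> obtain ⟨X, hX, rfl⟩ := mem_opGroup.1 hg <;>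
        rw [Subgroup.mem_centralizer_singleton_iff]
      · exact (hgen X (Or.inl hX) hX.1.1).eq.symm
      · exact (hgen X (Or.inr hX) hX.1.1).eq.symm
    intro x hx
    exact (Subgroup.mem_centralizer_singleton_iff.1 (hle hx)).symm
  have hPQ : ⁅opGroup hA.1, opGroup hB.1⁆ ≤ opGroup hC.1 := by
    rw [Subgroup.commutator_le]
    intro g hg h hh
    obtain ⟨X, hX, rfl⟩ := mem_opGroup.1 hg
    obtain ⟨Y, hY, rfl⟩ := mem_opGroup.1 hh
    rw [commutatorElement_def, hcom X hX Y hY]
    exact unip_mem_opGroup (bracket_mem h2 h3 hA hB hn h0 hC hX hY).1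
  have hcl1 : ∀ a ∈ opGroup hA.1, a ≠ 1 → Subgroup.closure
      ((fun f : LinearMap.GeneralLinearGroup k M => a * f * a⁻¹ * f⁻¹) ''
        (opGroup hB.1 : Set (LinearMap.GeneralLinearGroup k M))) = opGroup hC.1 := by
    intro a ha ha1
    apply le_antisymm
    · rw [Subgroup.closure_le]
      rintro _ ⟨f, hf, rfl⟩
      exact hPQ (Subgroup.commutator_mem_commutator ha hf)
    · intro c hc
      obtain ⟨X, hX, rfl⟩ := mem_opGroup.1 ha
      obtain ⟨D, hD, rfl⟩ := mem_opGroup.1 hc
      have hX0 : X ≠ 0 := fun e => ha1 (by rw [e, unip_zero])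
      obtain ⟨Y, hY, rfl⟩ := exists_bracket_eq hirr h2 h3 hA hB hn h0 hC hX hX0 hD
      exact Subgroup.subset_closure ⟨unip Y, unip_mem_opGroup hY, hcom X hX Y hY⟩
  have hcl2 : ∀ b ∈ opGroup hB.1, b ≠ 1 → Subgroup.closure
      ((fun e : LinearMap.GeneralLinearGroup k M => e * b * e⁻¹ * b⁻¹) ''
        (opGroup hA.1 : Set (LinearMap.GeneralLinearGroup k M))) = opGroup hC.1 := by
    intro b hb hb1
    apply le_antisymm
    · rw [Subgroup.closure_le]
      rintro _ ⟨f, hf, rfl⟩
      exact hPQ (Subgroup.commutator_mem_commutator hf hb)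
    · intro c hc
      obtain ⟨Y, hY, rfl⟩ := mem_opGroup.1 hb
      obtain ⟨D, hD, rfl⟩ := mem_opGroup.1 hc
      have hY0 : Y ≠ 0 := fun e => hb1 (by rw [e, unip_zero])
      have hn' : IsNilpotent (pairSum B A) := pairSum_comm A B ▸ hn
      have h0' : bracket B A ≠ 0 := fun e => h0 (by rw [bracket_swap, e, neg_zero])
      have hC' : IsMinOp G (bracket B A) := (rank_split hB hA tB tA h0').1
      have e : opSpace hC'.1 = opSpace hC.1 :=
        opSpace_eq hC (bracket_swap B A ▸ neg_mem (self_mem_opSpace hC.1)) h0'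
      obtain ⟨X, hX, hXD⟩ := exists_bracket_eq hirr h2 h3 hB hA hn' h0' hC' hY hY0 (e ▸ neg_mem hD)
      refine Subgroup.subset_closure ⟨unip X, unip_mem_opGroup hX, ?_⟩
      show unip X * unip Y * (unip X)⁻¹ * (unip Y)⁻¹ = unip D
      rw [hcom X hX Y hY, bracket_swap, hXD, neg_neg]
  have hne1 : unip A ≠ 1 := fun e => hA.2.1 ((unip_eq_one_iff hA.1.1).1 e)
  have hEF : ⁅opGroup hA.1, opGroup hB.1⁆ = opGroup hC.1 := by
    refine le_antisymm hPQ ?_
    rw [← hcl1 _ (unip_mem_opGroup zA) hne1, Subgroup.closure_le]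
    rintro _ ⟨f, hf, rfl⟩
    exact Subgroup.commutator_mem_commutator (unip_mem_opGroup zA) hf
  have hHH : ⁅H, H⁆ ≤ opGroup hC.1 :=
    commutator_sup_le (isMulCommutative_opGroup hA.1) (isMulCommutative_opGroup hB.1) hcent hPQ
  refine ⟨bracket A B, hC, hEF, hcent, hcl1, hcl2, ?_, ?_, ?_⟩
  · intro hbot
    have : unip (bracket A B) ∈ (⊥ : Subgroup (LinearMap.GeneralLinearGroup k M)) := by
      rw [← hbot]
      refine Subgroup.commutator_mono le_sup_left le_sup_right ?_
      rw [hEF]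
      exact unip_mem_opGroup (self_mem_opSpace hC.1)
    exact h0 ((unip_eq_one_iff hC.1.1).1 this)
  · rw [eq_bot_iff, Subgroup.commutator_le]
    intro c hc x hx
    rw [Subgroup.mem_bot, commutatorElement_eq_one_iff_mul_comm]
    exact hcent c (hHH hc) x hx
  · intro g hg
    rw [SetLike.mem_coe] at hg
    have hG : H ≤ G := sup_le (opGroup_le hA.1) (opGroup_le hB.1)
    have hN : g ∈ Subgroup.normalizer (opGroup hC.1 : Set (LinearMap.GeneralLinearGroup k M)) := by
      rw [Subgroup.mem_normalizer_iff]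
      intro c
      constructor
      · intro hc
        rwa [← hcent c hc g hg, mul_inv_cancel_right]
      · intro hc
        have := hcent _ hc g hg
        rw [inv_mul_cancel_right] at this
        rwa [← mul_left_cancel this] at hc
    rw [quadraticUnipotentCore, Set.mem_ofPred_eq, fixedSubmodule_opGroup hC.1, commutatorSubmodule_opGroup hC.1]
    refine ⟨hG hg, hN, ?_⟩
    have hsub : H ≤ congrCore (bracket A B) hC.1.1 := by
      refine sup_le ?_ ?_ <;> intro h hh <;> obtain ⟨X, hX, rfl⟩ := mem_opGroup.1 hh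
      · exact unip_mem_congrCore _ hX.1.1 (annihilate h2 h3 hA hB hn h0 hC (self_mem_opSpace hC.1) (Or.inl hX))
          (core_map h2 h3 hA hB hn h0 hX)
      · refine unip_mem_congrCore _ hX.1.1 (annihilate h2 h3 hA hB hn h0 hC (self_mem_opSpace hC.1) (Or.inr hX)) ?_
        have := core_map h2 h3 hB hA (pairSum_comm A B ▸ hn) (fun e => h0 (by rw [bracket_swap, e, neg_zero])) hX
        rwa [bracket_swap B A, ker_neg, range_neg] at this
    exact hsub hg

end CfsgLib.QuadPair
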