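import Cfsg.Agent.Lib.QuadPair.Cases
import Cfsg.Agent.Lib.RootSubgroups.Embed
import Cfsg.Agent.Lib.RootSubgroups.RootSet

/-!
The members of `Σ` satisfy the axioms of abstract root subgroups, and every member has a rank one partner.
-/

set_option autoImplicit false

namespace CfsgLib.QuadPair

open Cfsg LinearMap
open scoped commutatorElement

universe u v

variable {k : Type u} [Field k] {M : Type v} [AddCommGroup M] [Module k M] [FiniteDimensional k M]
variable {G : Subgroup (LinearMap.GeneralLinearGroup k M)} {A B : Module.End k M}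

theorem root_le {E : Subgroup (LinearMap.GeneralLinearGroup k M)} (hE : E ∈ quadraticRootSubgroups G) : E ≤ G := by
  obtain ⟨A, hA, rfl⟩ := exists_of_mem_root hE
  exact opGroup_le hA.1

theorem iSup_root_le : (⨆ E ∈ quadraticRootSubgroups G, E) ≤ G := iSup₂_le fun _ hE => root_le hE

theorem root_commutative {E : Subgroup (LinearMap.GeneralLinearGroup k M)} (hE : E ∈ quadraticRootSubgroups G) :
    IsMulCommutative E := by
  obtain ⟨A, hA, rfl⟩ := exists_of_mem_root hE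
  exact isMulCommutative_opGroup hA.1

theorem root_ne_bot {E : Subgroup (LinearMap.GeneralLinearGroup k M)} (hE : E ∈ quadraticRootSubgroups G) :
    E ≠ ⊥ := by
  obtain ⟨A, hA, rfl⟩ := exists_of_mem_root hE
  intro h
  have := unip_mem_opGroup (self_mem_opSpace hA.1)
  rw [h, Subgroup.mem_bot, unip_eq_one_iff hA.1.1] at this
  exact hA.2.1 this

theorem root_conj_mem {E : Subgroup (LinearMap.GeneralLinearGroup k M)} (hE : E ∈ quadraticRootSubgroups G)
    {g : LinearMap.GeneralLinearGroup k M} (hg : g ∈ G) : conjBy E g ∈ quadraticRootSubgroups G := by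
  obtain ⟨A, hA, rfl⟩ := exists_of_mem_root hE
  rw [conjBy_opGroup hA.1 hg]
  exact opGroup_mem_root (hA.conj hg)

theorem pair_trichotomy (hirr : IsIrreducibleFor G) (h2 : (2 : k) ≠ 0) (h3 : Nat.card k ≠ 3)
    {E F : Subgroup (LinearMap.GeneralLinearGroup k M)} (hE : E ∈ quadraticRootSubgroups G)
    (hF : F ∈ quadraticRootSubgroups G) :
    ⁅E, F⁆ = ⊥ ∨ IsSpecialRankOnePair E F ∨ RootCommutatorCase (quadraticRootSubgroups G) E F := by
  obtain ⟨A, hA, rfl⟩ := exists_of_mem_root hE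
  obtain ⟨B, hB, rfl⟩ := exists_of_mem_root hF
  by_cases hn : IsNilpotent (pairSum A B)
  · by_cases h0 : bracket A B = 0
    · exact Or.inl (sameAction_pair_commute h2 h3 hA hB hn h0)
    · obtain ⟨C, hC, e, hcent, c1, c2, -⟩ := class_two_case hirr h2 h3 hA hB hn h0
      refine Or.inr (Or.inr ⟨e ▸ opGroup_mem_root hC, ?_, ?_, ?_⟩) <;> rw [e]
      exacts [hcent, c1, c2]
  · exact Or.inr (Or.inl (exists_special h2 h3 hA hB hn))

theorem isRootSet (hirr : IsIrreducibleFor G) (h2 : (2 : k) ≠ 0) (h3 : Nat.card k ≠ 3) :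
    IsRootSubgroupSet ((fun E : Subgroup (LinearMap.GeneralLinearGroup k M) =>
      E.subgroupOf (⨆ F ∈ quadraticRootSubgroups G, F)) '' quadraticRootSubgroups G) :=
  RootEmbed.isRootSubgroupSet_subgroupOf (fun _ h => root_commutative h) (fun _ h => root_ne_bot h)
    (fun _ h _ hg => root_conj_mem h (iSup_root_le hg))
    (fun _ hE _ hF => (pair_trichotomy hirr h2 h3 hE hF).imp_right (Or.imp_left And.left))

theorem exists_rankOne_partner (hirr : IsIrreducibleFor G) (h2 : (2 : k) ≠ 0) (h3 : Nat.card k ≠ 3)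
    {E : Subgroup (LinearMap.GeneralLinearGroup k M)} (hE : E ∈ quadraticRootSubgroups G) :
    ∃ F ∈ quadraticRootSubgroups G, IsSpecialRankOnePair E F := by
  obtain ⟨A, hA, rfl⟩ := exists_of_mem_root hE
  obtain ⟨R, hR, hn⟩ := exists_not_nilpotent hirr h2 hA
  exact ⟨_, opGroup_mem_root hR, exists_special h2 h3 hA hR hn⟩

theorem not_isolated (hirr : IsIrreducibleFor G) (h2 : (2 : k) ≠ 0) (h3 : Nat.card k ≠ 3)
    {E : Subgroup (LinearMap.GeneralLinearGroup k M)} (hE : E ∈ quadraticRootSubgroups G) :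
    ¬ IsIsolatedIn (FAdj (quadraticRootSubgroups G)) (quadraticRootSubgroups G) E := by
  rintro ⟨-, hiso⟩
  obtain ⟨F, hF, hEF⟩ := exists_rankOne_partner hirr h2 h3 hE
  exact (hiso F).1 ⟨hE, hF, hEF.1⟩

theorem not_nilpotent_of_rankOne (hirr : IsIrreducibleFor G) (h2 : (2 : k) ≠ 0) (h3 : Nat.card k ≠ 3)
    (hA : IsMinOp G A) (hB : IsMinOp G B) (h : IsRankOnePair (opGroup hA.1) (opGroup hB.1)) :
    ¬ IsNilpotent (pairSum A B) := by
  intro hn
  by_cases h0 : bracket A B = 0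
  · exact RankOne.commutator_ne_bot_of_isRankOnePair h (sameAction_pair_commute h2 h3 hA hB hn h0)
  · obtain ⟨C, hC, -, -, -, -, -, n2, -⟩ := class_two_case hirr h2 h3 hA hB hn h0
    exact rankOne_not_nilpotent_sup h ((Subgroup.isNilpotent_iff_lowerCentralSeries _).2 ⟨2, n2⟩)

theorem three_lt_enatCard {K : Type u} [Field K] [Algebra k K] (h2 : (2 : k) ≠ 0) (h3 : Nat.card k ≠ 3) :
    3 < ENat.card K := by
  classical
  obtain ⟨t, ht, ht2⟩ := exists_scalar h2 h3
  have h4 : ({0, 1, -1, t} : Finset k).card = 4 := by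
    have : (1 : k) ≠ -1 := fun e => h2 (by linear_combination e)
    have t1 : t ≠ 1 := fun e => ht2 (by rw [e, one_pow])
    have t2 : t ≠ -1 := fun e => ht2 (by rw [e, neg_one_sq])
    simp [this, t1.symm, t2.symm, ht.symm, one_ne_zero]
  obtain ⟨f⟩ : Nonempty ({x // x ∈ ({0, 1, -1, t} : Finset k)} ↪ K) :=
    ⟨(Function.Embedding.subtype _).trans ⟨algebraMap k K, (algebraMap k K).injective⟩⟩
  have h := ENat.card_le_card_of_injective f.injective
  rw [ENat.card_eq_coe_fintype_card, Fintype.card_coe, h4] at h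
  exact lt_of_lt_of_le (by norm_num) h

theorem exists_sl2_sub (hirr : IsIrreducibleFor G) (h2 : (2 : k) ≠ 0) (h3 : Nat.card k ≠ 3)
    {E F : Subgroup (LinearMap.GeneralLinearGroup k M)} (hE : E ∈ quadraticRootSubgroups G)
    (hF : F ∈ quadraticRootSubgroups G) (h : IsRankOnePair E F) :
    ∃ A₀ B₀ : Subgroup (LinearMap.GeneralLinearGroup k M), A₀ ≤ E ∧ B₀ ≤ F ∧
      ∃ (k₁ : Type u) (_ : Field k₁), 3 < ENat.card k₁ ∧ IsPSL2PairOver k₁ A₀ B₀ := by
  obtain ⟨A, hA, rfl⟩ := exists_of_mem_root hE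
  obtain ⟨B, hB, rfl⟩ := exists_of_mem_root hF
  obtain ⟨K, iK, iA, iF, lam, hlam, hgen, Φ, hinj, -, -, hup, hlo, -⟩ :=
    exists_model hA hB h2 h3 (not_nilpotent_of_rankOne hirr h2 h3 hA hB h)
  have eU : ∀ g ∈ upperUnipotentSL2 K, ∃ x, g = SL2Ring.up x := by
    intro g hg
    induction hg using Subgroup.closure_induction with
    | mem z hz => exact ⟨z.1 0 1, SL2Ring.ext_entries (by simpa using hz.2.1) (by simp) (by simpa using hz.1) (by simpa using hz.2.2)⟩
    | one => exact ⟨0, SL2Ring.up_zero.symm⟩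
    | mul a b _ _ iha ihb => obtain ⟨x, rfl⟩ := iha; obtain ⟨y, rfl⟩ := ihb; exact ⟨x + y, SL2Ring.up_mul x y⟩
    | inv a _ iha => obtain ⟨x, rfl⟩ := iha; exact ⟨-x, SL2Ring.up_inv x⟩
  have eL : ∀ g ∈ lowerUnipotentSL2 K, ∃ x, g = SL2Ring.lo x := by
    intro g hg
    induction hg using Subgroup.closure_induction with
    | mem z hz => exact ⟨z.1 1 0, SL2Ring.ext_entries (by simpa using hz.2.1) (by simpa using hz.1) (by simp) (by simpa using hz.2.2)⟩
    | one => exact ⟨0, SL2Ring.lo_zero.symm⟩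
    | mul a b _ _ iha ihb => obtain ⟨x, rfl⟩ := iha; obtain ⟨y, rfl⟩ := ihb; exact ⟨x + y, SL2Ring.lo_mul x y⟩
    | inv a _ iha => obtain ⟨x, rfl⟩ := iha; exact ⟨-x, SL2Ring.lo_inv x⟩
  have htop : upperUnipotentSL2 K ⊔ lowerUnipotentSL2 K = ⊤ :=
    SL2Ring.eq_top_of_up_lo (fun x => Subgroup.mem_sup_left (Subgroup.subset_closure (by simp)))
      (fun x => Subgroup.mem_sup_right (Subgroup.subset_closure (by simp)))
  refine ⟨(upperUnipotentSL2 K).map Φ, (lowerUnipotentSL2 K).map Φ, ?_, ?_, K, iK, three_lt_enatCard h2 h3,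
    Φ, ?_, ?_, rfl, rfl⟩
  · rintro _ ⟨g, hg, rfl⟩
    obtain ⟨x, rfl⟩ := eU g hg
    obtain ⟨X, hX, e⟩ := hup x
    exact e ▸ unip_mem_opGroup hX
  · rintro _ ⟨g, hg, rfl⟩
    obtain ⟨x, rfl⟩ := eL g hg
    obtain ⟨X, hX, e⟩ := hlo x
    exact e ▸ unip_mem_opGroup hX
  · rw [← Subgroup.map_sup, htop, MonoidHom.range_eq_map]
  · rw [(MonoidHom.ker_eq_bot_iff Φ).2 hinj]
    exact bot_le

end CfsgLib.QuadPair
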