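import Mathlib

/-!
Elementary matrices of `SL₂` over a commutative algebra `R` over a field `k`, and the subgroup generated by
the upper elementary matrices with entries in `k` and the lower ones with entries in `k λ`.
-/

set_option autoImplicit false

namespace CfsgLib.SL2Ring

open Matrix

variable {R : Type*} [CommRing R]

local notation "SL2" => Matrix.SpecialLinearGroup (Fin 2) R

/-- The upper elementary matrix with entry `y`. -/
def up (y : R) : Matrix.SpecialLinearGroup (Fin 2) R := ⟨!![1, y; 0, 1], by simp [Matrix.det_fin_two_of]⟩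

/-- The lower elementary matrix with entry `x`. -/
def lo (x : R) : Matrix.SpecialLinearGroup (Fin 2) R := ⟨!![1, 0; x, 1], by simp [Matrix.det_fin_two_of]⟩

@[simp] theorem up_coe (y : R) : (up y : Matrix (Fin 2) (Fin 2) R) = !![1, y; 0, 1] := rfl

@[simp] theorem lo_coe (x : R) : (lo x : Matrix (Fin 2) (Fin 2) R) = !![1, 0; x, 1] := rfl

theorem up_mul (y z : R) : up y * up z = up (y + z) := by
  apply Subtype.ext; rw [Matrix.SpecialLinearGroup.coe_mul]; simp [Matrix.mul_fin_two, add_comm]

theorem lo_mul (x z : R) : lo x * lo z = lo (x + z) := by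
  apply Subtype.ext; rw [Matrix.SpecialLinearGroup.coe_mul]; simp [Matrix.mul_fin_two]

theorem up_zero : up (0 : R) = 1 := by apply Subtype.ext; simp [Matrix.one_fin_two]

theorem lo_zero : lo (0 : R) = 1 := by apply Subtype.ext; simp [Matrix.one_fin_two]

theorem up_inv (y : R) : (up y)⁻¹ = up (-y) := by
  apply inv_eq_of_mul_eq_one_right
  rw [up_mul, add_neg_cancel, up_zero]

theorem lo_inv (x : R) : (lo x)⁻¹ = lo (-x) := by
  apply inv_eq_of_mul_eq_one_right
  rw [lo_mul, add_neg_cancel, lo_zero]

theorem ext_entries {A B : SL2} (h00 : A.1 0 0 = B.1 0 0) (h01 : A.1 0 1 = B.1 0 1) (h10 : A.1 1 0 = B.1 1 0)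
    (h11 : A.1 1 1 = B.1 1 1) : A = B := by
  apply Subtype.ext
  ext i j
  fin_cases i <;> fin_cases j <;> assumption

/-- An element of `SL₂` with given entries. -/
def mkSL (a b c d : R) (h : a * d - b * c = 1) : Matrix.SpecialLinearGroup (Fin 2) R :=
  ⟨!![a, b; c, d], by rw [Matrix.det_fin_two_of]; exact h⟩

@[simp] theorem mkSL_coe (a b c d : R) (h : a * d - b * c = 1) :
    (mkSL a b c d h : Matrix (Fin 2) (Fin 2) R) = !![a, b; c, d] := rfl

theorem entries_mul (g h : SL2) (i j : Fin 2) : (g * h).1 i j = g.1 i 0 * h.1 0 j + g.1 i 1 * h.1 1 j := by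
  rw [Matrix.SpecialLinearGroup.coe_mul, Matrix.mul_apply, Fin.sum_univ_two]

variable {S : Type*} [CommRing S]

theorem map_up (f : R →+* S) (y : R) : Matrix.SpecialLinearGroup.map f (up y) = up (f y) := by
  apply ext_entries
  · exact map_one f
  · rfl
  · exact map_zero f
  · exact map_one f

theorem map_lo (f : R →+* S) (x : R) : Matrix.SpecialLinearGroup.map f (lo x) = lo (f x) := by
  apply ext_entries
  · exact map_one f
  · exact map_zero f
  · rfl
  · exact map_one f

/-- Conjugation of `SL₂` by the diagonal matrix `(s, 1)`. -/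
def diagConj (s : Rˣ) : SL2 →* SL2 where
  toFun g := mkSL (g.1 0 0) ((s : R) * g.1 0 1) ((↑s⁻¹ : R) * g.1 1 0) (g.1 1 1) (by
    have h := g.2
    rw [Matrix.det_fin_two] at h
    linear_combination h - (g.1 0 1 * g.1 1 0) * s.mul_inv)
  map_one' := by apply ext_entries <;> simp
  map_mul' a b := by
    have := s.mul_inv
    apply ext_entries <;> simp [Matrix.mul_apply, Fin.sum_univ_two] <;> grind

theorem diagConj_up (s : Rˣ) (y : R) : diagConj s (up y) = up ((s : R) * y) := by
  apply ext_entries <;> simp [diagConj]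

theorem diagConj_lo (s : Rˣ) (x : R) : diagConj s (lo x) = lo ((↑s⁻¹ : R) * x) := by
  apply ext_entries <;> simp [diagConj]

/-- Conjugation of `SL₂` by the matrix `(0, 1; l, 0)`. -/
def flipConj (l : Rˣ) : SL2 →* SL2 where
  toFun g := mkSL (g.1 1 1) ((↑l⁻¹ : R) * g.1 1 0) ((l : R) * g.1 0 1) (g.1 0 0) (by
    have h := g.2
    rw [Matrix.det_fin_two] at h
    linear_combination h - (g.1 0 1 * g.1 1 0) * l.mul_inv)
  map_one' := by apply ext_entries <;> simp
  map_mul' a b := by
    have := l.mul_inv
    apply ext_entries <;> simp [Matrix.mul_apply, Fin.sum_univ_two] <;> grind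

theorem flipConj_up (l : Rˣ) (y : R) : flipConj l (up y) = lo ((l : R) * y) := by
  apply ext_entries <;> simp [flipConj]

theorem flipConj_lo (l : Rˣ) (x : R) : flipConj l (lo x) = up ((↑l⁻¹ : R) * x) := by
  apply ext_entries <;> simp [flipConj]

/-! ### The generated subgroup -/

variable (k : Type*) [Field k] [Algebra k R]

/-- The subgroup generated by `up c`, `lo (c λ)`, `c ∈ k`. -/
def pairGp (lam : R) : Subgroup (Matrix.SpecialLinearGroup (Fin 2) R) :=
  Subgroup.closure ({g | ∃ c : k, g = up (algebraMap k R c)} ∪ {g | ∃ c : k, g = lo (algebraMap k R c * lam)})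

variable {k} {lam : R}

theorem up_mem_pairGp (c : k) : up (algebraMap k R c) ∈ pairGp k lam :=
  Subgroup.subset_closure (Or.inl ⟨c, rfl⟩)

theorem lo_mem_pairGp (c : k) : lo (algebraMap k R c * lam) ∈ pairGp k lam :=
  Subgroup.subset_closure (Or.inr ⟨c, rfl⟩)

theorem up_one_mem : up (1 : R) ∈ pairGp k lam := by simpa using up_mem_pairGp (k := k) (lam := lam) 1

theorem lo_lam_mem : lo lam ∈ pairGp k lam := by simpa using lo_mem_pairGp (k := k) (lam := lam) 1

theorem diagConj_mem (c : kˣ) {g : SL2} (hg : g ∈ pairGp k lam) :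
    diagConj (Units.map (algebraMap k R).toMonoidHom c) g ∈ pairGp k lam := by
  have hle : pairGp k lam ≤ (pairGp k lam).comap (diagConj (Units.map (algebraMap k R).toMonoidHom c)) := by
    conv_lhs => rw [pairGp]
    rw [Subgroup.closure_le]
    rintro _ (⟨d, rfl⟩ | ⟨d, rfl⟩) <;> rw [SetLike.mem_coe, Subgroup.mem_comap]
    · rw [diagConj_up]
      simpa using up_mem_pairGp (lam := lam) ((c : k) * d)
    · rw [diagConj_lo, ← mul_assoc]
      simpa using lo_mem_pairGp (lam := lam) ((↑c⁻¹ : k) * d)
  exact hle hg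

theorem flipConj_mem (l : Rˣ) (hl : (l : R) = lam) {g : SL2} (hg : g ∈ pairGp k lam) :
    flipConj l g ∈ pairGp k lam := by
  have hle : pairGp k lam ≤ (pairGp k lam).comap (flipConj l) := by
    conv_lhs => rw [pairGp]
    rw [Subgroup.closure_le]
    rintro _ (⟨d, rfl⟩ | ⟨d, rfl⟩) <;> rw [SetLike.mem_coe, Subgroup.mem_comap]
    · rw [flipConj_up, hl, mul_comm]
      exact lo_mem_pairGp d
    · rw [flipConj_lo, ← hl, mul_comm (algebraMap k R d), ← mul_assoc, Units.inv_mul, one_mul]
      exact up_mem_pairGp d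
  exact hle hg

/-- The entries `y` with `up y` in the generated subgroup. -/
def upEntries (k : Type*) [Field k] [Algebra k R] (lam : R) : Submodule k R where
  carrier := {y | up y ∈ pairGp k lam}
  add_mem' {a b} ha hb := by
    show up (a + b) ∈ pairGp k lam
    rw [← up_mul]; exact mul_mem ha hb
  zero_mem' := by
    show up (0 : R) ∈ pairGp k lam
    rw [up_zero]; exact one_mem _
  smul_mem' c y hy := by
    show up (c • y) ∈ pairGp k lam
    rcases eq_or_ne c 0 with rfl | hc
    · rw [zero_smul, up_zero]; exact one_mem _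
    · have := diagConj_mem (Units.mk0 c hc) hy
      rw [diagConj_up] at this
      simpa [Algebra.smul_def] using this

theorem mem_upEntries {y : R} : y ∈ upEntries k lam ↔ up y ∈ pairGp k lam := Iff.rfl

theorem lo_mul_mem_iff (hlam : IsUnit lam) {y : R} : lo (lam * y) ∈ pairGp k lam ↔ y ∈ upEntries k lam := by
  obtain ⟨l, rfl⟩ := hlam
  constructor
  · intro h
    have := flipConj_mem l rfl h
    rw [flipConj_lo, ← mul_assoc, Units.inv_mul, one_mul] at this
    exact this
  · intro h
    have := flipConj_mem l rfl (mem_upEntries.1 h)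
    rwa [flipConj_up] at this

/-- If `up x` is in the group for all `x`, so is `lo x`. -/
theorem lo_mem_of_upEntries_top (hlam : IsUnit lam) (h : upEntries k lam = ⊤) (x : R) : lo x ∈ pairGp k lam := by
  obtain ⟨l, rfl⟩ := hlam
  have := (lo_mul_mem_iff (k := k) l.isUnit (y := (↑l⁻¹ : R) * x)).2 (h ▸ Submodule.mem_top)
  rwa [← mul_assoc, Units.mul_inv, one_mul] at this

/-- Over an algebra generated by `λ`, a submodule with `1` closed under multiplication by `λ` is everything. -/
theorem eq_top_of_mul_mem (hgen : Algebra.adjoin k ({lam} : Set R) = ⊤) {L : Submodule k R}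
    (h1 : (1 : R) ∈ L) (hmul : ∀ y ∈ L, lam * y ∈ L) : L = ⊤ := by
  rw [eq_top_iff]
  intro x hxtop; clear hxtop
  have hx : x ∈ Algebra.adjoin k ({lam} : Set R) := hgen ▸ Algebra.mem_top
  have : ∀ y ∈ L, x * y ∈ L := by
    induction hx using Algebra.adjoin_induction with
    | mem z hz => rw [Set.mem_singleton_iff.1 hz]; exact hmul
    | algebraMap c => intro y hy; rw [← Algebra.smul_def]; exact L.smul_mem c hy
    | add a b _ _ iha ihb => intro y hy; rw [add_mul]; exact L.add_mem (iha y hy) (ihb y hy)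
    | mul a b _ _ iha ihb => intro y hy; rw [mul_assoc]; exact iha _ (ihb y hy)
  simpa using this 1 h1

/-- The key step: once `up λ⁻¹` is in the group, so is every `up x`. -/
theorem upEntries_eq_top_of_inv_mem (hgen : Algebra.adjoin k ({lam} : Set R) = ⊤) (hlam : IsUnit lam)
    {r : R} (hr : r * lam = 1) (hmem : r ∈ upEntries k lam) : upEntries k lam = ⊤ := by
  refine eq_top_of_mul_mem hgen (mem_upEntries.2 up_one_mem) fun y hy => ?_
  rw [← lo_mul_mem_iff hlam]
  set w := up r * lo (-lam) * up r with hw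
  have hwm : w ∈ pairGp k lam := mul_mem (mul_mem hmem (lo_inv lam ▸ inv_mem lo_lam_mem)) hmem
  have hm := mul_mem (mul_mem hwm (mem_upEntries.1 ((upEntries k lam).neg_mem hy))) (inv_mem hwm)
  have e : w * up (-y) * w⁻¹ = lo (lam * (lam * y)) := by
    rw [mul_inv_eq_iff_eq_mul, hw]
    apply ext_entries <;> simp [Matrix.SpecialLinearGroup.coe_mul] <;> grind
  rwa [e] at hm

end CfsgLib.SL2Ring
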