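import Cfsg.Agent.Lib.QuadPair.SL2Elem

/-!
Over an infinite field `k` the elements `up c`, `lo (c λ)` generate all elementary matrices over `k[λ]`.

The orbit of `(1, 0)` contains the image of the pairs of polynomials with a regular continued fraction; these
form a dense set, which yields upper triangular elements with arbitrary diagonal.
-/

set_option autoImplicit false

namespace CfsgLib.SL2Ring

open Polynomial

/-- One step of the continued fraction reduction of a pair of polynomials of degree at most `n + 1`. -/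
noncomputable def cfNum {S : Type*} [CommRing S] (n : ℕ) (P Q : S[X]) : S[X] :=
  C (Q.coeff (n + 1)) * P - C (P.coeff (n + 1)) * Q

/-- The reduced first component. -/
noncomputable def cfFst {S : Type*} [CommRing S] (n : ℕ) (P Q : S[X]) : S[X] :=
  C ((cfNum n P Q).coeff n) * cfNum n P Q

/-- The reduced second component. -/
noncomputable def cfSnd {S : Type*} [CommRing S] (n : ℕ) (P Q : S[X]) : S[X] :=
  C ((cfNum n P Q).coeff n * Q.coeff (n + 1)) * Q - C (Q.coeff (n + 1) ^ 2) * X * cfNum n P Q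

/-- The product of the leading coefficients met during the reduction. -/
noncomputable def cfDisc {S : Type*} [CommRing S] : ℕ → S[X] → S[X] → S
  | 0, _, _ => 1
  | n + 1, P, Q => Q.coeff (n + 1) * (cfNum n P Q).coeff n * cfDisc n (cfFst n P Q) (cfSnd n P Q)

theorem cfDisc_map {S T : Type*} [CommRing S] [CommRing T] (f : S →+* T) :
    ∀ (n : ℕ) (P Q : S[X]), cfDisc n (P.map f) (Q.map f) = f (cfDisc n P Q)
  | 0, P, Q => by simp [cfDisc]
  | n + 1, P, Q => by
    have h1 : cfNum n (P.map f) (Q.map f) = (cfNum n P Q).map f := by simp [cfNum, coeff_map]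
    have h2 : cfFst n (P.map f) (Q.map f) = (cfFst n P Q).map f := by simp [cfFst, h1, coeff_map]
    have h3 : cfSnd n (P.map f) (Q.map f) = (cfSnd n P Q).map f := by simp [cfSnd, h1, coeff_map]
    simp [cfDisc, h1, h2, h3, coeff_map, cfDisc_map f n]

theorem cfDisc_smul {S : Type*} [CommRing S] :
    ∀ (n : ℕ), ∃ N : ℕ, ∀ (s : S) (P Q : S[X]), cfDisc n (C s * P) (C s * Q) = s ^ N * cfDisc n P Q
  | 0 => ⟨0, fun s P Q => by simp [cfDisc]⟩
  | n + 1 => by
    obtain ⟨N, hN⟩ := cfDisc_smul (S := S) n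
    refine ⟨4 * N + 3, fun s P Q => ?_⟩
    have h1 : cfNum n (C s * P) (C s * Q) = C (s ^ 2) * cfNum n P Q := by
      simp only [cfNum, coeff_C_mul, map_mul, map_pow]; ring
    have h2 : cfFst n (C s * P) (C s * Q) = C (s ^ 4) * cfFst n P Q := by
      simp only [cfFst, h1, coeff_C_mul]; simp only [map_mul, map_pow]; ring
    have h3 : cfSnd n (C s * P) (C s * Q) = C (s ^ 4) * cfSnd n P Q := by
      simp only [cfSnd, h1, coeff_C_mul]; simp only [map_mul, map_pow]; ring
    simp only [cfDisc, h1, h2, h3, hN, coeff_C_mul]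
    ring

variable {k : Type*} [Field k]

/-- There are regular pairs in every degree. -/
theorem exists_regular : ∀ n : ℕ, ∃ P Q : k[X], P.natDegree ≤ n ∧ Q.natDegree ≤ n ∧ P.coeff 0 = 1 ∧
    Q.coeff 0 = 0 ∧ P.coeff n ≠ 0 ∧ cfDisc n P Q ≠ 0
  | 0 => ⟨1, 0, by simp [cfDisc]⟩
  | n + 1 => by
    obtain ⟨P, Q, hP, hQ, hP0, hQ0, hPn, hd⟩ := exists_regular n
    have hXP : (X * P).natDegree ≤ n + 1 := natDegree_mul_le.trans (by rw [natDegree_X]; omega)
    have hQ' : (Q + X * P).natDegree ≤ n + 1 := (natDegree_add_le _ _).trans (max_le (hQ.trans n.le_succ) hXP)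
    refine ⟨P + (Q + X * P), Q + X * P, (natDegree_add_le _ _).trans (max_le (hP.trans n.le_succ) hQ'), hQ',
      by simp [hP0, hQ0], by simp [hQ0], ?_, ?_⟩
    all_goals have ePn : P.coeff (n + 1) = 0 := coeff_eq_zero_of_natDegree_lt (by omega)
    all_goals have eQn : Q.coeff (n + 1) = 0 := coeff_eq_zero_of_natDegree_lt (by omega)
    · simpa [ePn, eQn] using hPn
    · have h1 : cfNum n (P + (Q + X * P)) (Q + X * P) = C (P.coeff n) * P := by
        simp only [cfNum, coeff_add, coeff_X_mul, ePn, eQn, zero_add]; ring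
      have h2 : cfFst n (P + (Q + X * P)) (Q + X * P) = C (P.coeff n ^ 3) * P := by
        simp only [cfFst, h1, coeff_C_mul, map_mul, map_pow]; ring
      have h3 : cfSnd n (P + (Q + X * P)) (Q + X * P) = C (P.coeff n ^ 3) * Q := by
        simp only [cfSnd, h1, coeff_C_mul, coeff_add, coeff_X_mul, eQn, zero_add, map_mul, map_pow]; ring
      obtain ⟨N, hN⟩ := cfDisc_smul (S := k) n
      simp only [cfDisc, h1, h2, h3, hN, coeff_C_mul, coeff_add, coeff_X_mul, eQn, zero_add]
      simp [hPn, hd]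

variable {R : Type*} [CommRing R] [Algebra k R] {lam : R}

local notation "SL2" => Matrix.SpecialLinearGroup (Fin 2) R

/-- Regular pairs lie in the orbit of `(1, 0)`. -/
theorem regular_mem_orbit : ∀ (n : ℕ) (P Q : k[X]), P.natDegree ≤ n → Q.natDegree ≤ n → Q.coeff 0 = 0 →
    cfDisc n P Q ≠ 0 → ∃ g ∈ pairGp k lam, algebraMap k R (P.coeff 0) * g.1 0 0 = aeval lam P ∧
      algebraMap k R (P.coeff 0) * g.1 1 0 = aeval lam Q
  | 0, P, Q, hP, hQ, hQ0, _ => by
    refine ⟨1, one_mem _, ?_, ?_⟩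
    · rw [eq_C_of_natDegree_le_zero hP]; simp
    · rw [eq_C_of_natDegree_le_zero hQ, hQ0]; simp
  | n + 1, P, Q, hP, hQ, hQ0, hd => by
    simp only [cfDisc, ne_eq, mul_eq_zero, not_or] at hd
    obtain ⟨⟨hq, ha⟩, hd⟩ := hd
    set q := Q.coeff (n + 1)
    set p := P.coeff (n + 1)
    set a := (cfNum n P Q).coeff n
    have hA : (cfNum n P Q).natDegree ≤ n := by
      refine natDegree_le_iff_coeff_eq_zero.2 fun j hj => ?_
      rcases Nat.lt_or_ge (n + 1) j with h | h
      · simp [cfNum, coeff_eq_zero_of_natDegree_lt (hP.trans_lt h), coeff_eq_zero_of_natDegree_lt (hQ.trans_lt h)]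
      · obtain rfl : j = n + 1 := by omega
        simp [cfNum, mul_comm]
    have hP' : (cfFst n P Q).natDegree ≤ n := (natDegree_C_mul_le _ _).trans hA
    have hQ' : (cfSnd n P Q).natDegree ≤ n := by
      refine natDegree_le_iff_coeff_eq_zero.2 fun j hj => ?_
      rcases Nat.lt_or_ge (n + 1) j with h | h
      · obtain ⟨i, rfl⟩ : ∃ i, j = i + 1 := ⟨j - 1, by omega⟩
        simp [cfSnd, mul_assoc, ← map_pow, coeff_eq_zero_of_natDegree_lt (hQ.trans_lt h),
          coeff_eq_zero_of_natDegree_lt (hA.trans_lt (show n < i by omega))]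
      · obtain rfl : j = n + 1 := by omega
        simp only [cfSnd, coeff_sub, coeff_C_mul, mul_assoc, coeff_X_mul]
        ring
    have hQ0' : (cfSnd n P Q).coeff 0 = 0 := by simp [cfSnd, hQ0, mul_assoc]
    obtain ⟨u, hu, hu0, hu1⟩ := regular_mem_orbit n _ _ hP' hQ' hQ0' hd
    refine ⟨up (algebraMap k R (p / q)) * (lo (algebraMap k R (q ^ 2 / a) * lam) * u),
      mul_mem (up_mem_pairGp _) (mul_mem (lo_mem_pairGp _) hu), ?_, ?_⟩
    all_goals
      have hc : (cfFst n P Q).coeff 0 = a * q * P.coeff 0 := by simp [cfFst, cfNum, hQ0, a, q, mul_assoc]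
      rw [hc, map_mul] at hu0 hu1
      have e0 : aeval lam (cfNum n P Q) = algebraMap k R q * aeval lam P - algebraMap k R p * aeval lam Q := by
        simp [cfNum, p, q]
      simp only [cfFst, cfSnd, map_mul, map_sub, map_pow, aeval_C, aeval_X, e0] at hu0 hu1
      have i1 : algebraMap k R (q ^ 2 / a) * algebraMap k R a = algebraMap k R q ^ 2 := by
        rw [← map_mul, ← map_pow, div_mul_cancel₀ _ ha]
      have i2 : algebraMap k R (p / q) * algebraMap k R q = algebraMap k R p := by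
        rw [← map_mul, div_mul_cancel₀ _ hq]
      have hunit : IsUnit (algebraMap k R (a * q)) := (IsUnit.mk0 _ (mul_ne_zero ha hq)).map _
      refine hunit.mul_left_cancel ?_
      simp only [entries_mul, up_coe, lo_coe, map_mul, Matrix.of_apply, Matrix.cons_val', Matrix.cons_val_zero,
        Matrix.cons_val_one, Matrix.empty_val', Matrix.cons_val_fin_one]
      grind

/-- Over an infinite field, two non-zero discriminants can be achieved on an affine line simultaneously. -/
theorem exists_common [Infinite k] (n : ℕ) (P P' Q Q' : k[X] × k[X]) (h : cfDisc n P.1 Q.1 ≠ 0)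
    (h' : cfDisc n P'.2 Q'.2 ≠ 0) :
    ∃ t : k, cfDisc n (P.1 + C t * (P'.1 - P.1)) (Q.1 + C t * (Q'.1 - Q.1)) ≠ 0 ∧
      cfDisc n (P.2 + C t * (P'.2 - P.2)) (Q.2 + C t * (Q'.2 - Q.2)) ≠ 0 := by
  let L : k[X] → k[X] → k[X][X] := fun A B => A.map C + C X * (B - A).map C
  have hL : ∀ (t : k) (A B : k[X]), (L A B).map (evalRingHom t) = A + C t * (B - A) := by
    intro t A B
    have hid : (evalRingHom t).comp (C : k →+* k[X]) = RingHom.id k := RingHom.ext fun x => by simp
    simp [L, Polynomial.map_map, hid]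
  set F := cfDisc n (L P.1 P'.1) (L Q.1 Q'.1) with hF
  set F' := cfDisc n (L P.2 P'.2) (L Q.2 Q'.2) with hF'
  have hne : F * F' ≠ 0 := by
    refine mul_ne_zero (fun e => h ?_) (fun e => h' ?_)
    · have := cfDisc_map (evalRingHom (0 : k)) n (L P.1 P'.1) (L Q.1 Q'.1)
      rw [← hF, e, map_zero, hL, hL] at this
      simpa using this
    · have := cfDisc_map (evalRingHom (1 : k)) n (L P.2 P'.2) (L Q.2 Q'.2)
      rw [← hF', e, map_zero, hL, hL] at this
      simpa using this
  obtain ⟨t, ht⟩ : ∃ t : k, (F * F').eval t ≠ 0 := by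
    by_contra hc
    push Not at hc
    exact hne (Polynomial.funext fun r => by rw [hc r, eval_zero])
  rw [eval_mul, mul_ne_zero_iff] at ht
  refine ⟨t, ?_, ?_⟩
  · have := cfDisc_map (evalRingHom t) n (L P.1 P'.1) (L Q.1 Q'.1)
    rw [← hF, hL, hL] at this
    rw [this]
    exact ht.1
  · have := cfDisc_map (evalRingHom t) n (L P.2 P'.2) (L Q.2 Q'.2)
    rw [← hF', hL, hL] at this
    rw [this]
    exact ht.2

variable [Module.Finite k R]

/-- Over an infinite field all upper elementary matrices are generated. -/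
theorem upEntries_eq_top_of_infinite [Infinite k] [Nontrivial R] (hlam : IsUnit lam)
    (hgen : Algebra.adjoin k ({lam} : Set R) = ⊤) (h2 : (2 : k) ≠ 0) : upEntries k lam = ⊤ := by
  obtain ⟨l, rfl⟩ := hlam
  set n := (minpoly k (l : R)).natDegree with hn
  have hmonic := minpoly.monic (Algebra.IsIntegral.isIntegral (R := k) (l : R))
  have hsurj : ∀ x : R, ∃ A : k[X], A.natDegree ≤ n - 1 ∧ aeval (l : R) A = x := by
    intro x
    obtain ⟨A, rfl⟩ : ∃ A : k[X], aeval (l : R) A = x := by
      have hx : x ∈ Algebra.adjoin k ({(l : R)} : Set R) := hgen ▸ Algebra.mem_top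
      rwa [Algebra.adjoin_singleton_eq_range_aeval] at hx
    refine ⟨A %ₘ minpoly k (l : R), ?_, Polynomial.aeval_modByMonic_eq_self_of_root (minpoly.aeval k _)⟩
    have := natDegree_modByMonic_lt A hmonic (minpoly.ne_one k (l : R))
    omega
  have hn1 : 1 ≤ n := minpoly.natDegree_pos (Algebra.IsIntegral.isIntegral (R := k) (l : R))
  -- pairs in normal form with prescribed value
  have hpairs : ∀ x y : R, ∃ P Q : k[X], P.natDegree ≤ n ∧ Q.natDegree ≤ n ∧ P.coeff 0 = 1 ∧ Q.coeff 0 = 0 ∧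
      aeval (l : R) P = x ∧ aeval (l : R) Q = y := by
    intro x y
    obtain ⟨A, hA, hAx⟩ := hsurj ((↑l⁻¹ : R) * (x - 1))
    obtain ⟨B, hB, hBy⟩ := hsurj ((↑l⁻¹ : R) * y)
    have hX : ∀ A : k[X], A.natDegree ≤ n - 1 → (X * A).natDegree ≤ n := fun A hA =>
      natDegree_mul_le.trans (by rw [natDegree_X]; omega)
    refine ⟨1 + X * A, X * B, (natDegree_add_le _ _).trans (max_le (by simp) (hX A hA)), hX B hB, by simp,
      by simp, ?_, ?_⟩
    · simp [hAx]
    · simp [hBy]
  obtain ⟨P₁, Q₁, hP₁, hQ₁, hP₁0, hQ₁0, -, hd₁⟩ := exists_regular (k := k) n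
  -- elements moving `(1, 0)` to `(0, t)` up to the line
  have horb : ∀ t : Rˣ, ∃ h ∈ pairGp k (l : R), h.1 1 1 = 0 ∧ h.1 1 0 = -(t : R) := by
    intro t
    obtain ⟨P₂, Q₂, hP₂, hQ₂, hP₂0, hQ₂0, e₂P, e₂Q⟩ :=
      hpairs ((↑t⁻¹ : R) * aeval (l : R) Q₁) ((l : R) * ((↑t⁻¹ : R) * aeval (l : R) P₁))
    obtain ⟨P₃, Q₃, hP₃, hQ₃, hP₃0, hQ₃0, e₃P, e₃Q⟩ :=
      hpairs ((t : R) * ((↑l⁻¹ : R) * aeval (l : R) Q₁)) ((t : R) * aeval (l : R) P₁)
    obtain ⟨s, hs, hs'⟩ := exists_common n (P₁, P₂) (P₃, P₁) (Q₁, Q₂) (Q₃, Q₁) hd₁ hd₁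
    have hdeg : ∀ A B : k[X], A.natDegree ≤ n → B.natDegree ≤ n → (A + C s * (B - A)).natDegree ≤ n :=
      fun A B hA hB => (natDegree_add_le _ _).trans (max_le hA ((natDegree_C_mul_le _ _).trans
        ((natDegree_sub_le _ _).trans (max_le hB hA))))
    obtain ⟨g, hg, hg0, hg1⟩ := regular_mem_orbit (lam := (l : R)) n _ _ (hdeg _ _ hP₁ hP₃) (hdeg _ _ hQ₁ hQ₃)
      (by simp [hQ₁0, hQ₃0]) hs
    obtain ⟨g', hg', hg'0, hg'1⟩ := regular_mem_orbit (lam := (l : R)) n _ _ (hdeg _ _ hP₂ hP₁) (hdeg _ _ hQ₂ hQ₁)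
      (by simp [hQ₂0, hQ₁0]) hs'
    simp only [coeff_add, coeff_C_mul, coeff_sub, hP₁0, hP₂0, hP₃0, sub_self, mul_zero, add_zero, map_one,
      one_mul] at hg0 hg1 hg'0 hg'1
    simp only [map_add, map_mul, map_sub, aeval_C, e₂P, e₂Q, e₃P, e₃Q] at hg0 hg1 hg'0 hg'1
    refine ⟨g⁻¹ * flipConj l g', mul_mem (inv_mem hg) (flipConj_mem l rfl hg'), ?_⟩
    have hgv : ∀ i : Fin 2, (flipConj l g').1 i 1 * (t : R) = g.1 i 0 := by
      have := l.mul_inv
      have := t.mul_inv
      intro i
      fin_cases i <;> simp [flipConj] <;> grind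
    have hdet := g.2
    have hdet' := (flipConj l g').2
    rw [Matrix.det_fin_two] at hdet hdet'
    have h0 := hgv 0
    have h1 := hgv 1
    simp only [entries_mul, Matrix.SpecialLinearGroup.coe_inv, Matrix.adjugate_fin_two, Matrix.of_apply,
      Matrix.cons_val', Matrix.cons_val_zero, Matrix.cons_val_one, Matrix.empty_val', Matrix.cons_val_fin_one]
    constructor <;> grind
  -- upper triangular elements with arbitrary diagonal
  have hsq : ∀ u : Rˣ, ∀ y ∈ upEntries k (l : R), (u : R) * (u : R) * y ∈ upEntries k (l : R) := by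
    intro u y hy
    obtain ⟨h, hh, hh0, hh1⟩ := horb u⁻¹
    obtain ⟨h', hh', hh'0, hh'1⟩ := horb 1
    set w := h * h'⁻¹ with hw
    have hwm : w ∈ pairGp k (l : R) := mul_mem hh (inv_mem hh')
    have hm := mul_mem (mul_mem hwm (mem_upEntries.1 hy)) (inv_mem hwm)
    have hdet := h.2
    have hdet' := h'.2
    rw [Matrix.det_fin_two] at hdet hdet'
    simp only [Units.val_one] at hh'1
    have hu := u.mul_inv
    have hw00 : w.1 0 0 = (u : R) := by
      simp [hw, entries_mul, Matrix.SpecialLinearGroup.coe_inv, Matrix.adjugate_fin_two]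
      grind
    have hw10 : w.1 1 0 = 0 := by
      simp [hw, entries_mul, Matrix.SpecialLinearGroup.coe_inv, Matrix.adjugate_fin_two]
      grind
    have e : w * up y * w⁻¹ = up ((u : R) * (u : R) * y) := by
      have hdw := w.2
      rw [Matrix.det_fin_two] at hdw
      apply ext_entries <;>
        simp [entries_mul, Matrix.SpecialLinearGroup.coe_inv, Matrix.adjugate_fin_two] <;> grind
    rwa [e] at hm
  rw [eq_top_iff]
  intro x hxtop
  clear hxtop
  -- every element is a combination of squares of units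
  have hfin : ((spectrum k x) ∪ (fun c : k => -c) '' (spectrum k x) ∪ {0}).Finite := by
    have hf : (spectrum k x).Finite := by
      have hsub : spectrum k x ⊆ {c | (minpoly k x).IsRoot c} := by
        intro c hc
        have h := spectrum.subset_polynomial_aeval x (minpoly k x) ⟨c, hc, rfl⟩
        rw [minpoly.aeval, spectrum.zero_eq] at h
        exact h
      exact (finite_setOf_isRoot (minpoly.ne_zero (Algebra.IsIntegral.isIntegral (R := k) x))).subset hsub
    exact (hf.union (hf.image _)).union (Set.finite_singleton 0)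
  obtain ⟨c, hc⟩ := hfin.exists_notMem
  simp only [Set.mem_union, Set.mem_image, Set.mem_singleton_iff, not_or, not_exists, not_and] at hc
  obtain ⟨⟨hc1, hc2⟩, hc0⟩ := hc
  have u1 : IsUnit (x + algebraMap k R c) := by
    have : -c ∉ spectrum k x := fun h => hc2 (-c) h (neg_neg c)
    rw [spectrum.notMem_iff] at this
    have h := this.neg
    simpa [neg_sub, sub_neg_eq_add] using h
  have u2 : IsUnit (x - algebraMap k R c) := by
    rw [spectrum.notMem_iff] at hc1
    simpa [neg_sub] using hc1.neg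
  have h1 := (upEntries k (l : R)).smul_mem ((4 * c)⁻¹)
    ((upEntries k (l : R)).sub_mem (hsq u1.unit 1 up_one_mem) (hsq u2.unit 1 up_one_mem))
  have h4 : (4 * c : k) ≠ 0 := mul_ne_zero (by rw [show (4 : k) = 2 * 2 by norm_num]; exact mul_ne_zero h2 h2) hc0
  convert h1 using 1
  rw [IsUnit.unit_spec, IsUnit.unit_spec, mul_one, mul_one, show (x + algebraMap k R c) * (x + algebraMap k R c) -
    (x - algebraMap k R c) * (x - algebraMap k R c) = algebraMap k R (4 * c) * x by rw [map_mul, map_ofNat]; ring,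
    ← Algebra.smul_def, smul_smul, inv_mul_cancel₀ h4, one_smul]

end CfsgLib.SL2Ring
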