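import Cfsg.Agent.Lib.QuadPair.SL2Finite
import Cfsg.Agent.Lib.QuadPair.SL2Infinite

/-!
The elements `up c`, `lo (c λ)`, `c ∈ k`, generate all elementary matrices over `k[λ]` (`char k ≠ 2`, `|k| ≠ 3`).
-/

set_option autoImplicit false

namespace CfsgLib.SL2Ring

universe u v

variable {k : Type v} [Field k] {R : Type u} [CommRing R] [Algebra k R] [Module.Finite k R] {lam : R}

theorem upEntries_eq_top (h2 : (2 : k) ≠ 0) (h3 : Nat.card k ≠ 3) (hlam : IsUnit lam)
    (hgen : Algebra.adjoin k ({lam} : Set R) = ⊤) : upEntries k lam = ⊤ := by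
  rcases finite_or_infinite k with hk | hk
  · haveI : Finite R := Module.finite_of_finite k
    exact upEntries_eq_top_of_finite k h2 h3 _ R lam rfl hlam hgen
  · rcases subsingleton_or_nontrivial R with hs | hnt
    · exact eq_top_iff.2 fun x _ => by rw [Subsingleton.elim x 0]; exact zero_mem _
    exact upEntries_eq_top_of_infinite hlam hgen h2

theorem up_mem (h2 : (2 : k) ≠ 0) (h3 : Nat.card k ≠ 3) (hlam : IsUnit lam)
    (hgen : Algebra.adjoin k ({lam} : Set R) = ⊤) (x : R) : up x ∈ pairGp k lam :=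
  mem_upEntries.1 (upEntries_eq_top h2 h3 hlam hgen ▸ Submodule.mem_top)

theorem lo_mem (h2 : (2 : k) ≠ 0) (h3 : Nat.card k ≠ 3) (hlam : IsUnit lam)
    (hgen : Algebra.adjoin k ({lam} : Set R) = ⊤) (x : R) : lo x ∈ pairGp k lam :=
  lo_mem_of_upEntries_top hlam (upEntries_eq_top h2 h3 hlam hgen) x

/-- When `k[λ]` is a field the pair generates all of `SL₂`. -/
theorem pairGp_eq_top {F : Type u} [Field F] [Algebra k F] [Module.Finite k F] {l : F} (h2 : (2 : k) ≠ 0)
    (h3 : Nat.card k ≠ 3) (hl : l ≠ 0) (hgen : Algebra.adjoin k ({l} : Set F) = ⊤) : pairGp k l = ⊤ :=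
  eq_top_of_up_lo (fun x => up_mem h2 h3 hl.isUnit hgen x) (fun x => lo_mem h2 h3 hl.isUnit hgen x)

theorem two_ne_zero_of_ringChar {F : Type*} [Field F] (h : ringChar F ≠ 2) : (2 : F) ≠ 0 := by
  intro e
  apply h
  have hd : ringChar F ∣ 2 := (ringChar.spec F 2).1 (by exact_mod_cast e)
  rcases (Nat.dvd_prime Nat.prime_two).1 hd with h1 | h1
  · exact absurd h1 CharP.ringChar_ne_one
  · exact h1

end CfsgLib.SL2Ring
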