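import Cfsg.Agent.Lib.QuadPair.Corner
import Cfsg.Agent.Lib.QuadPair.SL2Gen

/-!
Two minimal operators `A`, `B` with non-nilpotent `AB + BA` generate `SL₂(K)`, `K = k(λ)` a finite extension.
-/

set_option autoImplicit false

namespace CfsgLib.QuadPair

open Cfsg LinearMap CfsgLib.SL2Ring

universe u v w

variable {k : Type u} [Field k] {M : Type v} [AddCommGroup M] [Module k M]
variable {G : Subgroup (LinearMap.GeneralLinearGroup k M)} {A B : Module.End k M}

/-- The units fixing an idempotent `e` on both sides. -/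
def fixUnits (e : Module.End k M) : Subgroup (LinearMap.GeneralLinearGroup k M) where
  carrier := {g | (g : Module.End k M) * e = e ∧ e * (g : Module.End k M) = e}
  one_mem' := by constructor <;> simp
  mul_mem' := by
    rintro g h ⟨g1, g2⟩ ⟨h1, h2⟩
    constructor
    · rw [Units.val_mul, mul_assoc, h1, g1]
    · rw [Units.val_mul, ← mul_assoc, g2, h2]
  inv_mem' := by
    rintro g ⟨g1, g2⟩
    constructor
    · conv_lhs => rw [← g1, ← mul_assoc, Units.inv_mul, one_mul]
    · conv_lhs => rw [← g2, mul_assoc, Units.mul_inv, mul_one]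

theorem exists_scalar (h2 : (2 : k) ≠ 0) (h3 : Nat.card k ≠ 3) : ∃ t : k, t ≠ 0 ∧ t ^ 2 ≠ 1 := by
  classical
  by_contra hc
  push Not at hc
  have hsub : (Set.univ : Set k) ⊆ {0, 1, -1} := fun y _ => by
    by_cases hy : y = 0
    · exact Or.inl hy
    · exact Or.inr (sq_eq_one_iff.1 (hc y hy))
  haveI : Finite k := Set.finite_univ_iff.1 ((Set.toFinite _).subset hsub)
  have hne : (1 : k) ≠ -1 := fun e' => h2 (by linear_combination e')
  have h33 : ({0, 1, -1} : Set k).ncard = 3 := by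
    rw [Set.ncard_insert_of_notMem (by simp [eq_comm]) (Set.toFinite _), Set.ncard_pair hne]
  refine h3 (le_antisymm ?_ ?_)
  · have := Set.ncard_le_ncard hsub (Set.toFinite _)
    rwa [Set.ncard_univ, h33] at this
  · have := Set.ncard_le_ncard (Set.subset_univ ({0, 1, -1} : Set k)) (Set.toFinite _)
    rwa [Set.ncard_univ, h33] at this

theorem exists_torus {R : Type w} [CommRing R] [Algebra k R] [Module.Finite k R] {r : R} (h2 : (2 : k) ≠ 0)
    (h3 : Nat.card k ≠ 3) (hr : IsUnit r) (hgen : Algebra.adjoin k ({r} : Set R) = ⊤) {t : k} (ht : t ≠ 0) :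
    ∃ D ∈ pairGp k r, (∀ x, D * up x * D⁻¹ * (up x)⁻¹ = up (algebraMap k R (t ^ 2 - 1) * x)) ∧
      (∀ x, D * lo x * D⁻¹ * (lo x)⁻¹ = lo (algebraMap k R (t⁻¹ ^ 2 - 1) * x)) := by
  have hupm : ∀ x, up x ∈ pairGp k r := fun x => up_mem h2 h3 hr hgen x
  have hlom : ∀ x, lo x ∈ pairGp k r := fun x => lo_mem h2 h3 hr hgen x
  set T := algebraMap k R t with hT
  set Ti := algebraMap k R t⁻¹ with hTi
  have hTT : T * Ti = 1 := by rw [← map_mul, mul_inv_cancel₀ ht, map_one]
  refine ⟨up T * lo (-Ti) * up T * (up (-1) * lo 1 * up (-1)),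
    mul_mem (mul_mem (mul_mem (hupm _) (hlom _)) (hupm _)) (mul_mem (mul_mem (hupm _) (hlom _)) (hupm _)), ?_⟩
  have hDD : (up T * lo (-Ti) * up T * (up (-1) * lo 1 * up (-1))).1 = !![T, 0; 0, Ti] := by
    ext i j'
    fin_cases i <;> fin_cases j' <;> simp [entries_mul] <;> grind
  generalize up T * lo (-Ti) * up T * (up (-1) * lo 1 * up (-1)) = D at hDD ⊢
  refine ⟨fun x => ?_, fun x => ?_⟩ <;>
    rw [map_sub, map_pow, map_one] <;>
    apply ext_entries <;>
    simp [entries_mul, hDD, Matrix.SpecialLinearGroup.coe_inv, Matrix.adjugate_fin_two, ← hT, ← hTi] <;> grind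

theorem rep_commute_fix {R : Type w} [CommRing R] [Algebra k R] (P : PairCorner A B R) (hA : A * A = 0)
    (hB : B * B = 0) (g : Matrix.SpecialLinearGroup (Fin 2) R) (h : fixUnits (P.j 1)) :
    P.rep hA hB g * (h : LinearMap.GeneralLinearGroup k M) = (h : LinearMap.GeneralLinearGroup k M) * P.rep hA hB g := by
  obtain ⟨h1, h2⟩ := h.2
  obtain ⟨g1, g2⟩ := P.rep_fix hA hB g
  refine Units.ext ?_
  rw [Units.val_mul, Units.val_mul]
  generalize (P.rep hA hB g : Module.End k M) = X at g1 g2 ⊢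
  generalize ((h : LinearMap.GeneralLinearGroup k M) : Module.End k M) = T at h1 h2 ⊢
  generalize P.j 1 = e at g1 g2 h1 h2
  have f1 : X * e = X - (1 - e) := by rw [← g1, mul_sub, mul_one]; abel
  have f2 : e * X = X - (1 - e) := by rw [← g2, sub_mul, one_mul]; abel
  have e3 : (1 - e) * T = T * (1 - e) := by rw [sub_mul, mul_sub, h1, h2, one_mul, mul_one]
  calc X * T = (X - (1 - e)) * T + (1 - e) * T := by rw [← add_mul, sub_add_cancel]
    _ = T * (X - (1 - e)) + T * (1 - e) := by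
      rw [e3]
      congr 1
      conv_lhs => rw [← f1, mul_assoc, h2, f1]
      conv_rhs => rw [← f2, ← mul_assoc, h1, f2]
    _ = T * X := by rw [← mul_add, sub_add_cancel]

variable {R : Type w} [CommRing R] [Algebra k R]

theorem cut_sq {X e : Module.End k M} (hX : X * X = 0) (h : Commute e X) : X * (1 - e) * (X * (1 - e)) = 0 := by
  rw [mul_assoc, ← mul_assoc (1 - e), ((Commute.one_left X).sub_left h).eq, mul_assoc X (1 - e), ← mul_assoc X X, hX,
    zero_mul]

theorem cut_fix {X e : Module.End k M} (hX : X * X = 0) (h : Commute e X) (hee : e * e = e) (c : k) :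
    unip (c • (X * (1 - e))) ∈ fixUnits e := by
  have e0 : (1 - e) * e = 0 := by rw [sub_mul, one_mul, hee, sub_self]
  have e0' : e * (1 - e) = 0 := by rw [mul_sub, mul_one, hee, sub_self]
  constructor <;> rw [unip_val (smul_sq (cut_sq hX h) c)]
  · rw [add_mul, one_mul, smul_mul_assoc, mul_assoc, e0, mul_zero, smul_zero, add_zero]
  · rw [mul_add, mul_one, mul_smul_comm, ← ((Commute.one_left X).sub_left h).eq, ← mul_assoc, e0', zero_mul,
      smul_zero, add_zero]

theorem rep_mul_cut (P : PairCorner A B R) (hA : A * A = 0) (hB : B * B = 0) (c : k) :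
    P.rep hA hB (up (algebraMap k R c)) * unip (c • (A * (1 - P.j 1))) = unip (c • A) ∧
      P.rep hA hB (lo (algebraMap k R c * P.r)) * unip (c • (B * (1 - P.j 1))) = unip (c • B) := by
  have hjc : ∀ x : R, P.j (algebraMap k R c * x) = c • P.j x := fun x => by rw [← Algebra.smul_def, map_smul]
  have key : ∀ X : Module.End k M, X * X = 0 → Commute (P.j 1) X →
      (1 + c • (X * P.j 1)) * (1 + c • (X * (1 - P.j 1))) = 1 + c • X := by
    intro X hX hc
    rw [mul_add, mul_one, add_mul, one_mul, smul_mul_smul_comm, mul_assoc X, ← mul_assoc (P.j 1), hc.eq,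
      mul_assoc X (P.j 1), ← mul_assoc X X, hX, zero_mul, smul_zero, add_zero, mul_sub, mul_one, smul_sub]
    abel
  constructor
  · refine Units.ext ?_
    rw [Units.val_mul, P.rep_up, unip_val (smul_sq (cut_sq hA (P.commA 1)) c), unip_val (smul_sq hA c),
      show algebraMap k R c = algebraMap k R c * 1 from (mul_one _).symm, hjc, mul_smul_comm]
    exact key A hA (P.commA 1)
  · refine Units.ext ?_
    rw [Units.val_mul, P.rep_lo, unip_val (smul_sq (cut_sq hB (P.commB 1)) c), unip_val (smul_sq hB c),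
      show P.ri * (algebraMap k R c * P.r) = algebraMap k R c * 1 by rw [mul_left_comm, P.jri], hjc, mul_smul_comm]
    exact key B hB (P.commB 1)

/-- The elementary elements of the corner lie in `G`. -/
theorem corner_mem [Module.Finite k R] (P : PairCorner A B R) (hA : A ∈ opSet G) (hB : B ∈ opSet G)
    (h2 : (2 : k) ≠ 0) (h3 : Nat.card k ≠ 3) (x : R) : A * P.j x ∈ opSet G ∧ B * P.j x ∈ opSet G := by
  have hee : P.j 1 * P.j 1 = P.j 1 := P.j_mul_one 1
  have heA := P.commA 1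
  have heB := P.commB 1
  set A0 := A * (1 - P.j 1) with hA0
  set B0 := B * (1 - P.j 1) with hB0
  let N0 := fixUnits (P.j 1)
  let Θ : Matrix.SpecialLinearGroup (Fin 2) R × N0 →* LinearMap.GeneralLinearGroup k M :=
    MonoidHom.noncommCoprod (P.rep hA.1 hB.1) N0.subtype fun g h => rep_commute_fix P hA.1 hB.1 g h
  let H : Subgroup (Matrix.SpecialLinearGroup (Fin 2) R × N0) := Subgroup.closure
    ({p | ∃ c : k, p = (up (algebraMap k R c), ⟨_, cut_fix hA.1 heA hee c⟩)} ∪
      {p | ∃ c : k, p = (lo (algebraMap k R c * P.r), ⟨_, cut_fix hB.1 heB hee c⟩)})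
  have hHG : H ≤ G.comap Θ := by
    rw [Subgroup.closure_le]
    rintro _ (⟨c, rfl⟩ | ⟨c, rfl⟩) <;> rw [SetLike.mem_coe, Subgroup.mem_comap]
    · show P.rep hA.1 hB.1 _ * unip _ ∈ G
      rw [(rep_mul_cut P hA.1 hB.1 c).1]; exact hA.2 c
    · show P.rep hA.1 hB.1 _ * unip _ ∈ G
      rw [(rep_mul_cut P hA.1 hB.1 c).2]; exact hB.2 c
  have hfst : ∀ g ∈ pairGp k P.r, ∃ p ∈ H, p.1 = g := by
    intro g hg
    have hle : pairGp k P.r ≤ H.map (MonoidHom.fst _ _) := by
      rw [pairGp, Subgroup.closure_le]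
      rintro _ (⟨c, rfl⟩ | ⟨c, rfl⟩)
      · exact ⟨_, Subgroup.subset_closure (Or.inl ⟨c, rfl⟩), rfl⟩
      · exact ⟨_, Subgroup.subset_closure (Or.inr ⟨c, rfl⟩), rfl⟩
    obtain ⟨p, hp, hpe⟩ := hle hg
    exact ⟨p, hp, hpe⟩
  have hsnd : ∀ p ∈ H, (p.2 : LinearMap.GeneralLinearGroup k M) ∈ congrSub (pairSpan A0 B0) 1 := by
    intro p hp
    have hle : H ≤ (congrSub (pairSpan A0 B0) 1).comap (N0.subtype.comp (MonoidHom.snd _ _)) := by
      rw [Subgroup.closure_le]
      rintro _ (⟨c, rfl⟩ | ⟨c, rfl⟩)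
      · exact unip_mem_congrSub (Submodule.smul_mem _ c left_mem_pairSpan) (smul_sq (cut_sq hA.1 heA) c)
      · exact unip_mem_congrSub (Submodule.smul_mem _ c right_mem_pairSpan) (smul_sq (cut_sq hB.1 heB) c)
    exact hle hp
  have hr : IsUnit P.r := IsUnit.of_mul_eq_one_right P.ri P.jri
  obtain ⟨t, ht, ht2⟩ := exists_scalar h2 h3
  obtain ⟨D, hDm, hDup, hDlo⟩ := exists_torus h2 h3 hr P.gen ht
  obtain ⟨D', hD', hD'e⟩ := hfst D hDm
  have hdeep : ∀ (f : R → Matrix.SpecialLinearGroup (Fin 2) R) (s : k), s ≠ 0 → (∀ x, f x ∈ pairGp k P.r) →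
      (∀ x, D * f x * D⁻¹ * (f x)⁻¹ = f (algebraMap k R s * x)) →
      ∀ (n : ℕ) (x : R), ∃ p ∈ H, p.1 = f x ∧
        (p.2 : LinearMap.GeneralLinearGroup k M) ∈ congrSub (pairSpan A0 B0) (n + 1) := by
    intro f s hs hf hcf n
    induction n with
    | zero =>
      intro x
      obtain ⟨p, hp, hpe⟩ := hfst _ (hf x)
      exact ⟨p, hp, hpe, hsnd p hp⟩
    | succ n ih =>
      intro x
      obtain ⟨p, hp, hpe, hpc⟩ := ih (algebraMap k R s⁻¹ * x)
      refine ⟨D' * p * D'⁻¹ * p⁻¹, mul_mem (mul_mem (mul_mem hD' hp) (inv_mem hD')) (inv_mem hp), ?_, ?_⟩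
      · simp only [Prod.fst_mul, Prod.fst_inv, hD'e, hpe, hcf]
        rw [← mul_assoc, ← map_mul, mul_inv_cancel₀ hs, map_one, one_mul]
      · have := commutator_mem_congrSub (hsnd D' hD') hpc
        simp only [Prod.snd_mul, Prod.snd_inv, Subgroup.coe_mul, Subgroup.coe_inv]
        exact congrSub_cast (by omega) this
  have hbot : pairSpan A0 B0 ^ (2 * (P.m + 1) + 1) = ⊥ := by
    rw [eq_bot_iff]
    refine (pairSpan_pow_odd_le (cut_sq hA.1 heA) (cut_sq hB.1 heB) (P.m + 1)).trans ?_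
    have c1A : Commute (1 - P.j 1) A := (Commute.one_left A).sub_left heA
    have c1B : Commute (1 - P.j 1) B := (Commute.one_left B).sub_left heB
    have h1e : (1 - P.j 1) * (1 - P.j 1) = 1 - P.j 1 := by simp [mul_sub, sub_mul, hee]
    have hz0 : pairSum A0 B0 = pairSum A B * (1 - P.j 1) := by
      rw [pairSum, pairSum, hA0, hB0, mul_assoc A, ← mul_assoc (1 - P.j 1), c1B.eq, mul_assoc B, h1e,
        mul_assoc B (1 - P.j 1), ← mul_assoc (1 - P.j 1) A, c1A.eq, mul_assoc A (1 - P.j 1), h1e, add_mul]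
      simp only [mul_assoc]
    have hzc : Commute (pairSum A B) (1 - P.j 1) := (Commute.one_right _).sub_right (P.commZ 1).symm
    have hpow : ∀ i : ℕ, (1 - P.j 1) ^ i * (1 - P.j 1) = 1 - P.j 1 := by
      intro i
      induction i with
      | zero => simp
      | succ i ih => rw [pow_succ, mul_assoc, h1e]; exact ih
    rintro _ ⟨w, -, rfl⟩
    rw [mulLeft_apply, hz0, hzc.mul_pow, pow_succ (1 - P.j 1), hpow, P.nil, zero_mul]
    exact zero_mem _
  have htriv : ∀ p : Matrix.SpecialLinearGroup (Fin 2) R × N0,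
      (p.2 : LinearMap.GeneralLinearGroup k M) ∈ congrSub (pairSpan A0 B0) (2 * (P.m + 1) + 1) → p ∈ H →
      P.rep hA.1 hB.1 p.1 ∈ G := by
    intro p hp2 hp
    have h0 := hp2.1
    rw [degGE_eq_bot hbot le_rfl, Submodule.mem_bot, sub_eq_zero] at h0
    have h : P.rep hA.1 hB.1 p.1 * (p.2 : LinearMap.GeneralLinearGroup k M) ∈ G := hHG hp
    rwa [show (p.2 : LinearMap.GeneralLinearGroup k M) = 1 from Units.ext h0, mul_one] at h
  have hUG : ∀ y, P.rep hA.1 hB.1 (up y) ∈ G := fun y => by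
    obtain ⟨p, hp, hpe, hpc⟩ := hdeep up (t ^ 2 - 1) (sub_ne_zero.2 ht2) (fun x => up_mem h2 h3 hr P.gen x) hDup
      (2 * (P.m + 1)) y
    exact hpe ▸ htriv p hpc hp
  have hLG : ∀ y, P.rep hA.1 hB.1 (lo y) ∈ G := fun y => by
    obtain ⟨p, hp, hpe, hpc⟩ := hdeep lo (t⁻¹ ^ 2 - 1) (sub_ne_zero.2 (fun h' => ht2 (by
      rwa [inv_pow, inv_eq_one] at h'))) (fun x => lo_mem h2 h3 hr P.gen x) hDlo (2 * (P.m + 1)) y
    exact hpe ▸ htriv p hpc hp
  have hsq : ∀ X : Module.End k M, X * X = 0 → Commute (P.j x) X → (X * P.j x) * (X * P.j x) = 0 := fun X hX hc => by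
    rw [mul_assoc, ← mul_assoc (P.j x), hc.eq, mul_assoc X (P.j x), ← mul_assoc X X, hX, zero_mul]
  refine ⟨⟨hsq A hA.1 (P.commA x), fun c => ?_⟩, hsq B hB.1 (P.commB x), fun c => ?_⟩
  · have e' : unip (c • (A * P.j x)) = P.rep hA.1 hB.1 (up (c • x)) :=
      Units.ext (by rw [unip_val (smul_sq (hsq A hA.1 (P.commA x)) c), P.rep_up, map_smul, mul_smul_comm])
    rw [e']; exact hUG _
  · have e' : unip (c • (B * P.j x)) = P.rep hA.1 hB.1 (lo (P.r * (c • x))) :=
      Units.ext (by rw [unip_val (smul_sq (hsq B hB.1 (P.commB x)) c), P.rep_lo, ← mul_assoc, P.jri, one_mul,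
        map_smul, mul_smul_comm])
    rw [e']; exact hLG _

variable [FiniteDimensional k M]

theorem fix_of_mem {Y Z : Module.End k M} {e : Module.End k M} (hY : IsMinOp G Y) (hc : Commute e Y)
    (hmem : Y * Z ∈ opSet G) (hne : Y * Z ≠ 0) (heZ : e * Z = Z) : Y * e = Y := by
  have hr : range (Y * Z) = range Y :=
    Submodule.eq_of_le_of_finrank_le (range_comp_le_range _ _) (hY.2.2 _ hmem hne)
  refine LinearMap.ext fun w => ?_
  obtain ⟨w', hw'⟩ := hr.ge ⟨w, rfl⟩
  rw [← hc.eq, Module.End.mul_apply, ← hw', ← Module.End.mul_apply, ← mul_assoc, hc.eq, mul_assoc, heZ]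

/-- A non-nilpotent pair of minimal operators generates `SL₂` over a field `K = k(λ)`. -/
theorem exists_model (hA : IsMinOp G A) (hB : IsMinOp G B) (h2 : (2 : k) ≠ 0) (h3 : Nat.card k ≠ 3)
    (hn : ¬ IsNilpotent (pairSum A B)) :
    ∃ (K : Type u) (_ : Field K) (_ : Algebra k K) (_ : Module.Finite k K) (lam : K),
      lam ≠ 0 ∧ Algebra.adjoin k ({lam} : Set K) = ⊤ ∧
      ∃ Φ : Matrix.SpecialLinearGroup (Fin 2) K →* LinearMap.GeneralLinearGroup k M, Function.Injective Φ ∧
        (∀ c : k, Φ (up (algebraMap k K c)) = unip (c • A)) ∧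
        (∀ c : k, Φ (lo (algebraMap k K c * lam)) = unip (c • B)) ∧
        (∀ x : K, ∃ X ∈ opSpace hA.1, Φ (up x) = unip X) ∧ (∀ x : K, ∃ Y ∈ opSpace hB.1, Φ (lo x) = unip Y) ∧
        ∃ B' ∈ opSpace hB.1, A * B' * A = A ∧ B' * A * B' = B' := by
  obtain ⟨q, hq, ⟨P⟩⟩ := exists_corner A B hA.1.1 hB.1.1
  haveI : Module.Finite k (AdjoinRoot q) := (AdjoinRoot.powerBasis' hq).finite
  have hE := P.units_system hA.1.1 hB.1.1
  have hmem := corner_mem P hA.1 hB.1 h2 h3
  have he0 : P.j 1 ≠ 0 := fun h => hn ⟨P.m + 1, by simpa [h] using P.nil⟩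
  have hAe0 : A * P.j 1 ≠ 0 := by
    intro h
    apply he0
    rw [← hE.sum, ← hE.bc, ← hE.cb, h, zero_mul, mul_zero, add_zero]
  have hBe0 : B * P.j 1 ≠ 0 := by
    intro h
    apply he0
    have h' : B * P.j P.ri = 0 := by rw [← P.one_mul_j P.ri, ← mul_assoc, h, zero_mul]
    rw [← hE.sum, ← hE.bc, ← hE.cb, h', zero_mul, mul_zero, add_zero]
  have hAe : A * P.j 1 = A := fix_of_mem hA (P.commA 1) (hmem 1).1 hAe0 (P.j_mul_one 1)
  have hBe : B * P.j 1 = B := fix_of_mem hB (P.commB 1) (hmem 1).2 hBe0 (P.j_mul_one 1)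
  have hAinj : ∀ x, A * P.j x = 0 → x = 0 := by
    intro x h
    apply P.inj
    have h1 : A * B * P.j P.ri * P.j x = 0 := by
      rw [mul_assoc, ← P.mul, mul_comm, P.mul, mul_assoc, ← mul_assoc B, ← (P.commB x).eq, mul_assoc,
        ← mul_assoc A, h, zero_mul]
    have h2' : B * A * P.j P.ri * P.j x = 0 := by
      rw [mul_assoc, ← P.mul, mul_comm, P.mul, mul_assoc, ← mul_assoc A, h, zero_mul, mul_zero]
    rw [← P.one_mul_j x, ← hE.sum, add_mul, h1, h2', add_zero]
  have hdom : ∀ x y : AdjoinRoot q, x * y = 0 → x = 0 ∨ y = 0 := by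
    intro x y hxy
    by_contra hc
    rw [not_or] at hc
    have hr : range (A * P.j y) = range A := Submodule.eq_of_le_of_finrank_le (range_comp_le_range _ _)
      (hA.2.2 _ (hmem y).1 fun h => hc.2 (hAinj y h))
    apply hc.1
    apply hAinj
    refine LinearMap.ext fun w => ?_
    obtain ⟨w', hw'⟩ := hr.ge ⟨w, rfl⟩
    rw [← (P.commA x).eq, Module.End.mul_apply, ← hw', ← Module.End.mul_apply, ← mul_assoc, (P.commA x).eq, mul_assoc,
      ← P.mul, hxy, map_zero, mul_zero, LinearMap.zero_apply, LinearMap.zero_apply]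
  haveI : Nontrivial (AdjoinRoot q) := ⟨⟨1, 0, fun h => he0 (by rw [h, map_zero])⟩⟩
  haveI hdomI : IsDomain (AdjoinRoot q) := by
    haveI : NoZeroDivisors (AdjoinRoot q) := ⟨fun {a b} h => hdom a b h⟩
    exact NoZeroDivisors.to_isDomain _
  have hirr : Irreducible q := by
    have hp : (Ideal.span {q}).IsPrime := (Ideal.Quotient.isDomain_iff_prime _).1 hdomI
    exact ((Ideal.span_singleton_prime hq.ne_zero).1 hp).irreducible
  haveI : Fact (Irreducible q) := ⟨hirr⟩
  refine ⟨AdjoinRoot q, inferInstance, inferInstance, ‹_›, P.r,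
    fun h => one_ne_zero (α := AdjoinRoot q) (by rw [← P.jri, h, mul_zero]), P.gen, P.rep hA.1.1 hB.1.1,
    ?_, ?_, ?_, ?_, ?_, B * P.j P.ri, ?_, ?_, ?_⟩
  · intro g g' h
    refine Subtype.ext (unitsRep_injective P.j.toAddMonoidHom hE P.commute_units ?_ ?_ ?_ ?_ (congrArg Units.val h))
    all_goals intro x (hx : _ * P.j x = 0)
    · apply hAinj
      have := congrArg (· * (A * P.j 1)) hx
      simp only [zero_mul] at this
      rwa [mul_assoc, (P.commute_units x).2.1.eq, ← mul_assoc, hE.ab, mul_assoc, P.one_mul_j] at this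
    · apply hAinj
      rwa [hAe] at hx
    · apply hAinj
      have h' : A * B * P.j P.ri * P.j x = 0 := by
        rw [mul_assoc A B, mul_assoc A (B * P.j P.ri), hx, mul_zero]
      have := congrArg (· * (A * P.j 1)) h'
      simp only [zero_mul] at this
      rwa [mul_assoc, (P.commute_units x).2.1.eq, ← mul_assoc, hE.ab, mul_assoc, P.one_mul_j] at this
    · apply hAinj
      have := congrArg ((A * P.j 1) * ·) hx
      simp only [mul_zero] at this
      rwa [← mul_assoc, hE.bd, mul_assoc, P.one_mul_j] at this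
  · intro c
    refine Units.ext ?_
    rw [P.rep_up, unip_val (smul_sq hA.1.1 c), Algebra.algebraMap_eq_smul_one, map_smul, mul_smul_comm, hAe]
  · intro c
    refine Units.ext ?_
    rw [P.rep_lo, unip_val (smul_sq hB.1.1 c), mul_left_comm, P.jri, mul_one, Algebra.algebraMap_eq_smul_one,
      map_smul, mul_smul_comm, hBe]
  · intro x
    refine ⟨A * P.j x, ⟨(hmem x).1, range_comp_le_range _ _, fun w hw => ?_⟩, Units.ext ?_⟩
    · rw [mem_ker, ← (P.commA x).eq, Module.End.mul_apply, mem_ker.1 hw, map_zero]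
    · rw [P.rep_up, unip_val (hmem x).1.1]
  · intro x
    refine ⟨B * P.j (P.ri * x), ⟨(hmem _).2, range_comp_le_range _ _, fun w hw => ?_⟩, Units.ext ?_⟩
    · rw [mem_ker, ← (P.commB _).eq, Module.End.mul_apply, mem_ker.1 hw, map_zero]
    · rw [P.rep_lo, unip_val (hmem _).2.1]
  · refine ⟨(hmem _).2, range_comp_le_range _ _, fun w hw => ?_⟩
    rw [mem_ker, ← (P.commB _).eq, Module.End.mul_apply, mem_ker.1 hw, map_zero]
  · calc A * (B * P.j P.ri) * A = A * B * P.j P.ri * A := by rw [← mul_assoc]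
      _ = A * B * P.j P.ri * (A * P.j 1) := by rw [hAe]
      _ = A * P.j 1 := hE.ab
      _ = A := hAe
  · calc B * P.j P.ri * A * (B * P.j P.ri) = B * P.j P.ri * (A * P.j 1) * (B * P.j P.ri) := by rw [hAe]
      _ = B * P.j P.ri := by rw [hE.cb, hE.dc]

end CfsgLib.QuadPair
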